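import Mathlib.LinearAlgebra.Matrix.ToLin
import Mathlib.Algebra.CharP.Lemmas
import Mathlib.Algebra.CharP.Two
import Mathlib.LinearAlgebra.Matrix.CharP
import Mathlib.Data.ZMod.Basic
import Mathlib.Tactic

/-!
# A commutant over the field with two elements, cut down by an invariant bilinear form

`C` has period eleven, `e` is the sum of its powers, `1 + e` its complementary projection.
-/

set_option autoImplicit false
set_option linter.unusedSectionVars false

namespace CfsgLib.JFourFacts

open Matrix Finset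

variable {n : Type*} [Fintype n] [DecidableEq n] [Nonempty n]

/-- The sum of the first eleven powers. -/
def powSum (C : Matrix n n (ZMod 2)) : Matrix n n (ZMod 2) := ∑ i ∈ range 11, C ^ i

variable {C : Matrix n n (ZMod 2)}

theorem two_eq_zero (M : Matrix n n (ZMod 2)) : M + M = 0 :=
  Matrix.ext fun i j => CharTwo.add_self_eq_zero (M i j)

theorem commute_powSum {X : Matrix n n (ZMod 2)} (h : Commute X C) : Commute X (powSum C) :=
  Commute.sum_right _ _ _ fun i _ => h.pow_right i

theorem mul_powSum (hC : C ^ 11 = 1) : C * powSum C = powSum C := by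
  have h1 : C * powSum C + 1 = powSum C + C ^ 11 := by
    rw [powSum, Finset.mul_sum]
    simp only [← pow_succ']
    rw [← pow_zero C, ← Finset.sum_range_succ' (fun i => C ^ i), Finset.sum_range_succ]
  rw [hC] at h1
  exact add_right_cancel h1

theorem powSum_mul_self (hC : C ^ 11 = 1) : powSum C * powSum C = powSum C := by
  have h : ∀ i : ℕ, C ^ i * powSum C = powSum C := by
    intro i
    induction i with
    | zero => rw [pow_zero, one_mul]
    | succ i ih => rw [pow_succ, mul_assoc, mul_powSum hC, ih]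
  conv_lhs => arg 1; rw [powSum]
  rw [Finset.sum_mul, Finset.sum_congr rfl fun i _ => h i, Finset.sum_const, Finset.card_range]
  rw [show (11 : ℕ) • powSum C = powSum C + 5 • (powSum C + powSum C) by abel, two_eq_zero,
    smul_zero, add_zero]

theorem comp_mul_self (hC : C ^ 11 = 1) : (1 + powSum C) * (1 + powSum C) = 1 + powSum C := by
  rw [mul_add, mul_one, add_mul, one_mul, powSum_mul_self hC, two_eq_zero, add_zero]

theorem sum_pow_two {ι : Type*} (s : Finset ι) (f : ι → Matrix n n (ZMod 2))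
    (hc : ∀ i j, Commute (f i) (f j)) : (∑ i ∈ s, f i) ^ 32 = ∑ i ∈ s, f i ^ 32 := by
  classical
  induction s using Finset.induction with
  | empty => simp
  | insert a s ha ih =>
    rw [Finset.sum_insert ha, Finset.sum_insert ha, show 32 = 2 ^ 5 from rfl,
      add_pow_char_pow_of_commute (p := 2) (n := 5) (Commute.sum_right _ _ _ fun i _ => hc a i),
      show 2 ^ 5 = 32 from rfl, ih]

theorem poly_form {ι : Type*} (s : Finset ι) (p : ι → ZMod 2) (k : ι → ℕ)
    {B : Matrix n n (ZMod 2)} (hC : C ^ 11 = 1) (hB : C * B * Cᵀ = B) :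
    B * (∑ i ∈ s, p i • C ^ k i)ᵀ = (∑ i ∈ s, p i • C ^ k i) ^ 32 * B := by
  have h1 : B * Cᵀ = C ^ 10 * B := by
    calc B * Cᵀ = C ^ 11 * (B * Cᵀ) := by rw [hC, one_mul]
      _ = C ^ 10 * (C * B * Cᵀ) := by rw [pow_succ C 10]; simp only [mul_assoc]
      _ = C ^ 10 * B := by rw [hB]
  have h2 : ∀ i : ℕ, B * Cᵀ ^ i = (C ^ 10) ^ i * B := by
    intro i
    induction i with
    | zero => simp
    | succ i ih => rw [pow_succ, ← mul_assoc, ih, mul_assoc, h1, ← mul_assoc, ← pow_succ]
  have h3 : ∀ c : ZMod 2, c ^ 32 = c := by decide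
  rw [sum_pow_two s _ fun i j => ((Commute.refl C).pow_pow _ _).smul_left _ |>.smul_right _,
    Matrix.transpose_sum, Finset.mul_sum, Finset.sum_mul]
  refine Finset.sum_congr rfl fun i _ => ?_
  rw [Matrix.transpose_smul, Matrix.transpose_pow, Matrix.mul_smul, h2, smul_pow, h3, Matrix.smul_mul,
    ← pow_mul, ← pow_mul]
  congr 2
  rw [show k i * 32 = 11 * (2 * k i) + 10 * k i by ring, pow_add, pow_mul C 11, hC, one_pow, one_mul, pow_mul]

theorem commute_poly {ι : Type*} (s : Finset ι) (p : ι → ZMod 2) (k : ι → ℕ) {Y : Matrix n n (ZMod 2)}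
    (h : Commute C Y) : Commute (∑ i ∈ s, p i • C ^ k i) Y :=
  Commute.sum_left _ _ _ fun _ _ => (h.pow_left _).smul_left _

/-- Equal actions on a generating row give equal actions on the rows it generates. -/
theorem rows_eq {ι : Type*} (s : Finset ι) (p : ι → ZMod 2) (k : ι → ℕ) {B X M : Matrix n n (ZMod 2)}
    {v : n → ZMod 2} (hXC : Commute X C) (hXB : Commute X B) (hCB : Commute C B)
    (hM : ∀ r, M r = 0 ∨ ∃ i j, M r = v ᵥ* (C ^ i * B ^ j))
    (hv : v ᵥ* X = v ᵥ* ∑ i ∈ s, p i • C ^ k i) : M * X = M * ∑ i ∈ s, p i • C ^ k i := by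
  refine Matrix.ext fun r c => ?_
  rw [Matrix.mul_apply_eq_vecMul, Matrix.mul_apply_eq_vecMul]
  refine congrFun ?_ c
  rcases hM r with h | ⟨i, j, h⟩
  · rw [h, Matrix.zero_vecMul, Matrix.zero_vecMul]
  · rw [h, Matrix.vecMul_vecMul, Matrix.vecMul_vecMul, ← ((hXC.pow_right i).mul_right (hXB.pow_right j)).eq,
      ← (commute_poly s p k (((Commute.refl C).pow_right i).mul_right (hCB.pow_right j))).eq,
      ← Matrix.vecMul_vecMul, hv, Matrix.vecMul_vecMul]

theorem fixed_pow {A : Matrix n n (ZMod 2)} {v : n → ZMod 2} (h : Commute C A) (hv : v ᵥ* A = v) (i : ℕ) :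
    v ᵥ* C ^ i ᵥ* A = v ᵥ* C ^ i := by
  rw [Matrix.vecMul_vecMul, (h.pow_left i).eq, ← Matrix.vecMul_vecMul, hv]

theorem vecMul_powSum_of_fixed {v : n → ZMod 2} (hv : v ᵥ* C = v) : v ᵥ* powSum C = v := by
  have hk : ∀ m : ℕ, v ᵥ* C ^ m = v := by
    intro m
    induction m with
    | zero => rw [pow_zero, Matrix.vecMul_one]
    | succ m ih => rw [pow_succ, ← Matrix.vecMul_vecMul, ih, hv]
  rw [powSum, Matrix.vecMul_sum, Finset.sum_congr rfl fun m _ => hk m, Finset.sum_const, Finset.card_range]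
  funext j
  have : ∀ a : ZMod 2, (11 : ℕ) • a = a := by decide
  exact this _

theorem powSum_form {B : Matrix n n (ZMod 2)} (hC : C ^ 11 = 1) (hB : C * B * Cᵀ = B) :
    B * (1 + powSum C)ᵀ = (1 + powSum C) * B := by
  have h := poly_form (range 11) (fun _ => 1) id hC hB
  simp only [one_smul, id] at h
  have h32 : powSum C ^ 32 = powSum C :=
    (IsIdempotentElem.pow_succ_eq 31 (powSum_mul_self hC) : _)
  rw [Matrix.transpose_add, Matrix.transpose_one, mul_add, mul_one, add_mul, one_mul]
  rw [show powSum C = ∑ i ∈ range 11, C ^ i from rfl] at h32 ⊢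
  rw [h, h32]

/-- An element of period prime to 33 in the commutant preserving the form is trivial off the fixed space. -/
theorem comp_mul_eq {ι : Type*} (s : Finset ι) (p : ι → ZMod 2) (k : ι → ℕ)
    {B B' X : Matrix n n (ZMod 2)} (hC : C ^ 11 = 1) (hB : C * B * Cᵀ = B) (hB' : B * B' = 1)
    (hX : X * B * Xᵀ = B) (hXC : Commute X C)
    (hXP : (1 + powSum C) * X = (1 + powSum C) * ∑ i ∈ s, p i • C ^ k i)
    {q : ℕ} (hq : Nat.Coprime q 33) (hXq : X ^ q = 1) :
    (1 + powSum C) * X = 1 + powSum C := by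
  generalize hPdef : ∑ i ∈ s, p i • C ^ k i = P at hXP
  have hform : B * Pᵀ = P ^ 32 * B := hPdef ▸ poly_form s p k hC hB
  have hPC : Commute P C := hPdef ▸
    Commute.sum_left _ _ _ fun i _ => ((Commute.refl C).pow_left _).smul_left _
  generalize hE : 1 + powSum C = E at hXP ⊢
  have hEE : E * E = E := hE ▸ comp_mul_self hC
  have hPE : Commute P E := hE ▸ (Commute.one_right P).add_right (commute_powSum hPC)
  have hXP' : Commute X P := hPdef ▸
    Commute.sum_right _ _ _ fun i _ => (hXC.pow_right _).smul_right _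
  have hBE : B * Eᵀ = E * B := hE ▸ powSum_form hC hB
  have hn : ∀ m : ℕ, E * X ^ m = E * P ^ m := by
    intro m
    induction m with
    | zero => rw [pow_zero, pow_zero]
    | succ m ih =>
      rw [pow_succ, ← mul_assoc, ih, mul_assoc, ← (hXP'.pow_right m).eq, ← mul_assoc, hXP, mul_assoc,
        pow_succ']
  have h33 : E * P ^ 33 = E := by
    have h1 : E * X * B * (E * X)ᵀ = E * B := by
      rw [Matrix.transpose_mul,
        show E * X * B * (Xᵀ * Eᵀ) = E * (X * B * Xᵀ) * Eᵀ by simp only [mul_assoc],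
        hX, mul_assoc, hBE, ← mul_assoc, hEE]
    rw [hXP, Matrix.transpose_mul,
      show E * P * B * (Pᵀ * Eᵀ) = E * P * (B * Pᵀ) * Eᵀ by simp only [mul_assoc], hform,
      show E * P * (P ^ 32 * B) * Eᵀ = E * (P * P ^ 32) * (B * Eᵀ) by simp only [mul_assoc],
      hBE, ← pow_succ', mul_assoc E, ← mul_assoc (P ^ (32 + 1)),
      (hPE.pow_left (32 + 1)).eq] at h1
    rw [← mul_assoc E, ← mul_assoc E, hEE] at h1
    have := congrArg (· * B') h1
    simpa only [mul_assoc, hB', mul_one] using this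
  have hq' : E * P ^ q = E := by rw [← hn, hXq, mul_one]
  have hpow : ∀ (a m : ℕ), E * P ^ a = E → E * P ^ (a * m) = E := by
    intro a m ha
    induction m with
    | zero => rw [mul_zero, pow_zero, mul_one]
    | succ m ih => rw [mul_add, mul_one, pow_add, ← mul_assoc, ih, ha]
  obtain ⟨j, hj⟩ := Nat.exists_mul_mod_eq_one_of_coprime hq (by norm_num)
  have hkey := hpow q j hq'
  rw [← Nat.div_add_mod (q * j) 33, hj.2, pow_add, ← mul_assoc, hpow 33 _ h33, pow_one] at hkey
  rw [hXP, hkey]

end CfsgLib.JFourFacts
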