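import Cfsg.Agent.JFourFacts.ElevenCentralizer
import Mathlib.LinearAlgebra.Matrix.GeneralLinearGroup.Card

/-!
# The normalizer of the Sylow 11-subgroup acts on its quotient by the centre
-/

set_option autoImplicit false
set_option maxRecDepth 100000

namespace CfsgLib.JFourFacts

open Matrix

variable {G : Type*} [Group G]

namespace Heis

variable (h : Heis G)

open Classical in
/-- The coordinates modulo the centre. -/
noncomputable def coord (g : G) : Fin 2 → ZMod 11 :=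
  if hg : ∃ t : Fin 11 × Fin 11 × Fin 11, h.nf t.1.val t.2.1.val t.2.2.val = g then
    ![(hg.choose.1.val : ZMod 11), (hg.choose.2.1.val : ZMod 11)]
  else 0

theorem coord_nf (i k l : ℕ) : h.coord (h.nf i k l) = ![(i : ZMod 11), (k : ZMod 11)] := by
  have hg : ∃ t : Fin 11 × Fin 11 × Fin 11, h.nf t.1.val t.2.1.val t.2.2.val = h.nf i k l :=
    ⟨(⟨i % 11, Nat.mod_lt _ (by norm_num)⟩, ⟨k % 11, Nat.mod_lt _ (by norm_num)⟩,
      ⟨l % 11, Nat.mod_lt _ (by norm_num)⟩), (h.nf_mod i k l).symm⟩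
  rw [coord, dif_pos hg]
  have := h.nf_injective (a₁ := hg.choose) (a₂ := (⟨i % 11, Nat.mod_lt _ (by norm_num)⟩,
    ⟨k % 11, Nat.mod_lt _ (by norm_num)⟩, ⟨l % 11, Nat.mod_lt _ (by norm_num)⟩))
    (hg.choose_spec.trans (h.nf_mod i k l))
  rw [congrArg Prod.fst this, congrArg (fun t => t.2.1) this]
  simp only [ZMod.natCast_mod]

theorem coord_mul {g g' : G} (hg : g ∈ h.sub) (hg' : g' ∈ h.sub) :
    h.coord (g * g') = h.coord g + h.coord g' := by
  obtain ⟨i, k, l, rfl⟩ := hg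
  obtain ⟨i', k', l', rfl⟩ := hg'
  rw [h.nf_mul, coord_nf, coord_nf, coord_nf]
  ext a
  fin_cases a <;> simp

theorem coord_pow {g : G} (hg : g ∈ h.sub) : ∀ n : ℕ, h.coord (g ^ n) = (n : ZMod 11) • h.coord g
  | 0 => by
    rw [pow_zero, Nat.cast_zero, zero_smul, ← h.nf_zero, coord_nf]
    ext a
    fin_cases a <;> simp
  | n + 1 => by
    rw [pow_succ, h.coord_mul (pow_mem hg n) hg, coord_pow hg n, Nat.cast_succ, add_smul, one_smul]

theorem y_mem : h.y ∈ h.sub := ⟨1, 0, 0, h.nf_one_y⟩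

theorem b_mem : h.b ∈ h.sub := ⟨0, 1, 0, h.nf_one_b⟩

theorem c_mem : h.c ∈ h.sub := ⟨0, 0, 1, h.nf_one_c⟩

section

variable {n : G} (hn : n ∈ Subgroup.normalizer (h.sub : Set G))
include hn

theorem conj_mem {g : G} (hg : g ∈ h.sub) : n * g * n⁻¹ ∈ h.sub :=
  (Subgroup.mem_normalizer_iff.1 hn g).1 hg

theorem coord_conj_c : h.coord (n * h.c * n⁻¹) = 0 := by
  have e : n * h.b * n⁻¹ * (n * h.y * n⁻¹) = n * h.c * n⁻¹ * (n * h.y * n⁻¹) * (n * h.b * n⁻¹) := by
    rw [show n * h.b * n⁻¹ * (n * h.y * n⁻¹) = n * (h.b * h.y) * n⁻¹ by group, h.rel]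
    group
  have hy := h.conj_mem hn h.y_mem
  have hb := h.conj_mem hn h.b_mem
  have hc := h.conj_mem hn h.c_mem
  have e' := congrArg h.coord e
  rw [h.coord_mul hb hy, h.coord_mul (mul_mem hc hy) hb, h.coord_mul hc hy, add_assoc,
    add_comm (h.coord (n * h.y * n⁻¹))] at e'
  exact right_eq_add.1 e'

theorem coord_conj {g : G} (hg : g ∈ h.sub) :
    h.coord (n * g * n⁻¹) =
      h.coord g 0 • h.coord (n * h.y * n⁻¹) + h.coord g 1 • h.coord (n * h.b * n⁻¹) := by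
  obtain ⟨i, k, l, rfl⟩ := hg
  have hy := h.conj_mem hn h.y_mem
  have hb := h.conj_mem hn h.b_mem
  have hc := h.conj_mem hn h.c_mem
  have e : n * h.nf i k l * n⁻¹ = (n * h.y * n⁻¹) ^ i * (n * h.b * n⁻¹) ^ k * (n * h.c * n⁻¹) ^ l := by
    rw [conj_pow, conj_pow, conj_pow, nf]
    group
  rw [e, h.coord_mul (mul_mem (pow_mem hy i) (pow_mem hb k)) (pow_mem hc l),
    h.coord_mul (pow_mem hy i) (pow_mem hb k), h.coord_pow hy, h.coord_pow hb, h.coord_pow hc,
    h.coord_conj_c hn, smul_zero, add_zero, coord_nf]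
  simp

end

/-- The matrix of the action. -/
noncomputable def actMat (n : G) : Matrix (Fin 2) (Fin 2) (ZMod 11) :=
  Matrix.of ![h.coord (n * h.y * n⁻¹), h.coord (n * h.b * n⁻¹)]

theorem actMat_mul {n m : G} (hn : n ∈ Subgroup.normalizer (h.sub : Set G))
    (hm : m ∈ Subgroup.normalizer (h.sub : Set G)) : h.actMat (n * m) = h.actMat m * h.actMat n := by
  refine Matrix.ext (Fin.forall_fin_two.2 ⟨fun j => ?_, fun j => ?_⟩)
  · rw [Matrix.mul_apply, Fin.sum_univ_two]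
    simp only [actMat, Matrix.of_apply, Matrix.cons_val_zero, Matrix.cons_val_one]
    rw [show n * m * h.y * (n * m)⁻¹ = n * (m * h.y * m⁻¹) * n⁻¹ by group,
      h.coord_conj hn (h.conj_mem hm h.y_mem)]
    rfl
  · rw [Matrix.mul_apply, Fin.sum_univ_two]
    simp only [actMat, Matrix.of_apply, Matrix.cons_val_zero, Matrix.cons_val_one]
    rw [show n * m * h.b * (n * m)⁻¹ = n * (m * h.b * m⁻¹) * n⁻¹ by group,
      h.coord_conj hn (h.conj_mem hm h.b_mem)]
    rfl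

theorem actMat_one : h.actMat 1 = 1 := by
  refine Matrix.ext (Fin.forall_fin_two.2 ⟨fun j => ?_, fun j => ?_⟩)
  · simp only [actMat, Matrix.of_apply, Matrix.cons_val_zero, one_mul, inv_one, mul_one]
    rw [← h.nf_one_y, coord_nf]
    fin_cases j <;> simp [Matrix.one_apply]
  · simp only [actMat, Matrix.of_apply, Matrix.cons_val_one, Matrix.cons_val_zero, one_mul, inv_one,
      mul_one]
    rw [← h.nf_one_b, coord_nf]
    fin_cases j <;> simp [Matrix.one_apply]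

/-- The action of the normalizer. -/
noncomputable def actHom : ↥(Subgroup.normalizer (h.sub : Set G)) →* GL (Fin 2) (ZMod 11) :=
  MonoidHom.toHomUnits
    { toFun := fun n => h.actMat (n : G)⁻¹
      map_one' := by simp only [OneMemClass.coe_one, inv_one, actMat_one]
      map_mul' := fun a b => by
        rw [Subgroup.coe_mul, _root_.mul_inv_rev, h.actMat_mul (inv_mem b.2) (inv_mem a.2)] }

theorem nf_of_coord {g : G} (hg : g ∈ h.sub) (i k : ℕ) (hc : h.coord g = ![(i : ZMod 11), (k : ZMod 11)]) :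
    ∃ l, g = h.nf i k l := by
  obtain ⟨i', k', l, rfl⟩ := hg
  rw [coord_nf] at hc
  refine ⟨l, ?_⟩
  have h1 := (ZMod.natCast_eq_natCast_iff' _ _ _).1 (congrFun hc 0)
  have h2 := (ZMod.natCast_eq_natCast_iff' _ _ _).1 (congrFun hc 1)
  rw [h.nf_mod i' k' l, h1, h2, ← h.nf_mod]

theorem ker_actHom {n : ↥(Subgroup.normalizer (h.sub : Set G))}
    (hker : ∀ x : G, Commute x h.y → Commute x h.b → ∃ l, x = h.c ^ l) (hn : n ∈ h.actHom.ker) :
    (n : G) ∈ h.sub := by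
  obtain ⟨g, hg, hgn⟩ : ∃ g : G, g ∈ Subgroup.normalizer (h.sub : Set G) ∧ g = (n : G)⁻¹ :=
    ⟨_, inv_mem n.2, rfl⟩
  suffices g ∈ h.sub by rw [hgn] at this; simpa using this
  have hm : h.actMat g = 1 := by
    rw [hgn]
    exact congrArg Units.val (MonoidHom.mem_ker.1 hn)
  have r0 : h.coord (g * h.y * g⁻¹) = ![((1 : ℕ) : ZMod 11), ((0 : ℕ) : ZMod 11)] := by
    refine (congrFun hm 0).trans ?_
    ext a
    fin_cases a <;> simp [Matrix.one_apply]
  have r1 : h.coord (g * h.b * g⁻¹) = ![((0 : ℕ) : ZMod 11), ((1 : ℕ) : ZMod 11)] := by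
    refine (congrFun hm 1).trans ?_
    ext a
    fin_cases a <;> simp [Matrix.one_apply]
  obtain ⟨p, hp⟩ := h.nf_of_coord (h.conj_mem hg h.y_mem) 1 0 r0
  obtain ⟨q, hq⟩ := h.nf_of_coord (h.conj_mem hg h.b_mem) 0 1 r1
  obtain ⟨u, hu⟩ : ∃ u, u = h.nf (10 * q) p 0 := ⟨_, rfl⟩
  have huy : u * h.y * u⁻¹ = g * h.y * g⁻¹ := by
    rw [hp, mul_inv_eq_iff_eq_mul, hu, ← h.nf_one_y, h.nf_mul, h.nf_mul]
    congr 1 <;> ring
  have hub : u * h.b * u⁻¹ = g * h.b * g⁻¹ := by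
    rw [hq, mul_inv_eq_iff_eq_mul, hu, ← h.nf_one_b, h.nf_mul, h.nf_mul]
    rw [h.nf_mod, h.nf_mod (0 + 10 * q)]
    congr 1 <;> omega
  have key : ∀ a : G, u * a * u⁻¹ = g * a * g⁻¹ → Commute (u⁻¹ * g) a := fun a ha => by
    show u⁻¹ * g * a = a * (u⁻¹ * g)
    calc u⁻¹ * g * a = u⁻¹ * (g * a * g⁻¹) * g := by group
      _ = u⁻¹ * (u * a * u⁻¹) * g := by rw [ha]
      _ = _ := by group
  obtain ⟨l, hl⟩ := hker _ (key _ huy) (key _ hub)
  rw [show g = u * (u⁻¹ * g) by group, hl, hu]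
  exact mul_mem (h.nf_mem _ _ _) (pow_mem h.c_mem l)

theorem card_normalizer_dvd [Finite G]
    (hker : ∀ x : G, Commute x h.y → Commute x h.b → ∃ l, x = h.c ^ l) :
    Nat.card ↥(Subgroup.normalizer (h.sub : Set G)) ∣ 11 ^ 3 * 13200 := by
  rw [← Subgroup.index_mul_card h.actHom.ker, Subgroup.index_ker, mul_comm]
  refine mul_dvd_mul ?_ ?_
  · rw [← h.card_sub]
    rw [← Subgroup.card_map_of_injective (Subgroup.normalizer (h.sub : Set G)).subtype_injective]
    refine Subgroup.card_dvd_of_le ?_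
    rintro _ ⟨n, hn, rfl⟩
    exact h.ker_actHom hker hn
  · haveI : Fact (Nat.Prime 11) := ⟨by norm_num⟩
    have hGL : Nat.card (GL (Fin 2) (ZMod 11)) = 13200 := by
      rw [Matrix.card_GL_field, Fin.prod_univ_two]
      simp [ZMod.card]
    rw [← hGL]
    exact Subgroup.card_subgroup_dvd_card _

end Heis

end CfsgLib.JFourFacts
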