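import Cfsg.Agent.JFourFacts.ElevenGroup
import Cfsg.Agent.JFourSeven.HSide
import Cfsg.Agent.S5563
import Cfsg.Agent.S5564
import Mathlib.GroupTheory.Perm.Cycle.Type

/-!
# The centralizer of the Sylow 11-subgroup is its centre

An element of prime order other than eleven commuting with the subgroup is trivial off the two-dimensional
fixed space of the centre; an element of order three normalizing the subgroup turns such an involution into
an element of order three, and those are centralized by no subgroup of order `11³`.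
-/

set_option autoImplicit false
set_option maxRecDepth 100000
set_option linter.style.haveILetI false

namespace CfsgLib.JFourFacts

open Matrix CfsgLib.JFourType

theorem no_three {G : Type*} [Group G] [Finite G] [IsSimpleGroup G] (hG : ¬ IsMulCommutative G)
    (hJ : Cfsg.IsOfJankoFourType G) {x : G} (hx : orderOf x = 3) :
    ¬ 11 ^ 3 ∣ Nat.card (Subgroup.centralizer ({x} : Set G)) := by
  intro hd
  obtain ⟨z, P, hP⟩ := hJ
  obtain ⟨S, hSz, hSP⟩ := Shape.exists_of_isOfJankoFourTypeWith hP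
  have hN := (Cfsg.Agent.S5563.result hG z P hP).2.2.2.2
  have hP3 : Nat.card P = 3 := hP.2.2.2.2.2.1
  have hp : orderOf S.p = 3 := by rw [← Nat.card_zpowers, hSP, hP3]
  obtain ⟨g, hg⟩ := isConj_iff.1 (Cfsg.Agent.S5564.result hG ⟨z, P, hP⟩ x S.p hx hp)
  have hle : (Subgroup.centralizer ({x} : Set G)).map (MulAut.conj g).toMonoidHom ≤ S.H := by
    rintro _ ⟨a, ha, rfl⟩
    have hap : g * a * g⁻¹ ∈ Subgroup.centralizer ({S.p} : Set G) := by
      rw [Subgroup.mem_centralizer_singleton_iff, ← hg,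
        show g * a * g⁻¹ * (g * x * g⁻¹) = g * (a * x) * g⁻¹ by group,
        Subgroup.mem_centralizer_singleton_iff.1 ha]
      group
    have hnorm : g * a * g⁻¹ ∈ Subgroup.normalizer (P : Set G) := by
      rw [← hSP]
      refine Subgroup.centralizer_le_normalizer _ (Subgroup.mem_centralizer_iff.2 ?_)
      rintro y ⟨n, rfl⟩
      exact (((show Commute (g * a * g⁻¹) S.p from
        Subgroup.mem_centralizer_singleton_iff.1 hap).zpow_right n).eq).symm
    have := hN hnorm
    rw [← hSz] at this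
    exact this
  have h1 := Subgroup.card_dvd_of_le hle
  rw [Subgroup.card_map_of_injective (MulAut.conj g).injective, CfsgLib.JFourSeven.card_H] at h1
  exact absurd (hd.trans h1) (by norm_num)

theorem two_by_two_pow : ∀ M N : Matrix (Fin 2) (Fin 2) (ZMod 2), M * N = 1 → M ^ 6 = 1 := by
  decide +kernel

theorem two_by_two_inv : ∀ M : Matrix (Fin 2) (Fin 2) (ZMod 2), !![1, 1; 1, 0] * M = 1 →
    M = !![0, 1; 1, 1] := by
  decide +kernel

theorem two_by_two_conj : ∀ M : Matrix (Fin 2) (Fin 2) (ZMod 2), M * M = 1 → M ≠ 1 →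
    M * (!![1, 1; 1, 0] * M * !![0, 1; 1, 1]) ≠ 1 ∧
      (M * (!![1, 1; 1, 0] * M * !![0, 1; 1, 1])) ^ 3 = 1 := by
  decide +kernel

theorem tm15_pow {G : Type*} [Group G] (E : Env G) : tm 15 ^ 11 = 1 := by
  rw [← E.val_tm (by norm_num : 15 < 96), ← Units.val_pow_eq_pow_val, ← map_pow]
  have := E.heis.c_pow
  simp only [Env.heis] at this
  rw [this, map_one, Units.val_one]

namespace Env

variable {G : Type*} [Group G] (E : Env G)

/-- The action on the fixed space of the centre. -/
def fixMat (g : G) : Matrix (Fin 2) (Fin 2) (ZMod 2) := fixRows * (E.ρ g).val * fixCoord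

theorem commute_val {g : G} {c : ℕ} (hc : c < 96) (h : Commute g (E.e c)) :
    Commute (E.ρ g).val (tm c) := by
  have := congrArg Units.val ((congrArg E.ρ h.eq : E.ρ (g * E.e c) = E.ρ (E.e c * g)))
  rw [map_mul, map_mul, Units.val_mul, Units.val_mul, E.val_tm hc] at this
  exact this

theorem fixMat_one : E.fixMat 1 = 1 := by
  rw [fixMat, map_one, Units.val_one, Matrix.mul_one]
  exact fix_values.1

theorem coord_powSum : powSum (tm 15) * fixCoord = fixCoord := by
  rw [← fixCoord_mul, Matrix.mul_assoc, fix_values.1, Matrix.mul_one]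

theorem fixMat_mul {g h : G} (hh : Commute h (E.e 15)) :
    E.fixMat (g * h) = E.fixMat g * E.fixMat h := by
  have e := (commute_powSum (E.commute_val (by norm_num) hh)).eq
  symm
  calc E.fixMat g * E.fixMat h
      = fixRows * (E.ρ g).val * (fixCoord * fixRows * (E.ρ h).val) * fixCoord := by
        simp only [fixMat, Matrix.mul_assoc]
    _ = fixRows * (E.ρ g).val * ((E.ρ h).val * powSum (tm 15)) * fixCoord := by rw [fixCoord_mul, e]
    _ = fixRows * (E.ρ g).val * (E.ρ h).val * (powSum (tm 15) * fixCoord) := by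
        simp only [Matrix.mul_assoc]
    _ = E.fixMat (g * h) := by
        rw [coord_powSum, fixMat, map_mul, Units.val_mul]
        simp only [Matrix.mul_assoc]

theorem fixMat_pow {g : G} (hg : Commute g (E.e 15)) : ∀ n : ℕ, E.fixMat (g ^ n) = E.fixMat g ^ n
  | 0 => by rw [pow_zero, pow_zero, E.fixMat_one]
  | n + 1 => by rw [pow_succ, pow_succ, E.fixMat_mul hg, fixMat_pow hg n]

/-- The elements commuting with the subgroup and trivial off the fixed space. -/
def Small (x : G) : Prop :=
  Commute x (E.e 15) ∧ (1 + powSum (tm 15)) * (E.ρ x).val = 1 + powSum (tm 15)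

theorem small_mul {x x' : G} (h : E.Small x) (h' : E.Small x') : E.Small (x * x') :=
  ⟨h.1.mul_left h'.1, by rw [map_mul, Units.val_mul, ← mul_assoc, h.2, h'.2]⟩

theorem small_pow {x : G} (h : E.Small x) : ∀ n : ℕ, E.Small (x ^ n)
  | 0 => ⟨by rw [pow_zero]; exact Commute.one_left _, by
      rw [pow_zero, map_one, Units.val_one, mul_one]⟩
  | n + 1 => by rw [pow_succ]; exact E.small_mul (small_pow h n) h

theorem small_ext {x : G} (h : E.Small x) (hm : E.fixMat x = 1) : x = 1 := by
  refine E.inj (Units.ext ?_)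
  rw [map_one, Units.val_one]
  have hX := (commute_powSum (E.commute_val (by norm_num) h.1)).eq
  have e0 : powSum (tm 15) * (E.ρ x).val = powSum (tm 15) := by
    calc powSum (tm 15) * (E.ρ x).val
        = powSum (tm 15) * powSum (tm 15) * (E.ρ x).val := by rw [powSum_mul_self (tm15_pow E)]
      _ = powSum (tm 15) * (E.ρ x).val * powSum (tm 15) := by
        rw [mul_assoc, mul_assoc]
        exact congrArg (powSum (tm 15) * ·) hX.symm
      _ = fixCoord * fixRows * (E.ρ x).val * (fixCoord * fixRows) := by rw [fixCoord_mul]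
      _ = fixCoord * (E.fixMat x * fixRows) := by simp only [fixMat, Matrix.mul_assoc]
      _ = powSum (tm 15) := by rw [hm, Matrix.one_mul, fixCoord_mul]
  have h2 := h.2
  rw [add_mul, one_mul, e0] at h2
  exact add_right_cancel h2

theorem small_of_commute {x : G} (hy : Commute x (E.e 17)) (hb : Commute x (E.e 16))
    {q : ℕ} (hq : Nat.Coprime q 33) (hxq : x ^ q = 1) : E.Small x := by
  have hc : Commute x (E.e 15) := by
    have e : E.e 15 = E.e 16 * E.e 17 * (E.e 17 * E.e 16)⁻¹ := by
      rw [E.u_rels.2.2.1, mul_assoc (E.e 15), mul_inv_cancel_right]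
    rw [e]
    exact (hb.mul_right hy).mul_right ((hy.mul_right hb).inv_right)
  obtain ⟨p, hp⟩ := exists_poly (E.commute_val (by norm_num) hc) (E.commute_val (by norm_num) hb)
    (E.commute_val (by norm_num) hy)
    (by
      have := E.commute_val (g := E.e 15) (by norm_num : 16 < 96) E.u_rels.2.2.2.2
      rwa [E.val_tm (by norm_num)] at this)
  have hform : ∀ g, (E.ρ g).val * tm 104 * (E.ρ g).valᵀ = tm 104 := fun g => by
    rw [tm_eq]; exact E.form g
  refine ⟨hc, comp_mul_eq Finset.univ p (fun i => i.val) (tm15_pow E) ?_ tm_form_inv (hform x)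
    (E.commute_val (by norm_num) hc) hp hq ?_⟩
  · have := hform (E.e 15)
    rwa [E.val_tm (by norm_num)] at this
  · rw [← Units.val_pow_eq_pow_val, ← map_pow, hxq, map_one, Units.val_one]

/-- No element of prime order other than eleven centralizes the subgroup. -/
theorem no_prime [Finite G] [IsSimpleGroup G] (hG : ¬ IsMulCommutative G)
    (hJ : Cfsg.IsOfJankoFourType G) {x : G} (hy : Commute x (E.e 17)) (hb : Commute x (E.e 16))
    {q : ℕ} (hq : q.Prime) (h11 : q ≠ 11) : orderOf x ≠ q := by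
  intro hx
  have hU : ∀ {a : G}, Commute a (E.e 17) → Commute a (E.e 16) →
      11 ^ 3 ∣ Nat.card (Subgroup.centralizer ({a} : Set G)) := by
    intro a h1 h2
    rw [← E.heis.card_sub]
    refine Subgroup.card_dvd_of_le ?_
    rintro _ ⟨i, k, l, rfl⟩
    refine Subgroup.mem_centralizer_singleton_iff.2 (Commute.eq (Commute.symm ?_))
    have h3 : Commute a (E.e 15) := by
      have e : E.e 15 = E.e 16 * E.e 17 * (E.e 17 * E.e 16)⁻¹ := by
        rw [E.u_rels.2.2.1, mul_assoc (E.e 15), mul_inv_cancel_right]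
      rw [e]
      exact (h2.mul_right h1).mul_right ((h1.mul_right h2).inv_right)
    exact ((h1.pow_right i).mul_right (h2.pow_right k)).mul_right (h3.pow_right l)
  by_cases h3 : q = 3
  · exact no_three hG hJ (h3 ▸ hx) (hU hy hb)
  have hxq : x ^ q = 1 := hx ▸ pow_orderOf_eq_one x
  have hq33 : Nat.Coprime q 33 := by
    rw [show 33 = 3 * 11 from rfl]
    exact Nat.Coprime.mul_right ((Nat.coprime_primes hq Nat.prime_three).2 h3)
      ((Nat.coprime_primes hq (by norm_num)).2 h11)
  have hs := E.small_of_commute hy hb hq33 hxq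
  have hx1 : x ≠ 1 := fun e => by rw [e, orderOf_one] at hx; exact hq.ne_one hx.symm
  have hM : E.fixMat x ^ q = 1 := by rw [← E.fixMat_pow hs.1, hxq, E.fixMat_one]
  by_cases h2 : q = 2
  · subst h2
    rw [pow_two] at hM hxq
    have hM1 : E.fixMat x ≠ 1 := fun e => hx1 (E.small_ext hs e)
    obtain ⟨s, hsdef⟩ : ∃ s, E.e 47 = s := ⟨_, rfl⟩
    have hsc : Commute s (E.e 15) := hsdef ▸ E.commute_47_c
    have hsn : s ∈ Subgroup.normalizer (E.heis.sub : Set G) :=
      hsdef ▸ E.node_normalizer _ (show (47, [(9, 9, 5), (7, 1, 9), (0, 0, 1)]) ∈ actData by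
        simp [actData_val])
    have hconj : ∀ u ∈ E.heis.sub, Commute (s * x * s⁻¹) u := by
      intro u hu
      have hu' : s⁻¹ * u * s⁻¹⁻¹ ∈ E.heis.sub :=
        (Subgroup.mem_normalizer_iff.1 (inv_mem hsn) u).1 hu
      rw [inv_inv] at hu'
      obtain ⟨i, k, l, e⟩ := hu'
      have hc : Commute x (s⁻¹ * u * s) := e ▸
        ((hy.pow_right i).mul_right (hb.pow_right k)).mul_right (hs.1.pow_right l)
      show s * x * s⁻¹ * u = u * (s * x * s⁻¹)
      calc s * x * s⁻¹ * u = s * (x * (s⁻¹ * u * s)) * s⁻¹ := by group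
        _ = s * (s⁻¹ * u * s * x) * s⁻¹ := by rw [hc.eq]
        _ = _ := by group
    have hsq : (s * x * s⁻¹) ^ 2 = 1 := by
      rw [conj_pow, pow_two, hxq, mul_one, mul_inv_cancel]
    have hx's : E.Small (s * x * s⁻¹) :=
      E.small_of_commute (hconj (E.e 17) ⟨1, 0, 0, E.heis.nf_one_y⟩)
        (hconj (E.e 16) ⟨0, 1, 0, E.heis.nf_one_b⟩) (q := 2) (by norm_num) hsq
    have hsinv : Commute s⁻¹ (E.e 15) := hsc.inv_left
    have hσ : E.fixMat s = !![1, 1; 1, 0] := by
      rw [← hsdef, fixMat, E.val_tm (by norm_num)]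
      exact fix_values.2
    have hτ : E.fixMat s⁻¹ = !![0, 1; 1, 1] := two_by_two_inv _ (by
      rw [← hσ, ← E.fixMat_mul hsinv, mul_inv_cancel, E.fixMat_one])
    have hM' : E.fixMat (s * x * s⁻¹) = !![1, 1; 1, 0] * E.fixMat x * !![0, 1; 1, 1] := by
      rw [E.fixMat_mul hsinv, E.fixMat_mul hs.1, hσ, hτ]
    obtain ⟨hne, hcube⟩ := two_by_two_conj _ hM hM1
    have hr := E.small_mul hs hx's
    have hr3 : (x * (s * x * s⁻¹)) ^ 3 = 1 := E.small_ext (E.small_pow hr 3) (by
      rw [E.fixMat_pow hr.1, E.fixMat_mul hx's.1, hM', hcube])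
    have hr1 : x * (s * x * s⁻¹) ≠ 1 := fun e => hne (by
      rw [← hM', ← E.fixMat_mul hx's.1, e, E.fixMat_one])
    haveI : Fact (Nat.Prime 3) := ⟨Nat.prime_three⟩
    exact no_three hG hJ (orderOf_eq_prime hr3 hr1)
      (hU (hy.mul_left (hconj (E.e 17) ⟨1, 0, 0, E.heis.nf_one_y⟩))
        (hb.mul_left (hconj (E.e 16) ⟨0, 1, 0, E.heis.nf_one_b⟩)))
  · have h6 : E.fixMat x ^ 6 = 1 := by
      refine two_by_two_pow _ (E.fixMat x ^ (q - 1)) ?_
      rw [← pow_succ', Nat.sub_add_cancel hq.one_le, hM]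
    have hgcd : Nat.gcd q 6 = 1 := by
      show Nat.Coprime q (2 * 3)
      exact Nat.Coprime.mul_right ((Nat.coprime_primes hq Nat.prime_two).2 h2)
        ((Nat.coprime_primes hq Nat.prime_three).2 h3)
    have h1 := pow_gcd_eq_one.2 ⟨hM, h6⟩
    rw [hgcd, pow_one] at h1
    exact hx1 (E.small_ext hs h1)

/-- The centralizer of the subgroup is its centre. -/
theorem eq_c_pow_of_commute [Finite G] [IsSimpleGroup G] (hG : ¬ IsMulCommutative G)
    (hJ : Cfsg.IsOfJankoFourType G) (h11 : ¬ 11 ^ 4 ∣ Nat.card G) {x : G}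
    (hy : Commute x (E.e 17)) (hb : Commute x (E.e 16)) : ∃ l, x = E.heis.c ^ l := by
  classical
  haveI : Fact (Nat.Prime 11) := ⟨by norm_num⟩
  let K : Subgroup G := Subgroup.centralizer ({E.e 17, E.e 16} : Set G)
  have hKmem : ∀ {a : G}, a ∈ K → Commute a (E.e 17) ∧ Commute a (E.e 16) := fun {a} ha =>
    ⟨((Subgroup.mem_centralizer_iff.1 ha _ (Set.mem_insert _ _))).symm,
      ((Subgroup.mem_centralizer_iff.1 ha _ (Set.mem_insert_of_mem _ rfl))).symm⟩
  have hK : IsPGroup 11 K := by
    refine IsPGroup.of_card (n := (Nat.card K).primeFactorsList.length) ?_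
    refine Nat.eq_prime_pow_of_unique_prime_dvd Nat.card_pos.ne' fun {d} hd hdd => ?_
    haveI := Fact.mk hd
    obtain ⟨a, ha⟩ := exists_prime_orderOf_dvd_card' (G := K) d hdd
    by_contra hne
    exact E.no_prime hG hJ (hKmem a.2).1 (hKmem a.2).2 hd hne ((Subgroup.orderOf_coe a).trans ha)
  have hxK : x ∈ K := by
    refine Subgroup.mem_centralizer_iff.2 ?_
    rintro a (rfl | rfl)
    exacts [hy.eq.symm, hb.eq.symm]
  have hnorm : K ≤ Subgroup.normalizer (E.heis.sub : Set G) := by
    intro a ha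
    obtain ⟨h1, h2⟩ := hKmem ha
    have h3 : Commute a (E.e 15) := by
      have e : E.e 15 = E.e 16 * E.e 17 * (E.e 17 * E.e 16)⁻¹ := by
        rw [E.u_rels.2.2.1, mul_assoc (E.e 15), mul_inv_cancel_right]
      rw [e]
      exact (h2.mul_right h1).mul_right ((h1.mul_right h2).inv_right)
    refine Subgroup.mem_normalizer_iff.2 fun g => ⟨fun hg => ?_, fun hg => ?_⟩
    · obtain ⟨i, k, l, rfl⟩ := hg
      have hc : Commute a (E.heis.nf i k l) :=
        ((h1.pow_right i).mul_right (h2.pow_right k)).mul_right (h3.pow_right l)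
      rw [hc.eq, mul_inv_cancel_right]
      exact Heis.nf_mem _ _ _ _
    · obtain ⟨i, k, l, e⟩ := hg
      have hc : Commute a (E.heis.nf i k l) :=
        ((h1.pow_right i).mul_right (h2.pow_right k)).mul_right (h3.pow_right l)
      refine ⟨i, k, l, ?_⟩
      rw [show g = a⁻¹ * (a * g * a⁻¹) * a by group, ← e, mul_assoc, ← hc.eq, inv_mul_cancel_left]
  have hsub : IsPGroup 11 E.heis.sub := IsPGroup.of_card E.heis.card_sub
  have hsup : IsPGroup 11 (K ⊔ E.heis.sub : Subgroup G) :=
    IsPGroup.to_sup_of_normal_right' hK hsub hnorm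
  obtain ⟨m, hm⟩ := IsPGroup.iff_card.1 hsup
  have hle : K ⊔ E.heis.sub ≤ E.heis.sub := by
    refine (Subgroup.eq_of_le_of_card_ge le_sup_right ?_).ge
    rw [hm, E.heis.card_sub]
    refine Nat.pow_le_pow_right (by norm_num) ?_
    by_contra hlt
    refine h11 ((pow_dvd_pow 11 (show 4 ≤ m by omega)).trans ?_)
    rw [← hm]
    exact Subgroup.card_subgroup_dvd_card _
  obtain ⟨i, k, l, e⟩ := hle (Subgroup.mem_sup_left hxK)
  subst e
  refine ⟨l, ?_⟩
  rw [Heis.nf, pow_eq_pow_mod i E.heis.y_pow,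
    Nat.mod_eq_zero_of_dvd (E.heis.dvd_of_commute_b hb), pow_eq_pow_mod k E.heis.b_pow,
    Nat.mod_eq_zero_of_dvd (E.heis.dvd_of_commute_y hy), pow_zero, pow_zero, one_mul, one_mul]

end Env

end CfsgLib.JFourFacts
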