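import Cfsg.Agent.JFourFacts.ElevenTable

/-! Kernel checks: the rows of the nodes `18, …, 95` are the values of their words. -/

set_option autoImplicit false
set_option maxRecDepth 100000

namespace CfsgLib.JFourFacts

open CfsgLib.JankoFour

/-- The check of one node. -/
def defOk (i : ℕ) : Bool :=
  (extWord (i + 18)).all (fun a => Nat.blt a (i + 18)) && sameProd extTab [i + 18] (extWord (i + 18))

theorem defs_ok : (List.range 78).all defOk = true := by decide +kernel

end CfsgLib.JFourFacts
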