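import Cfsg.Agent.JFourFacts.ElevenTable

/-!
Kernel checks: the relations of the nodes.  The nodes `15, 16, 17` generate the Sylow 11-subgroup, `47` and `19`
generate the linear group of degree two over the field with three elements, `20` has order five.
-/

set_option autoImplicit false
set_option maxRecDepth 100000

namespace CfsgLib.JFourFacts

open CfsgLib.JankoFour

/-- The word of the normal form with three exponents. -/
def nfWord (t : ℕ × ℕ × ℕ) : List ℕ :=
  List.replicate t.1 17 ++ List.replicate t.2.1 16 ++ List.replicate t.2.2 15

/-- The equations of the extraspecial subgroup. -/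
def uChecks : List (List ℕ × List ℕ) :=
  [(List.replicate 11 17, []), (List.replicate 11 16, []), ([16, 17], [15, 17, 16]), ([15, 17], [17, 15]),
    ([15, 16], [16, 15])]

/-- The equations of the conjugation. -/
def actChecks : List (List ℕ × List ℕ) :=
  actData.flatMap fun d => (List.range 3).map fun k =>
    ([d.1, 17 - k], nfWord (d.2.getD k (0, 0, 0)) ++ [d.1])

/-- The equations of the linear group. -/
def glChecks : List (List ℕ × List ℕ) :=
  (List.range 48).flatMap fun i => [([48 + i, 47], [48 + (glEdges.getD i (0, 0)).1]),
    ([48 + i, 19], [48 + (glEdges.getD i (0, 0)).2])]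

/-- All equations. -/
def relChecks : List (List ℕ × List ℕ) :=
  uChecks ++ [(List.replicate 5 20, [])] ++ actChecks ++ glChecks

theorem relChecks_lt : (relChecks.all fun e => (e.1.all fun c => Nat.blt c 96) &&
    e.2.all fun c => Nat.blt c 96) = true := by decide +kernel

theorem relChecks_ok : (relChecks.all fun e => sameProd extTab e.1 e.2) = true := by decide +kernel

end CfsgLib.JFourFacts
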