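import Cfsg.Agent.JFourFacts.ElevenTable

/-!
Kernel checks: the auxiliary matrices.  `96, 97` are the sums of the powers of `15, 17`; `98, …, 103` factor
the projections through rows; `104` is an invariant form with inverse `105`; `106, 107, 108` are transposes.
-/

set_option autoImplicit false
set_option maxRecDepth 100000

namespace CfsgLib.JFourFacts

open CfsgLib.JankoFour CfsgLib.JankoFourRep

/-- The equations between sums of products. -/
def sumChecks : List (List (List ℕ) × List (List ℕ)) :=
  [([[96]], (List.range 11).map fun i => List.replicate i 15),
    ([[97]], (List.range 11).map fun i => List.replicate i 17),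
    ([[98, 99]], [[97], [97, 96]]), ([[100, 101]], [[], [96]]), ([[102, 103]], [[96]]),
    ([[104, 105]], [[]]), ([[0, 104, 106]], [[104]]), ([[1, 104, 107]], [[104]]), ([[3, 104, 108]], [[104]])]

theorem sumChecks_ok : (sumChecks.all fun e => sameSum extTab e.1 e.2) = true := by decide +kernel

/-- The rows of the second matrix are those of the transpose of the first. -/
def transOk (A B : ℕ) : Bool :=
  (List.range 112).all fun i => (List.range 112).all fun j =>
    ((extTab A).getD i 0).testBit j == ((extTab B).getD j 0).testBit i

theorem trans_ok : ([(0, 106), (1, 107), (3, 108)].all fun p => transOk p.1 p.2) = true := by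
  decide +kernel

/-- The node moves a basis vector. -/
def moves (c : ℕ) : Bool :=
  (List.range 112).any fun k => (List.range 112).any fun j =>
    (evalRow extTab [c] (2 ^ k)).testBit j != Nat.beq k j

/-- The checks of rows: the span of the base vector, the fixed vectors and their images. -/
def rowChecks : Bool :=
  Nat.beq (evalRow extTab [17] baseVec) baseVec && Nat.beq (evalRow extTab [96] baseVec) 0 &&
  ((List.range 10).all fun i =>
    Nat.beq (evalRow extTab (List.replicate i 15) baseVec) ((extTab 99).getD i 0)) &&
  ((List.range 102).all fun i => Nat.beq ((extTab 99).getD (i + 10) 0) 0) &&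
  ((List.range 11).all fun j => (List.range 10).all fun i =>
    Nat.beq (evalRow extTab (List.replicate i 15 ++ List.replicate j 16) baseVec)
      ((extTab 101).getD (10 * j + i) 0)) &&
  Nat.beq ((extTab 101).getD 110 0) 0 && Nat.beq ((extTab 101).getD 111 0) 0 &&
  ((extTab 102).all fun a => Nat.blt a 4) &&
  Nat.beq (evalRow extTab [102] ((extTab 103).getD 0 0)) 1 &&
  Nat.beq (evalRow extTab [102] ((extTab 103).getD 1 0)) 2 &&
  Nat.beq (evalRow extTab [47, 102] ((extTab 103).getD 0 0)) 3 &&
  Nat.beq (evalRow extTab [47, 102] ((extTab 103).getD 1 0)) 1 &&
  ((List.range 5).all fun i => (List.range 5).all fun j =>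
    (i == j) || ((extTab 99).getD i 0 != (extTab 99).getD j 0)) &&
  (((List.range 47).map (· + 49) ++ [15]).all fun c => moves c)

theorem rowChecks_ok : rowChecks = true := by decide +kernel

/-- The row bounds of the fixed vectors. -/
theorem row_bounds : ((extTab 99).all fun a => Nat.blt a (2 ^ 112)) = true := by decide +kernel

end CfsgLib.JFourFacts
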