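import Cfsg.Agent.JFourFacts.SylowEleven

/-!
# The two classes of elements of order eleven

Every element of the Sylow subgroup is conjugate to the central generator or to `y`; the first fixes a
two-dimensional space in the representation, the second at least five vectors.
-/

set_option autoImplicit false
set_option maxRecDepth 100000

namespace CfsgLib.JFourFacts

open Matrix

/-- The orbit of `(1, 0)` modulo the centre: the point, the position of its parent and the generator. -/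
def orbitList : List (ℕ × ℕ × ℕ × ℕ) := [
  (1, 0, 0, 0), (9, 9, 0, 0), (10, 0, 0, 1), (4, 0, 0, 2), (1, 2, 1, 0), (7, 9, 1, 1),
  (3, 3, 1, 2), (2, 2, 2, 0), (7, 0, 2, 2), (5, 0, 3, 2), (5, 2, 4, 1), (4, 8, 4, 2),
  (5, 6, 5, 0), (6, 3, 5, 2), (1, 1, 6, 2), (10, 9, 7, 0), (4, 2, 7, 1), (8, 8, 7, 2),
  (6, 0, 8, 2), (9, 0, 9, 2), (4, 3, 10, 0), (9, 8, 10, 2), (5, 10, 11, 2), (10, 7, 12, 0),
  (2, 6, 12, 1), (9, 2, 12, 2), (2, 1, 13, 2), (4, 4, 14, 2), (6, 9, 15, 1), (7, 3, 15, 2),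
  (6, 5, 16, 0), (5, 8, 16, 2), (10, 10, 17, 2), (2, 0, 18, 2), (3, 0, 19, 2), (5, 3, 20, 1),
  (5, 1, 20, 2), (3, 10, 21, 2), (9, 7, 22, 2), (0, 7, 23, 1), (7, 6, 23, 2), (8, 2, 24, 2),
  (3, 8, 25, 2), (8, 4, 26, 2), (5, 5, 27, 2), (7, 8, 28, 0), (2, 3, 28, 2), (6, 1, 29, 2),
  (1, 4, 30, 0), (9, 5, 30, 1), (2, 9, 30, 2), (9, 10, 31, 2), (7, 7, 32, 2), (8, 0, 33, 2),
  (0, 4, 35, 0), (9, 1, 35, 2), (9, 4, 36, 2), (1, 7, 37, 2), (3, 6, 38, 2), (5, 7, 39, 0),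
  (0, 6, 39, 2), (6, 2, 40, 2), (10, 8, 41, 2), (1, 10, 42, 2), (10, 5, 43, 2), (6, 8, 45, 1),
  (6, 10, 45, 2), (8, 1, 46, 2), (2, 4, 47, 2), (4, 5, 48, 2), (3, 9, 49, 2), (8, 3, 50, 2),
  (3, 7, 51, 2), (6, 6, 52, 2), (6, 4, 54, 0), (0, 5, 54, 2), (3, 4, 55, 2), (3, 5, 56, 2),
  (4, 6, 57, 2), (9, 6, 59, 2), (0, 2, 60, 2), (2, 8, 61, 2), (7, 10, 62, 2), (4, 7, 63, 2),
  (2, 10, 65, 2), (2, 7, 66, 2), (10, 4, 67, 2), (8, 5, 68, 2), (5, 9, 69, 2), (1, 3, 70, 2),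
  (10, 1, 71, 2), (1, 6, 72, 2), (2, 5, 74, 2), (0, 9, 75, 2), (1, 5, 76, 2), (1, 9, 77, 2),
  (3, 2, 79, 2), (0, 8, 80, 2), (8, 10, 81, 2), (6, 7, 82, 2), (8, 7, 84, 2), (8, 6, 85, 2),
  (7, 5, 86, 2), (9, 3, 88, 2), (4, 1, 89, 2), (7, 4, 90, 2), (8, 9, 92, 2), (0, 3, 93, 2),
  (4, 9, 94, 2), (1, 8, 96, 2), (0, 10, 97, 2), (10, 6, 100, 2), (10, 2, 101, 2), (3, 1, 103, 2),
  (5, 4, 104, 2), (10, 3, 106, 2), (0, 1, 107, 2), (4, 10, 109, 2), (7, 2, 111, 2), (7, 1, 115, 2)]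

/-- The check of one step. -/
def stepOk (k : ℕ) : Bool :=
  let s := orbitList.getD k (0, 0, 0, 0)
  let p := orbitList.getD s.2.2.1 (0, 0, 0, 0)
  let d := (actData.getD s.2.2.2 (0, [])).2
  let a := d.getD 0 (0, 0, 0)
  let b := d.getD 1 (0, 0, 0)
  if k = 0 then Nat.beq s.1 1 && Nat.beq s.2.1 0
  else Nat.blt s.2.2.1 k && Nat.blt s.2.2.2 3 && Nat.beq s.1 ((p.1 * a.1 + p.2.1 * b.1) % 11) &&
    Nat.beq s.2.1 ((p.1 * a.2.1 + p.2.1 * b.2.1) % 11)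

theorem steps_ok : (List.range 120).all stepOk = true := by decide +kernel

theorem orbit_cover : ∀ i < 11, ∀ k < 11, ¬ (i = 0 ∧ k = 0) → ∃ n < 120,
    (orbitList.getD n (0, 0, 0, 0)).1 = i ∧ (orbitList.getD n (0, 0, 0, 0)).2.1 = k := by
  decide +kernel

namespace Heis

variable {G : Type*} [Group G] (h : Heis G)

theorem isConj_nf_shift {i k l : ℕ} (hik : ¬ (i % 11 = 0 ∧ k % 11 = 0)) (l' : ℕ) :
    IsConj (h.nf i k l) (h.nf i k l') := by
  haveI : Fact (Nat.Prime 11) := ⟨by norm_num⟩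
  rw [h.nf_mod i k l, h.nf_mod i k l']
  have hi : i % 11 < 11 := Nat.mod_lt _ (by norm_num)
  have hk : k % 11 < 11 := Nat.mod_lt _ (by norm_num)
  by_cases h0 : i % 11 = 0
  · have hk0 : k % 11 ≠ 0 := fun e => hik ⟨h0, e⟩
    obtain ⟨r, hr⟩ : ∃ r : Fin 11, (l' % 11 + k % 11 * r.val) % 11 = l % 11 % 11 := by
      have : ∀ a : Fin 11, ∀ b : Fin 11, ∀ c : Fin 11, c.val ≠ 0 →
          ∃ r : Fin 11, (b.val + c.val * r.val) % 11 = a.val % 11 := by decide +kernel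
      exact this ⟨l % 11, Nat.mod_lt _ (by norm_num)⟩ ⟨l' % 11, Nat.mod_lt _ (by norm_num)⟩
        ⟨k % 11, hk⟩ hk0
    refine isConj_iff.2 ⟨h.nf r.val 0 0, ?_⟩
    rw [mul_inv_eq_iff_eq_mul, h.nf_mul, h.nf_mul]
    rw [h.nf_mod, h.nf_mod (i % 11 + r.val)]
    congr 1 <;> omega
  · obtain ⟨r, hr⟩ : ∃ r : Fin 11, (l % 11 + i % 11 * r.val) % 11 = l' % 11 % 11 := by
      have : ∀ a : Fin 11, ∀ b : Fin 11, ∀ c : Fin 11, c.val ≠ 0 →
          ∃ r : Fin 11, (b.val + c.val * r.val) % 11 = a.val % 11 := by decide +kernel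
      exact this ⟨l' % 11, Nat.mod_lt _ (by norm_num)⟩ ⟨l % 11, Nat.mod_lt _ (by norm_num)⟩
        ⟨i % 11, hi⟩ h0
    refine isConj_iff.2 ⟨h.nf 0 r.val 0, ?_⟩
    rw [mul_inv_eq_iff_eq_mul, h.nf_mul, h.nf_mul]
    rw [Nat.mul_comm (i % 11) r.val] at hr
    rw [h.nf_mod, h.nf_mod (i % 11 + 0)]
    congr 1 <;> simp <;> omega

end Heis

namespace Env

variable {G : Type*} [Group G] [Finite G] (E : Env G)

theorem conj_nf {d : ℕ × List (ℕ × ℕ × ℕ)} (hd : d ∈ actData) (i k l : ℕ) :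
    ∃ l', E.e d.1 * E.heis.nf i k l * (E.e d.1)⁻¹ = E.heis.nf
      ((i * (d.2.getD 0 (0, 0, 0)).1 + k * (d.2.getD 1 (0, 0, 0)).1) % 11)
      ((i * (d.2.getD 0 (0, 0, 0)).2.1 + k * (d.2.getD 1 (0, 0, 0)).2.1) % 11) l' := by
  have hn := E.node_normalizer d hd
  have hc := E.heis.coord_conj hn (E.heis.nf_mem i k l)
  have ey : E.e d.1 * E.heis.y * (E.e d.1)⁻¹ = E.heis.nf (d.2.getD 0 (0, 0, 0)).1
      (d.2.getD 0 (0, 0, 0)).2.1 (d.2.getD 0 (0, 0, 0)).2.2 := E.act d hd 0 (by norm_num)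
  have eb : E.e d.1 * E.heis.b * (E.e d.1)⁻¹ = E.heis.nf (d.2.getD 1 (0, 0, 0)).1
      (d.2.getD 1 (0, 0, 0)).2.1 (d.2.getD 1 (0, 0, 0)).2.2 := E.act d hd 1 (by norm_num)
  rw [ey, eb, Heis.coord_nf, Heis.coord_nf, Heis.coord_nf] at hc
  refine E.heis.nf_of_coord (E.heis.conj_mem hn (E.heis.nf_mem i k l)) _ _ (hc.trans ?_)
  ext a
  fin_cases a <;> simp [ZMod.natCast_mod]

theorem isConj_orbit : ∀ n, n < 120 → ∃ l, IsConj E.heis.y
    (E.heis.nf (orbitList.getD n (0, 0, 0, 0)).1 (orbitList.getD n (0, 0, 0, 0)).2.1 l) := by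
  intro n
  induction n using Nat.strong_induction_on with
  | _ n ih =>
    intro hn
    have hs := List.all_eq_true.1 steps_ok n (List.mem_range.2 hn)
    simp only [stepOk] at hs
    by_cases h0 : n = 0
    · rw [if_pos h0, Bool.and_eq_true] at hs
      exact ⟨0, by rw [Nat.eq_of_beq_eq_true hs.1, Nat.eq_of_beq_eq_true hs.2, Heis.nf_one_y]⟩
    rw [if_neg h0] at hs
    simp only [Bool.and_eq_true, Nat.blt_eq] at hs
    obtain ⟨⟨⟨hp, hg⟩, e1⟩, e2⟩ := hs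
    obtain ⟨l, hl⟩ := ih _ hp (by omega)
    have hlen : actData.length = 3 := by rw [actData_val]; rfl
    have hd : actData.getD (orbitList.getD n (0, 0, 0, 0)).2.2.2 (0, []) ∈ actData := by
      rw [List.getD_eq_getElem?_getD, List.getElem?_eq_getElem (by omega), Option.getD_some]
      exact List.getElem_mem _
    obtain ⟨l', hl'⟩ := E.conj_nf hd
      (orbitList.getD (orbitList.getD n (0, 0, 0, 0)).2.2.1 (0, 0, 0, 0)).1
      (orbitList.getD (orbitList.getD n (0, 0, 0, 0)).2.2.1 (0, 0, 0, 0)).2.1 l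
    refine ⟨l', hl.trans (isConj_iff.2 ⟨E.e (actData.getD (orbitList.getD n (0, 0, 0, 0)).2.2.2 (0, [])).1, ?_⟩)⟩
    rw [hl', Nat.eq_of_beq_eq_true e1, Nat.eq_of_beq_eq_true e2]

theorem isConj_c : ∀ l, ¬ 11 ∣ l → IsConj E.heis.c (E.heis.c ^ l) := by
  have hstep : ∀ d ∈ actData, ∀ m : ℕ,
      IsConj (E.heis.c ^ m) (E.heis.c ^ ((d.2.getD 2 (0, 0, 0)).2.2 * m)) := by
    intro d hd m
    refine isConj_iff.2 ⟨E.e d.1, ?_⟩
    have hc : E.e d.1 * E.heis.c * (E.e d.1)⁻¹ = E.heis.nf (d.2.getD 2 (0, 0, 0)).1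
        (d.2.getD 2 (0, 0, 0)).2.1 (d.2.getD 2 (0, 0, 0)).2.2 := E.act d hd 2 (by norm_num)
    have h0 : (d.2.getD 2 (0, 0, 0)).1 = 0 ∧ (d.2.getD 2 (0, 0, 0)).2.1 = 0 := by
      rw [actData_val] at hd
      simp only [List.mem_cons, List.not_mem_nil, or_false] at hd
      rcases hd with rfl | rfl | rfl <;> exact ⟨rfl, rfl⟩
    rw [h0.1, h0.2, Heis.nf, pow_zero, pow_zero, one_mul, one_mul] at hc
    rw [← conj_pow, hc, ← pow_mul]
  have h5 : ∀ m, IsConj (E.heis.c ^ m) (E.heis.c ^ (5 * m)) := fun m =>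
    hstep (20, [(4, 0, 0), (0, 4, 4), (0, 0, 5)]) (by simp [actData_val]) m
  have h10 : ∀ m, IsConj (E.heis.c ^ m) (E.heis.c ^ (10 * m)) := fun m =>
    hstep (19, [(10, 0, 0), (3, 1, 4), (0, 0, 10)]) (by simp [actData_val]) m
  have hp : ∀ a, IsConj E.heis.c (E.heis.c ^ (5 ^ a)) ∧ IsConj E.heis.c (E.heis.c ^ (10 * 5 ^ a)) := by
    intro a
    induction a with
    | zero =>
      have := h10 1
      rw [pow_one, mul_one] at this
      rw [pow_zero, mul_one, pow_one]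
      exact ⟨IsConj.refl _, this⟩
    | succ a ih =>
      have e := ih.1.trans (h5 _)
      rw [show 5 * 5 ^ a = 5 ^ (a + 1) by ring] at e
      exact ⟨e, e.trans (h10 _)⟩
  intro l hl
  have hmod : ∀ r < 11, r ≠ 0 → ∃ a < 5, 5 ^ a % 11 = r ∨ 10 * 5 ^ a % 11 = r := by decide +kernel
  obtain ⟨a, -, h | h⟩ := hmod (l % 11) (Nat.mod_lt _ (by norm_num))
    fun e => hl (Nat.dvd_of_mod_eq_zero e)
  · rw [← E.heis.c_pow_mod l, ← h, E.heis.c_pow_mod]; exact (hp a).1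
  · rw [← E.heis.c_pow_mod l, ← h, E.heis.c_pow_mod]; exact (hp a).2

theorem conj_cases {w : G} (hw : w ∈ E.heis.sub) (hw1 : w ≠ 1) :
    IsConj w E.heis.c ∨ IsConj w E.heis.y := by
  obtain ⟨i, k, l, rfl⟩ := hw
  by_cases h : i % 11 = 0 ∧ k % 11 = 0
  · have e : E.heis.nf i k l = E.heis.c ^ l := by
      rw [Heis.nf, pow_eq_pow_mod i E.heis.y_pow, pow_eq_pow_mod k E.heis.b_pow, h.1, h.2, pow_zero,
        pow_zero, one_mul, one_mul]
    rw [e] at hw1 ⊢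
    exact Or.inl (E.isConj_c l fun hd => hw1 ((E.heis.c_pow_eq_one_iff l).2 hd)).symm
  · obtain ⟨n, hn, e1, e2⟩ := orbit_cover (i % 11) (Nat.mod_lt _ (by norm_num)) (k % 11)
      (Nat.mod_lt _ (by norm_num)) h
    obtain ⟨l0, hl0⟩ := E.isConj_orbit n hn
    rw [e1, e2] at hl0
    have hs := E.heis.isConj_nf_shift (i := i % 11) (k := k % 11) (l := l0)
      (by rwa [Nat.mod_mod, Nat.mod_mod]) (l % 11)
    rw [← E.heis.nf_mod] at hs
    exact Or.inr (hl0.trans hs).symm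

theorem not_isConj : ¬ IsConj E.heis.c E.heis.y := by
  intro h
  obtain ⟨g, hg⟩ := isConj_iff.1 h
  obtain ⟨f, hf, hfe⟩ := five_fixed
  have hv := row_checks.1
  have h15 : Commute (tm 15) (tm 17) := by
    have := E.commute_val (g := E.e 15) (by norm_num : 17 < 96) E.u_rels.2.2.2.1
    rwa [E.val_tm (by norm_num)] at this
  have hfix : ∀ i, f i ᵥ* tm 17 = f i := by
    intro i
    rw [hfe]
    exact fixed_pow h15 hv i.val
  have hgc : E.ρ g * E.ρ (E.e 15) = E.ρ (E.e 17) * E.ρ g := by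
    rw [← map_mul, ← map_mul]
    exact congrArg E.ρ (mul_inv_eq_iff_eq_mul.1 hg)
  have hgv := congrArg Units.val hgc
  rw [Units.val_mul, Units.val_mul, E.val_tm (by norm_num), E.val_tm (by norm_num)] at hgv
  have hw : ∀ i, f i ᵥ* (E.ρ g).val ᵥ* powSum (tm 15) = f i ᵥ* (E.ρ g).val := by
    intro i
    have h1 : f i ᵥ* (E.ρ g).val ᵥ* tm 15 = f i ᵥ* (E.ρ g).val := by
      rw [Matrix.vecMul_vecMul, hgv, ← Matrix.vecMul_vecMul, hfix]
    exact vecMul_powSum_of_fixed h1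
  have hinj : Function.Injective fun i => f i ᵥ* (E.ρ g).val ᵥ* fixCoord := by
    intro i j e
    simp only at e
    have e2 := congrArg (· ᵥ* fixRows) e
    have key : ∀ u : Fin 112 → ZMod 2, u ᵥ* fixCoord ᵥ* fixRows = u ᵥ* powSum (tm 15) := fun u => by
      rw [Matrix.vecMul_vecMul, fixCoord_mul]
    have hinv : ∀ u : Fin 112 → ZMod 2, u ᵥ* (E.ρ g).val ᵥ* ((E.ρ g)⁻¹).val = u := fun u => by
      rw [Matrix.vecMul_vecMul, ← Units.val_mul, mul_inv_cancel, Units.val_one, Matrix.vecMul_one]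
    rw [key, key, hw, hw] at e2
    apply hf
    rw [← hinv (f i), e2, hinv]
  have := Fintype.card_le_of_injective _ hinj
  simp [Fintype.card_fun, ZMod.card] at this

end Env

/-- The two classes of elements of order eleven. -/
theorem eleven_classes_of_iso {G : Type*} [Group G] [Finite G] [IsSimpleGroup G]
    (hI : Cfsg.Spor.IsoJ4 G) (hcard : Nat.card G = 86775571046077562880) :
    ∃ x y : G, orderOf x = 11 ∧ orderOf y = 11 ∧ ¬ IsConj x y ∧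
      ∀ w : G, orderOf w = 11 → IsConj w x ∨ IsConj w y := by
  haveI : Fact (Nat.Prime 11) := ⟨by norm_num⟩
  obtain ⟨E⟩ := env_of_iso hI
  obtain ⟨U0, hU0⟩ := exists_sylow_eq E hcard
  refine ⟨E.heis.c, E.heis.y, E.heis.orderOf_c, orderOf_eq_prime E.heis.y_pow fun e => ?_,
    E.not_isConj, fun w hw => ?_⟩
  · exact absurd (E.heis.nf_eq_one (i := 1) (k := 0) (l := 0) (by rw [E.heis.nf_one_y, e])).1
      (by norm_num)
  have hp : IsPGroup 11 (Subgroup.zpowers w) :=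
    IsPGroup.of_card (n := 1) (by rw [Nat.card_zpowers, hw, pow_one])
  obtain ⟨U, hle⟩ := hp.exists_le_sylow
  obtain ⟨g, hg⟩ := MulAction.exists_smul_eq G U U0
  have hmem : g * w * g⁻¹ ∈ E.heis.sub := by
    rw [← hU0, ← hg, Sylow.coe_subgroup_smul]
    exact ⟨w, hle (Subgroup.mem_zpowers w), rfl⟩
  have hne : g * w * g⁻¹ ≠ 1 := fun e => by
    rw [conj_eq_one_iff] at e
    rw [e, orderOf_one] at hw
    norm_num at hw
  have hgw : IsConj w (g * w * g⁻¹) := isConj_iff.2 ⟨g, rfl⟩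
  exact (E.conj_cases hmem hne).imp hgw.trans hgw.trans

end CfsgLib.JFourFacts
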