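import Cfsg.Agent.JFourFacts.SuborbitCount
import Cfsg.Agent.JFourEleven.Setting

/-!
In a group of Janko-four type isomorphic to the presented group, every elementary abelian subgroup of
order `2¹¹` has a normaliser of index 173067389 with seven suborbits.
-/

set_option autoImplicit false

namespace CfsgLib.JFourFacts

open CfsgLib.JankoFour CfsgLib.JankoFourIndex

/-- A subgroup carried to another by an isomorphism has the same suborbits. -/
theorem suborbits_transfer {G K : Type*} [Group G] [Group K] (φ : G ≃* K) {N : Subgroup G}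
    {H : Subgroup K} (h : N.map φ.toMonoidHom = H) {n : ℕ} {L : List ℕ} (c : Fin n → K ⧸ H)
    (hd : ∀ i j : Fin n, i ≠ j → MulAction.orbit H (c i) ≠ MulAction.orbit H (c j))
    (hc : ∀ q : K ⧸ H, ∃ i : Fin n, q ∈ MulAction.orbit H (c i))
    (hl : (List.ofFn fun i => (MulAction.orbit H (c i)).ncard) = L) :
    N.index = H.index ∧ ∃ c' : Fin n → G ⧸ N,
      (∀ i j : Fin n, i ≠ j → MulAction.orbit N (c' i) ≠ MulAction.orbit N (c' j)) ∧
      (∀ q : G ⧸ N, ∃ i : Fin n, q ∈ MulAction.orbit N (c' i)) ∧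
      (List.ofFn fun i => (MulAction.orbit N (c' i)).ncard) = L := by
  have hmem : ∀ g : G, φ g ∈ H ↔ g ∈ N := fun g => by
    rw [← h]
    exact Subgroup.mem_map_iff_mem φ.injective
  let E : G ⧸ N ≃ K ⧸ H := Quotient.congr φ.toEquiv fun a b => by
    rw [QuotientGroup.leftRel_apply, QuotientGroup.leftRel_apply, ← hmem, map_mul, map_inv]
    rfl
  have hE : ∀ (x : N) (q : G ⧸ N), E (x • q) = (⟨φ x, (hmem _).2 x.2⟩ : H) • E q := by
    intro x q
    induction q using QuotientGroup.induction_on with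
    | _ a =>
      show (QuotientGroup.mk (φ ((x : G) * a)) : K ⧸ H) = QuotientGroup.mk (φ x * φ a)
      rw [map_mul]
  have horb : ∀ q : G ⧸ N, E '' MulAction.orbit N q = MulAction.orbit H (E q) := by
    intro q
    ext p
    constructor
    · rintro ⟨_, ⟨x, rfl⟩, rfl⟩
      exact ⟨⟨φ x, (hmem _).2 x.2⟩, (hE x q).symm⟩
    · rintro ⟨⟨k, hk⟩, rfl⟩
      refine ⟨(⟨φ.symm k, (hmem _).1 (by simpa using hk)⟩ : N) • q, ⟨_, rfl⟩, ?_⟩
      rw [hE]
      congr 1
      exact Subtype.ext (by simp)
  refine ⟨?_, fun i => E.symm (c i), fun i j hij e => hd i j hij ?_, fun q => ?_, ?_⟩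
  · exact Nat.card_congr E
  · simpa [horb] using congrArg (E '' ·) e
  · obtain ⟨i, hi⟩ := hc (E q)
    refine ⟨i, E.injective.mem_set_image.1 ?_⟩
    rwa [horb, Equiv.apply_symm_apply]
  · rw [← hl]
    congr 1
    funext i
    rw [← Set.ncard_image_of_injective _ E.injective, horb, Equiv.apply_symm_apply]

section Local

variable {G : Type*} [Group G] [Finite G]

/-- Two elementary abelian subgroups of order `2¹¹` are conjugate. -/
theorem exists_conj_eleven {z : G} (hJ : Cfsg.IsOfJankoFourTypeAt z) {A W : Subgroup G}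
    (hA : Cfsg.IsElementaryAbelian 2 A) (hAc : Nat.card A = 2 ^ 11)
    (hW : Cfsg.IsElementaryAbelian 2 W) (hWc : Nat.card W = 2 ^ 11) :
    ∃ g : G, A.map (MulAut.conj g).toMonoidHom = W := by
  have : Fact (Nat.Prime 2) := ⟨Nat.prime_two⟩
  obtain ⟨P, hP⟩ := hJ
  obtain ⟨S, hS⟩ := (IsPGroup.of_card (n := 11) hAc).exists_le_sylow
  obtain ⟨T, hT⟩ := (IsPGroup.of_card (n := 11) hWc).exists_le_sylow
  obtain ⟨g, hg⟩ := MulAction.exists_smul_eq G S T
  have hgT : (T : Subgroup G) = (S : Subgroup G).map (MulAut.conj g).toMonoidHom := by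
    rw [← hg]; rfl
  refine ⟨g, (JFourEleven.existsUnique_eleven hP T).unique ⟨hgT ▸ Subgroup.map_mono hS, ?_, ?_⟩
    ⟨hT, hW, hWc⟩⟩
  · refine JFourEleven.isElementaryAbelian_of_sq ?_
    rintro _ ⟨a, ha, rfl⟩
    show MulAut.conj g a * MulAut.conj g a = 1
    rw [← map_mul, JFourEleven.two_of_mem hA ha, map_one]
  · rw [Subgroup.card_map_of_injective (MulAut.conj g).injective, hAc]

/-- The order of the normaliser. -/
theorem card_normalizer_eleven [IsSimpleGroup G] (hG : ¬ IsMulCommutative G) {z : G}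
    (hJ : Cfsg.IsOfJankoFourTypeAt z) {W : Subgroup G} (hW : Cfsg.IsElementaryAbelian 2 W)
    (hWc : Nat.card W = 2 ^ 11) :
    Nat.card (Subgroup.normalizer (W : Set G)) = 501397585920 := by
  obtain ⟨L⟩ := JFourEleven.nonempty_setting hJ
  obtain ⟨g, rfl⟩ := exists_conj_eleven hJ L.elem L.card_A hW hWc
  rw [← Subgroup.map_equiv_normalizer_eq,
    Subgroup.card_map_of_injective (MulAut.conj g).injective, (L.layer hG).card_normalizer,
    (L.layer hG).main.1]
  norm_num

/-- The statement for a group isomorphic to the presented group. -/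
theorem eleven_cosets_of_iso [IsSimpleGroup G] (hG : ¬ IsMulCommutative G) {z : G}
    (hJ : Cfsg.IsOfJankoFourTypeAt z) (V : Subgroup G) (hV : Cfsg.IsElementaryAbelian 2 V)
    (hcard : Nat.card V = 2 ^ 11) (hI : Cfsg.Spor.IsoJ4 G) (M : Model)
    (e : Nonempty (mSub ≃* Cfsg.M24)) :
    (Subgroup.normalizer (V : Set G)).index = 173067389 ∧
      ∃ c : Fin 7 → G ⧸ Subgroup.normalizer (V : Set G),
        (∀ i j : Fin 7, i ≠ j →
          MulAction.orbit ↥(Subgroup.normalizer (V : Set G)) (c i) ≠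
            MulAction.orbit ↥(Subgroup.normalizer (V : Set G)) (c j)) ∧
        (∀ q : G ⧸ Subgroup.normalizer (V : Set G),
          ∃ i : Fin 7, q ∈ MulAction.orbit ↥(Subgroup.normalizer (V : Set G)) (c i)) ∧
        (List.ofFn fun i => (MulAction.orbit ↥(Subgroup.normalizer (V : Set G)) (c i)).ncard) =
          [1, 15180, 28336, 3400320, 32643072, 54405120, 82575360] := by
  obtain ⟨f⟩ := hI
  have := finite_J4 M
  have hf := faithful M
  have hH : Nat.card HJ = 501397585920 := by rw [← hSub_eq_HJ]; exact Suborbit.card_hSub M e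
  have := M.finite
  have hq : Nat.card HBound.qGroup = 2 ^ 11 := by
    refine le_antisymm (HBound.card_qGroup_le hf).2 ?_
    have hfin := (Set.toFinite (mSub : Set Cfsg.Spor.J4)).mul
      (Set.toFinite (HBound.qGroup : Set Cfsg.Spor.J4))
    have h1 : Nat.card HJ ≤ Nat.card mSub * Nat.card HBound.qGroup := by
      refine le_trans ?_ Set.natCard_mul_le
      rw [Nat.card_coe_set_eq]
      exact (Nat.card_coe_set_eq _).trans_le (Set.ncard_le_ncard (HBound.HJ_subset hf) hfin)
    have h2 := Nat.mul_le_mul_right (Nat.card HBound.qGroup) M.card_le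
    omega
  set A : Subgroup G := HBound.qGroup.map f.symm.toMonoidHom with hAdef
  have hA : Cfsg.IsElementaryAbelian 2 A := by
    refine JFourEleven.isElementaryAbelian_of_sq ?_
    rintro _ ⟨a, ha, rfl⟩
    show f.symm a * f.symm a = 1
    rw [← map_mul, HBound.qGroup_sq hf a ha, map_one]
  have hAc : Nat.card A = 2 ^ 11 := by
    rw [hAdef, Subgroup.card_map_of_injective f.symm.injective, hq]
  have hN : (Subgroup.normalizer (A : Set G)).map f.toMonoidHom = HJ := by
    rw [Subgroup.map_equiv_normalizer_eq]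
    have e1 : A.map f.toMonoidHom = HBound.qGroup := by
      rw [hAdef, Subgroup.map_map]
      rw [show f.toMonoidHom.comp f.symm.toMonoidHom = MonoidHom.id _ from
        MonoidHom.ext fun x => f.apply_symm_apply x, Subgroup.map_id]
    rw [e1]
    refine (Subgroup.eq_of_le_of_card_ge (HBound.HJ_le_normalizer hf) ?_).symm
    rw [hH, ← e1, ← Subgroup.map_equiv_normalizer_eq, Subgroup.card_map_of_injective f.injective,
      card_normalizer_eleven hG hJ hA hAc]
  obtain ⟨g, hg⟩ := exists_conj_eleven hJ hV hcard hA hAc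
  have hφ : (Subgroup.normalizer (V : Set G)).map ((MulAut.conj g).trans f).toMonoidHom = hSub := by
    rw [hSub_eq_HJ, ← hN, ← hg, ← Subgroup.map_equiv_normalizer_eq, Subgroup.map_map]
    rfl
  obtain ⟨c, hd, hc, hl⟩ := Suborbit.suborbits M e
  obtain ⟨hidx, hrest⟩ := suborbits_transfer ((MulAut.conj g).trans f) hφ c hd hc hl
  exact ⟨hidx.trans (index_hSub M e), hrest⟩

end Local

end CfsgLib.JFourFacts
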