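import Cfsg.Agent.JFourFacts.ElevenGroup
import Mathlib.LinearAlgebra.Matrix.GeneralLinearGroup.Defs

/-!
# The forty-eight nodes form a general linear group of degree two over the field with three elements
-/

set_option autoImplicit false
set_option maxRecDepth 100000

namespace CfsgLib.JFourFacts

open Matrix

/-- The matrix of a position in the list. -/
def glMat (i : ℕ) : Matrix (Fin 2) (Fin 2) (ZMod 3) :=
  let e := glList.getD i (1, 0, 0, 1)
  !![(e.1 : ZMod 3), (e.2.1 : ZMod 3); (e.2.2.1 : ZMod 3), (e.2.2.2 : ZMod 3)]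

/-- The position of a matrix in the list. -/
def glIdx (M : Matrix (Fin 2) (Fin 2) (ZMod 3)) : ℕ :=
  glList.idxOf ((M 0 0).val, (M 0 1).val, (M 1 0).val, (M 1 1).val)

theorem gl_spec : ∀ M N : Matrix (Fin 2) (Fin 2) (ZMod 3), M * N = 1 → glIdx M < 48 ∧ glMat (glIdx M) = M := by
  decide +kernel

theorem gl_edges : ∀ i < 48,
    glIdx (glMat i * !![1, 1; 0, 1]) = (glEdges.getD i (0, 0)).1 ∧
    glIdx (glMat i * !![0, 1; 1, 0]) = (glEdges.getD i (0, 0)).2 ∧ glIdx (glMat i) = i := by
  decide +kernel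

theorem gl_cover : ∀ k < 48, k = 0 ∨ ∃ i, i < k ∧
    ((glEdges.getD i (0, 0)).1 = k ∨ (glEdges.getD i (0, 0)).2 = k) := by
  decide +kernel

theorem glMat_zero : glMat 0 = 1 ∧ glIdx 1 = 0 := by decide +kernel

namespace Env

variable {G : Type*} [Group G] (E : Env G)

theorem node48 : E.e 48 = 1 := by
  refine E.inj (Units.ext ?_)
  rw [map_one, Units.val_one, E.val 48 (by norm_num)]
  have h := List.all_eq_true.1 defs_ok 30 (by simp)
  simp only [defOk, Bool.and_eq_true] at h
  have := CfsgLib.JankoFour.prod_eq_of_sameProd extTab_good h.2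
  rw [List.map_cons, List.map_nil, List.prod_singleton] at this
  simpa [extWord, extDefs] using this

theorem gl_step {i : ℕ} (hi : i < 48) :
    E.e (48 + i) * E.e 47 = E.e (48 + (glEdges.getD i (0, 0)).1) ∧
      E.e (48 + i) * E.e 19 = E.e (48 + (glEdges.getD i (0, 0)).2) := by
  constructor
  · simpa [word] using E.word_eq (v := [48 + i, 47]) (w := [48 + (glEdges.getD i (0, 0)).1])
      (List.mem_append_right _ (List.mem_flatMap.2 ⟨i, List.mem_range.2 hi, List.mem_cons_self⟩))
  · simpa [word] using E.word_eq (v := [48 + i, 19]) (w := [48 + (glEdges.getD i (0, 0)).2])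
      (List.mem_append_right _ (List.mem_flatMap.2
        ⟨i, List.mem_range.2 hi, List.mem_cons_of_mem _ List.mem_cons_self⟩))

/-- The map of the general linear group. -/
def glMap (M : Matrix (Fin 2) (Fin 2) (ZMod 3)) : G := E.e (48 + glIdx M)

theorem glMap_one : E.glMap 1 = 1 := by rw [glMap, glMat_zero.2]; exact E.node48

theorem glMap_gens : E.glMap !![1, 1; 0, 1] = E.e 47 ∧ E.glMap !![0, 1; 1, 0] = E.e 19 := by
  obtain ⟨h1, h2⟩ := E.gl_step (i := 0) (by norm_num)
  obtain ⟨e1, e2, -⟩ := gl_edges 0 (by norm_num)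
  rw [glMat_zero.1, one_mul] at e1 e2
  rw [E.node48, one_mul] at h1 h2
  exact ⟨by rw [glMap, e1, h1], by rw [glMap, e2, h2]⟩

theorem glMap_mul_gen {g : Matrix (Fin 2) (Fin 2) (ZMod 3)} {g' : Matrix (Fin 2) (Fin 2) (ZMod 3)}
    (hg : g * g' = 1) :
    E.glMap (g * !![1, 1; 0, 1]) = E.glMap g * E.e 47 ∧
      E.glMap (g * !![0, 1; 1, 0]) = E.glMap g * E.e 19 := by
  obtain ⟨hlt, he⟩ := gl_spec g g' hg
  obtain ⟨h1, h2⟩ := E.gl_step hlt
  obtain ⟨e1, e2, -⟩ := gl_edges _ hlt
  rw [he] at e1 e2
  exact ⟨by rw [glMap, glMap, h1, e1], by rw [glMap, glMap, h2, e2]⟩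

theorem gl_mul_nat : ∀ k, k < 48 → ∀ g : GL (Fin 2) (ZMod 3),
    E.glMap (g.val * glMat k) = E.glMap g.val * E.glMap (glMat k) ∧
      ∃ u : GL (Fin 2) (ZMod 3), u.val = glMat k := by
  intro k
  induction k using Nat.strong_induction_on with
  | _ k ih =>
    intro hk g
    rcases gl_cover k hk with rfl | ⟨i, hik, h⟩
    · rw [glMat_zero.1, mul_one, E.glMap_one, mul_one]
      exact ⟨rfl, 1, rfl⟩
    obtain ⟨hgi, u, hu⟩ := ih i hik (by omega) g
    obtain ⟨e1, e2, hii⟩ := gl_edges i (by omega)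
    let S : GL (Fin 2) (ZMod 3) := ⟨!![1, 1; 0, 1], !![1, 2; 0, 1], by decide, by decide⟩
    let W : GL (Fin 2) (ZMod 3) := ⟨!![0, 1; 1, 0], !![0, 1; 1, 0], by decide, by decide⟩
    have key : ∀ s : GL (Fin 2) (ZMod 3), glMat i * s.val = glMat k →
        (∀ a a' : Matrix (Fin 2) (Fin 2) (ZMod 3), a * a' = 1 → E.glMap (a * s.val) = E.glMap a * E.glMap s.val) →
        E.glMap (g.val * glMat k) = E.glMap g.val * E.glMap (glMat k) ∧
          ∃ u : GL (Fin 2) (ZMod 3), u.val = glMat k := by
      intro s hs hmul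
      have h1 := hmul (g * u).val (g * u)⁻¹.val
        (by rw [← Units.val_mul, mul_inv_cancel, Units.val_one])
      rw [Units.val_mul, hu, mul_assoc, hs] at h1
      have h2 := hmul u.val u⁻¹.val (by rw [← Units.val_mul, mul_inv_cancel, Units.val_one])
      rw [hu, hs] at h2
      exact ⟨by rw [h1, hgi, h2, mul_assoc], u * s, by rw [Units.val_mul, hu, hs]⟩
    have hval : ∀ s : GL (Fin 2) (ZMod 3), glIdx (glMat i * s.val) = k → glMat i * s.val = glMat k :=
      fun s e => by
        have := (gl_spec (glMat i * s.val) ((u * s)⁻¹).val (by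
          rw [← hu, ← Units.val_mul, ← Units.val_mul, mul_inv_cancel, Units.val_one])).2
        rw [e] at this
        exact this.symm
    rcases h with h | h
    · exact key S (hval S (e1.trans h)) fun a a' ha => by
        show E.glMap (a * !![1, 1; 0, 1]) = E.glMap a * E.glMap !![1, 1; 0, 1]
        rw [(E.glMap_mul_gen ha).1, E.glMap_gens.1]
    · exact key W (hval W (e2.trans h)) fun a a' ha => by
        show E.glMap (a * !![0, 1; 1, 0]) = E.glMap a * E.glMap !![0, 1; 1, 0]
        rw [(E.glMap_mul_gen ha).2, E.glMap_gens.2]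

/-- The homomorphism of the general linear group. -/
def glHom : GL (Fin 2) (ZMod 3) →* G where
  toFun g := E.glMap g.val
  map_one' := E.glMap_one
  map_mul' g h := by
    obtain ⟨hlt, he⟩ := gl_spec h.val h⁻¹.val (by rw [← Units.val_mul, mul_inv_cancel, Units.val_one])
    have := (E.gl_mul_nat _ hlt g).1
    rwa [he] at this

theorem glHom_injective : Function.Injective E.glHom := by
  refine (injective_iff_map_eq_one _).2 fun g hg => Units.ext ?_
  obtain ⟨hlt, he⟩ := gl_spec g.val g⁻¹.val (by rw [← Units.val_mul, mul_inv_cancel, Units.val_one])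
  by_contra hne
  rcases Nat.eq_zero_or_pos (glIdx g.val) with h0 | hpos
  · exact hne (by rw [← he, h0, glMat_zero.1, Units.val_one])
  have hr := rowChecks_ok
  simp only [rowChecks, Bool.and_eq_true, List.all_eq_true] at hr
  have hmv := hr.2 (48 + glIdx g.val) (by simp; exact Or.inl ⟨glIdx g.val - 1, by omega, by omega⟩)
  refine moves_spec hmv ?_
  rw [← E.val _ (by omega), show E.e (48 + glIdx g.val) = 1 from hg, map_one, Units.val_one]

theorem glHom_range_le [Finite G] : E.glHom.range ≤ Subgroup.normalizer (E.heis.sub : Set G) := by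
  have h47 : E.e 47 ∈ Subgroup.normalizer (E.heis.sub : Set G) :=
    E.node_normalizer (47, [(9, 9, 5), (7, 1, 9), (0, 0, 1)]) (by simp [actData_val])
  have h19 : E.e 19 ∈ Subgroup.normalizer (E.heis.sub : Set G) :=
    E.node_normalizer (19, [(10, 0, 0), (3, 1, 4), (0, 0, 10)]) (by simp [actData_val])
  have hall : ∀ k, k < 48 → E.e (48 + k) ∈ Subgroup.normalizer (E.heis.sub : Set G) := by
    intro k
    induction k using Nat.strong_induction_on with
    | _ k ih =>
      intro hk
      rcases gl_cover k hk with rfl | ⟨i, hik, h⟩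
      · rw [Nat.add_zero, E.node48]; exact one_mem _
      obtain ⟨h1, h2⟩ := E.gl_step (i := i) (by omega)
      rcases h with h | h
      · rw [← h, ← h1]; exact mul_mem (ih i hik (by omega)) h47
      · rw [← h, ← h2]; exact mul_mem (ih i hik (by omega)) h19
  rintro _ ⟨g, rfl⟩
  exact hall _ (gl_spec g.val g⁻¹.val (by rw [← Units.val_mul, mul_inv_cancel, Units.val_one])).1

end Env

end CfsgLib.JFourFacts
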