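import Cfsg.Agent.JFourFacts.ElevenMatrices

/-!
# The Sylow 11-subgroup inside a group with the nodes, and the elements normalising it
-/

set_option autoImplicit false
set_option maxRecDepth 100000

namespace CfsgLib.JFourFacts

namespace Env

variable {G : Type*} [Group G] (E : Env G)

theorem val_tm {c : ℕ} (hc : c < 96) : (E.ρ (E.e c)).val = tm c := (E.val c hc).trans (tm_eq c).symm

theorem word_replicate (n c : ℕ) : E.word (List.replicate n c) = E.e c ^ n := by
  rw [word, List.map_replicate, List.prod_replicate]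

theorem word_nil : E.word [] = 1 := by simp [word]

theorem u_rels : E.e 17 ^ 11 = 1 ∧ E.e 16 ^ 11 = 1 ∧ E.e 16 * E.e 17 = E.e 15 * E.e 17 * E.e 16 ∧
    Commute (E.e 15) (E.e 17) ∧ Commute (E.e 15) (E.e 16) := by
  have h : ∀ v w, (v, w) ∈ uChecks → E.word v = E.word w := fun v w hm =>
    E.word_eq (by simp only [relChecks, List.mem_append]; exact Or.inl (Or.inl (Or.inl hm)))
  refine ⟨?_, ?_, ?_, ?_, ?_⟩
  · rw [← E.word_replicate 11 17, h (List.replicate 11 17) [] (by simp [uChecks]), E.word_nil]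
  · rw [← E.word_replicate 11 16, h (List.replicate 11 16) [] (by simp [uChecks]), E.word_nil]
  · simpa [word, mul_assoc] using h [16, 17] [15, 17, 16] (by simp [uChecks])
  · simpa [word, commute_iff_eq] using h [15, 17] [17, 15] (by simp [uChecks])
  · simpa [word, commute_iff_eq] using h [15, 16] [16, 15] (by simp [uChecks])

theorem e15_ne : E.e 15 ≠ 1 := by
  intro h
  have h1 := E.val 15 (by norm_num)
  rw [h, map_one, Units.val_one] at h1
  have hr := rowChecks_ok
  simp only [rowChecks, Bool.and_eq_true, List.all_eq_true] at hr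
  exact moves_spec (hr.2 15 (by simp)) h1.symm

/-- The Sylow 11-subgroup as an extraspecial triple. -/
def heis : Heis G where
  y := E.e 17
  b := E.e 16
  c := E.e 15
  y_pow := E.u_rels.1
  b_pow := E.u_rels.2.1
  rel := E.u_rels.2.2.1
  cy := E.u_rels.2.2.2.1
  cb := E.u_rels.2.2.2.2
  c_ne := E.e15_ne

theorem word_nf (t : ℕ × ℕ × ℕ) : E.word (nfWord t) = E.heis.nf t.1 t.2.1 t.2.2 := by
  simp [word, nfWord, Heis.nf, heis, List.map_replicate, List.prod_replicate, mul_assoc]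

theorem act (d : ℕ × List (ℕ × ℕ × ℕ)) (hd : d ∈ actData) (k : ℕ) (hk : k < 3) :
    E.e d.1 * E.e (17 - k) * (E.e d.1)⁻¹ =
      E.heis.nf (d.2.getD k (0, 0, 0)).1 (d.2.getD k (0, 0, 0)).2.1 (d.2.getD k (0, 0, 0)).2.2 := by
  have h := E.word_eq (v := [d.1, 17 - k]) (w := nfWord (d.2.getD k (0, 0, 0)) ++ [d.1]) (by
    refine List.mem_append_left _ (List.mem_append_right _ ?_)
    exact List.mem_flatMap.2 ⟨d, hd, List.mem_map.2 ⟨k, List.mem_range.2 hk, rfl⟩⟩)
  have e : E.word (nfWord (d.2.getD k (0, 0, 0)) ++ [d.1]) =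
      E.word (nfWord (d.2.getD k (0, 0, 0))) * E.e d.1 := by simp [word]
  rw [e, word_nf] at h
  rw [mul_inv_eq_iff_eq_mul]
  simpa [word] using h

theorem node_normalizer [Finite G] (d : ℕ × List (ℕ × ℕ × ℕ)) (hd : d ∈ actData) :
    E.e d.1 ∈ Subgroup.normalizer (E.heis.sub : Set G) := by
  have himg : ∀ g ∈ E.heis.sub, E.e d.1 * g * (E.e d.1)⁻¹ ∈ E.heis.sub := by
    rintro _ ⟨i, k, l, rfl⟩
    have h0 : E.e d.1 * E.heis.y * (E.e d.1)⁻¹ ∈ E.heis.sub := by
      show E.e d.1 * E.e (17 - 0) * (E.e d.1)⁻¹ ∈ _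
      rw [E.act d hd 0 (by norm_num)]; exact Heis.nf_mem _ _ _ _
    have h1 : E.e d.1 * E.heis.b * (E.e d.1)⁻¹ ∈ E.heis.sub := by
      show E.e d.1 * E.e (17 - 1) * (E.e d.1)⁻¹ ∈ _
      rw [E.act d hd 1 (by norm_num)]; exact Heis.nf_mem _ _ _ _
    have h2 : E.e d.1 * E.heis.c * (E.e d.1)⁻¹ ∈ E.heis.sub := by
      show E.e d.1 * E.e (17 - 2) * (E.e d.1)⁻¹ ∈ _
      rw [E.act d hd 2 (by norm_num)]; exact Heis.nf_mem _ _ _ _
    rw [Heis.nf, ← MulAut.conj_apply, map_mul, map_mul, map_pow, map_pow, map_pow]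
    simp only [MulAut.conj_apply]
    exact mul_mem (mul_mem (pow_mem h0 _) (pow_mem h1 _)) (pow_mem h2 _)
  have hle : E.heis.sub.map (MulAut.conj (E.e d.1)).toMonoidHom ≤ E.heis.sub := by
    rintro _ ⟨g, hg, rfl⟩
    exact himg g hg
  have heq := Subgroup.eq_of_le_of_card_ge hle
    (by rw [Subgroup.card_map_of_injective (MulAut.conj (E.e d.1)).injective])
  refine Subgroup.mem_normalizer_iff.2 fun g => ⟨himg g, fun hg => ?_⟩
  rw [← heq] at hg
  obtain ⟨g', hg', e⟩ := hg
  exact (MulAut.conj (E.e d.1)).injective e ▸ hg'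

theorem actData_val : actData = [(47, [(9, 9, 5), (7, 1, 9), (0, 0, 1)]),
    (19, [(10, 0, 0), (3, 1, 4), (0, 0, 10)]), (20, [(4, 0, 0), (0, 4, 4), (0, 0, 5)])] := rfl

theorem commute_47_c : Commute (E.e 47) (E.e 15) := by
  have h := E.act (47, [(9, 9, 5), (7, 1, 9), (0, 0, 1)]) (by simp [actData_val]) 2 (by norm_num)
  simp only [List.getD_cons_succ, List.getD_cons_zero, Heis.nf, pow_zero, one_mul, pow_one] at h
  exact mul_inv_eq_iff_eq_mul.1 h

theorem m_rels : E.e 20 ^ 5 = 1 ∧ E.e 20 ≠ 1 := by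
  refine ⟨?_, fun e => ?_⟩
  · rw [← E.word_replicate 5 20, E.word_eq (v := List.replicate 5 20) (w := []) (by simp [relChecks]),
      E.word_nil]
  · have h := E.act (20, [(4, 0, 0), (0, 4, 4), (0, 0, 5)]) (by simp [actData_val]) 2 (by norm_num)
    simp only [List.getD_cons_succ, List.getD_cons_zero, e, one_mul, inv_one, mul_one] at h
    have h4 : E.heis.c ^ 4 = 1 := by
      have h' : E.heis.c * 1 = E.heis.c * E.heis.c ^ 4 := by
        rw [mul_one, ← pow_succ']
        simpa [Heis.nf, heis] using h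
      exact (mul_left_cancel h').symm
    exact absurd ((E.heis.c_pow_eq_one_iff 4).1 h4) (by norm_num)

end Env

end CfsgLib.JFourFacts
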