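import Cfsg.Prelude.Def_Transfer
import Cfsg.Agent.SymplecticType.Ext
import Cfsg.Agent.LargeExtraspecial.Simplicity

/-!
# Two generators of period eleven with central commutator
-/

set_option autoImplicit false

namespace CfsgLib.JFourFacts

variable {G : Type*} [Group G]

/-- Three elements of period eleven with `b y = c y b` and `c` central, non-trivial. -/
structure Heis (G : Type*) [Group G] where
  y : G
  b : G
  c : G
  y_pow : y ^ 11 = 1
  b_pow : b ^ 11 = 1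
  rel : b * y = c * y * b
  cy : Commute c y
  cb : Commute c b
  c_ne : c ≠ 1

namespace Heis

variable (h : Heis G)

/-- The normal form. -/
def nf (i k l : ℕ) : G := h.y ^ i * h.b ^ k * h.c ^ l

theorem b_mul_pow (i : ℕ) : h.b * h.y ^ i = h.c ^ i * h.y ^ i * h.b := by
  induction i with
  | zero => simp
  | succ i ih =>
    rw [pow_succ h.y i, ← mul_assoc h.b, ih, mul_assoc (h.c ^ i * h.y ^ i) h.b, h.rel, pow_succ h.c i,
      ← mul_assoc, ← mul_assoc, mul_assoc (h.c ^ i) (h.y ^ i) h.c,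
      ((h.cy.pow_right i).symm).eq]
    simp only [mul_assoc]

theorem pow_mul_pow (k i : ℕ) : h.b ^ k * h.y ^ i = h.c ^ (k * i) * h.y ^ i * h.b ^ k := by
  induction k with
  | zero => simp
  | succ k ih =>
    rw [pow_succ', mul_assoc, ih, ← mul_assoc, ← mul_assoc, (h.cb.pow_left (k * i)).symm.eq,
      mul_assoc (h.c ^ (k * i)), b_mul_pow, add_mul, one_mul, pow_add]
    simp only [mul_assoc]

theorem c_pow : h.c ^ 11 = 1 := by
  have e := h.pow_mul_pow 1 11
  rw [h.y_pow, pow_one, mul_one, one_mul, mul_one] at e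
  exact mul_eq_right.1 e.symm

theorem orderOf_c : orderOf h.c = 11 :=
  haveI : Fact (Nat.Prime 11) := ⟨by norm_num⟩
  orderOf_eq_prime h.c_pow h.c_ne

theorem c_pow_mod (l : ℕ) : h.c ^ (l % 11) = h.c ^ l := (pow_eq_pow_mod l h.c_pow).symm

theorem nf_mul (i k l i' k' l' : ℕ) :
    h.nf i k l * h.nf i' k' l' = h.nf (i + i') (k + k') (l + l' + k * i') := by
  have e : h.b ^ k * h.y ^ i' = h.y ^ i' * h.b ^ k * h.c ^ (k * i') := by
    rw [pow_mul_pow, ((h.cy.pow_pow (k * i') i').mul_right (h.cb.pow_pow (k * i') k)).symm.eq,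
      mul_assoc]
  unfold nf
  calc h.y ^ i * h.b ^ k * h.c ^ l * (h.y ^ i' * h.b ^ k' * h.c ^ l')
      = h.y ^ i * h.b ^ k * (h.c ^ l * h.y ^ i') * h.b ^ k' * h.c ^ l' := by simp only [mul_assoc]
    _ = h.y ^ i * (h.b ^ k * h.y ^ i') * (h.c ^ l * h.b ^ k') * h.c ^ l' := by
        rw [(h.cy.pow_pow l i').eq]; simp only [mul_assoc]
    _ = h.y ^ i * h.y ^ i' * (h.b ^ k * (h.c ^ (k * i') * h.b ^ k')) * (h.c ^ l * h.c ^ l') := by
        rw [e, (h.cb.pow_pow l k').eq]; simp only [mul_assoc]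
    _ = _ := by
        rw [(h.cb.pow_pow (k * i') k').eq, pow_add, pow_add, pow_add h.c, pow_add h.c]
        simp only [mul_assoc]
        simp only [← pow_add]
        rw [show k * i' + (l + l') = l + (l' + k * i') by ring]

theorem nf_mod (i k l : ℕ) : h.nf i k l = h.nf (i % 11) (k % 11) (l % 11) := by
  rw [nf, nf, pow_eq_pow_mod i h.y_pow, pow_eq_pow_mod k h.b_pow, c_pow_mod]

theorem nf_zero : h.nf 0 0 0 = 1 := by simp [nf]

theorem nf_one_b : h.nf 0 1 0 = h.b := by simp [nf]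

theorem nf_one_y : h.nf 1 0 0 = h.y := by simp [nf]

theorem nf_one_c : h.nf 0 0 1 = h.c := by simp [nf]

theorem nf_pow (i k l : ℕ) : ∀ n : ℕ, h.nf i k l ^ n = h.nf (n * i) (n * k) (n * l + n.choose 2 * (k * i))
  | 0 => by simp [nf]
  | n + 1 => by
    rw [pow_succ, nf_pow i k l n, nf_mul, show (n + 1).choose 2 = n + n.choose 2 by
      rw [Nat.choose_succ_succ', Nat.choose_one_right]]
    congr 1 <;> ring

theorem nf_pow_eleven (i k l : ℕ) : h.nf i k l ^ 11 = 1 := by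
  rw [nf_pow, nf_mod, show Nat.choose 11 2 = 11 * 5 from rfl, Nat.mul_mod_right, Nat.mul_mod_right,
    mul_assoc, ← mul_add, Nat.mul_mod_right]
  exact h.nf_zero

theorem nf_comm_c (i k l : ℕ) : Commute h.c (h.nf i k l) :=
  ((h.cy.pow_right i).mul_right (h.cb.pow_right k)).mul_right ((Commute.refl h.c).pow_right l)

theorem c_pow_eq_one_iff (l : ℕ) : h.c ^ l = 1 ↔ 11 ∣ l := by
  rw [← h.orderOf_c, orderOf_dvd_iff_pow_eq_one]

theorem dvd_of_commute_b {i k l : ℕ} (e : Commute (h.nf i k l) h.b) : 11 ∣ i := by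
  have e' : h.nf i k l * h.nf 0 1 0 = h.nf 0 1 0 * h.nf i k l := by rw [nf_one_b]; exact e.eq
  rw [nf_mul, nf_mul, Nat.add_comm i 0, Nat.add_comm k 1] at e'
  simp only [nf, mul_zero, add_zero, zero_add, one_mul, pow_add] at e'
  have h2 := mul_left_cancel e'
  exact (h.c_pow_eq_one_iff i).1 (left_eq_mul.1 h2)

theorem dvd_of_commute_y {i k l : ℕ} (e : Commute (h.nf i k l) h.y) : 11 ∣ k := by
  have e' : h.nf i k l * h.nf 1 0 0 = h.nf 1 0 0 * h.nf i k l := by rw [nf_one_y]; exact e.eq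
  rw [nf_mul, nf_mul, Nat.add_comm i 1, Nat.add_comm k 0] at e'
  simp only [nf, mul_one, zero_mul, add_zero, zero_add, pow_add] at e'
  have h2 := mul_left_cancel e'
  exact (h.c_pow_eq_one_iff k).1 (mul_eq_left.1 h2)

theorem exists_nf_of_triple (i k l : ℕ) :
    ∃ t : Fin 11 × Fin 11 × Fin 11, h.nf i k l = h.nf t.1.val t.2.1.val t.2.2.val :=
  ⟨⟨⟨i % 11, Nat.mod_lt _ (by norm_num)⟩, ⟨k % 11, Nat.mod_lt _ (by norm_num)⟩,
    ⟨l % 11, Nat.mod_lt _ (by norm_num)⟩⟩, h.nf_mod i k l⟩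

/-- The subgroup of the normal forms. -/
def sub : Subgroup G where
  carrier := {g | ∃ i k l, h.nf i k l = g}
  one_mem' := ⟨0, 0, 0, h.nf_zero⟩
  mul_mem' := by
    rintro _ _ ⟨i, k, l, rfl⟩ ⟨i', k', l', rfl⟩
    exact ⟨_, _, _, (h.nf_mul i k l i' k' l').symm⟩
  inv_mem' := by
    rintro _ ⟨i, k, l, rfl⟩
    refine ⟨10 * i, 10 * k, 10 * l + Nat.choose 10 2 * (k * i), eq_inv_of_mul_eq_one_left ?_⟩
    rw [← h.nf_pow i k l 10, ← pow_succ, h.nf_pow_eleven]

theorem nf_mem (i k l : ℕ) : h.nf i k l ∈ h.sub := ⟨i, k, l, rfl⟩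

theorem pow_eleven {g : G} (hg : g ∈ h.sub) : g ^ 11 = 1 := by
  obtain ⟨i, k, l, rfl⟩ := hg
  exact h.nf_pow_eleven i k l

theorem nf_eq_one {i k l : ℕ} (e : h.nf i k l = 1) : 11 ∣ i ∧ 11 ∣ k ∧ 11 ∣ l := by
  have h1 := h.dvd_of_commute_b (i := i) (k := k) (l := l) (e ▸ Commute.one_left _)
  have h2 := h.dvd_of_commute_y (i := i) (k := k) (l := l) (e ▸ Commute.one_left _)
  refine ⟨h1, h2, (h.c_pow_eq_one_iff l).1 ?_⟩
  rwa [nf, pow_eq_pow_mod i h.y_pow, Nat.mod_eq_zero_of_dvd h1, pow_eq_pow_mod k h.b_pow,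
    Nat.mod_eq_zero_of_dvd h2, pow_zero, pow_zero, one_mul, one_mul] at e

theorem nf_injective : Function.Injective
    fun t : Fin 11 × Fin 11 × Fin 11 => h.nf t.1.val t.2.1.val t.2.2.val := by
  rintro ⟨i, k, l⟩ ⟨i', k', l'⟩ e
  simp only at e
  have h1 : h.nf i.val k.val l.val * h.nf (10 * i'.val) (10 * k'.val)
      (10 * l'.val + Nat.choose 10 2 * (k'.val * i'.val)) = 1 := by
    rw [e, ← h.nf_pow i'.val k'.val l'.val 10, ← pow_succ', h.nf_pow_eleven]
  rw [nf_mul] at h1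
  obtain ⟨d1, d2, d3⟩ := h.nf_eq_one h1
  have hi : i = i' := Fin.ext (by omega)
  have hk : k = k' := Fin.ext (by omega)
  subst hi hk
  have hl : l = l' := Fin.ext (by
    rw [show Nat.choose 10 2 = 45 from rfl] at d3
    rw [show k.val * (10 * i.val) = 10 * (k.val * i.val) by ring] at d3
    generalize k.val * i.val = z at d3
    omega)
  rw [hl]

theorem card_sub : Nat.card h.sub = 11 ^ 3 := by
  rw [← Nat.card_congr (Equiv.ofBijective (fun t : Fin 11 × Fin 11 × Fin 11 =>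
    (⟨h.nf t.1.val t.2.1.val t.2.2.val, h.nf_mem _ _ _⟩ : h.sub)) ⟨fun s t e =>
      h.nf_injective (congrArg Subtype.val e), fun g => by
      obtain ⟨i, k, l, e⟩ := g.2
      obtain ⟨t, ht⟩ := h.exists_nf_of_triple i k l
      exact ⟨t, Subtype.ext (ht.symm.trans e)⟩⟩)]
  simp

theorem exponent_sub : Monoid.exponent h.sub = 11 := by
  refine (Nat.Prime.eq_one_or_self_of_dvd (by norm_num) _
    (Monoid.exponent_dvd_of_forall_pow_eq_one fun g => Subtype.ext (h.pow_eleven g.2))).resolve_left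
    fun e => h.c_ne ?_
  have := Monoid.pow_exponent_eq_one (⟨h.c, ⟨0, 0, 1, h.nf_one_c⟩⟩ : h.sub)
  rw [e, pow_one] at this
  exact congrArg Subtype.val this

theorem isExtraspecial_sub [Finite G] : Cfsg.IsExtraspecial 11 h.sub := by
  have : Fact (Nat.Prime 11) := ⟨by norm_num⟩
  have hp : IsPGroup 11 h.sub := IsPGroup.of_card h.card_sub
  let cU : h.sub := ⟨h.c, ⟨0, 0, 1, h.nf_one_c⟩⟩
  have hcU : orderOf cU = 11 := by rw [← Subgroup.orderOf_coe]; exact h.orderOf_c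
  have hext : CfsgLib.SymplecticType.Ext 11 cU (⊤ : Subgroup h.sub) := by
    have hz : ∀ {g : h.sub} {l : ℕ}, (g : G) = h.c ^ l → g ∈ Subgroup.zpowers cU := fun {g l} e => by
      rw [show g = cU ^ l from Subtype.ext e]
      exact Subgroup.npow_mem_zpowers _ _
    refine ⟨Subgroup.mem_top _, ?_, fun x _ => ?_, fun x _ hc => ?_⟩
    · rintro ⟨_, i, k, l, rfl⟩ - ⟨_, i', k', l', rfl⟩ -
      refine hz (l := k * i' + 10 * (k' * i)) ?_
      have e1 := h.nf_mul i k l i' k' l'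
      have e2 : h.nf i' k' l' * h.nf i k l = h.nf (i + i') (k + k') (l + l' + k' * i) := by
        rw [nf_mul, add_comm i' i, add_comm k' k, add_comm l' l]
      show h.nf i k l * h.nf i' k' l' * (h.nf i k l)⁻¹ * (h.nf i' k' l')⁻¹ = _
      rw [mul_assoc _ (h.nf i k l)⁻¹, ← mul_inv_rev, e1, e2, mul_inv_eq_iff_eq_mul,
        ((h.nf_comm_c (i + i') (k + k') (l + l' + k' * i)).pow_left _).eq]
      simp only [nf, mul_assoc, ← pow_add]
      rw [show l + l' + k' * i + (k * i' + 10 * (k' * i)) = l + l' + k * i' + 11 * (k' * i) by ring,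
        pow_add _ (l + l' + k * i'), pow_mul, h.c_pow, one_pow, mul_one]
    · rw [show x ^ 11 = 1 from Subtype.ext (h.pow_eleven x.2)]
      exact one_mem _
    · obtain ⟨i, k, l, hx⟩ := x.2
      have key : ∀ g : G, g ∈ h.sub → Commute (h.nf i k l) g := fun g hg =>
        hx ▸ congrArg Subtype.val (hc ⟨g, hg⟩ trivial).eq
      have h1 := h.dvd_of_commute_b (key h.b ⟨0, 1, 0, h.nf_one_b⟩)
      have h2 := h.dvd_of_commute_y (key h.y ⟨1, 0, 0, h.nf_one_y⟩)
      refine hz (l := l) ?_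
      rw [← hx, nf, pow_eq_pow_mod i h.y_pow, Nat.mod_eq_zero_of_dvd h1,
        pow_eq_pow_mod k h.b_pow, Nat.mod_eq_zero_of_dvd h2, pow_zero, pow_zero, one_mul, one_mul]
  have hne : (⊤ : Subgroup h.sub) ≠ Subgroup.zpowers cU := fun e => by
    have := congrArg (fun S : Subgroup h.sub => Nat.card S) e
    simp only [Subgroup.card_top, h.card_sub, Nat.card_zpowers, hcU] at this
    norm_num at this
  have he := hext.isExtraspecial hp hcU hne
  exact CfsgLib.LargeExtraspecial.isExtraspecial_of_mulEquiv Subgroup.topEquiv he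

end Heis

end CfsgLib.JFourFacts
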