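import Cfsg.Agent.JFourFacts.ElevenModel
import Cfsg.Agent.JFourFacts.Heisenberg
import Cfsg.Agent.JFourFacts.Commutant

/-!
# The matrices of the certificates: fixed rows of the generators of the Sylow 11-subgroup
-/

set_option autoImplicit false
set_option maxRecDepth 100000

namespace CfsgLib.JFourFacts

open CfsgLib.JankoFour CfsgLib.JankoFourRep Matrix Finset

/-- The matrix of a node. -/
@[irreducible] def tm (c : ℕ) : Mat := toMat (extTab c)

theorem tm_eq (c : ℕ) : tm c = toMat (extTab c) := by rw [tm]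

theorem row_tm (c : ℕ) (i : Fin 112) : (tm c) i = vecOf ((extTab c).getD i.val 0) := by
  rw [tm_eq]
  rfl

theorem prod_tm (w : List ℕ) : (w.map fun c => toMat (extTab c)).prod = (w.map tm).prod := by
  rw [show tm = fun c => toMat (extTab c) from funext tm_eq]

theorem sum_tm {vs ws : List (List ℕ)} (h : (vs, ws) ∈ sumChecks) :
    (vs.map fun w => (w.map tm).prod).sum = (ws.map fun w => (w.map tm).prod).sum := by
  have := sum_check h
  simp only [prod_tm] at this
  exact this

theorem list_powSum {R : Type*} [Semiring R] (f : ℕ → R) (c : ℕ) :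
    (((List.range 11).map fun i => List.replicate i c).map fun w => (w.map f).prod).sum =
      ∑ i ∈ range 11, f c ^ i := by
  rw [List.map_map, Function.comp_def]
  simp only [List.map_replicate, List.prod_replicate]
  simp [Finset.sum_range_succ, List.range_succ]
  try abel

theorem getD_bound {c : ℕ} {i : ℕ} : (extTab c).getD i 0 < lane := by
  rw [List.getD_eq_getElem?_getD]
  cases h : (extTab c)[i]? with
  | none => exact (by decide : (0 : ℕ) < lane)
  | some a => exact (extTab_good c).2 a (List.mem_of_getElem? h)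

theorem evalRow_one (c r : ℕ) : vecOf (evalRow extTab [c] r) = vecOf r ᵥ* tm c := by
  rw [vecOf_evalRow extTab (fun c => (extTab_good c).1), prod_tm, List.map_cons, List.map_nil, List.prod_singleton]

theorem evalRow_replicate (c i r : ℕ) :
    vecOf (evalRow extTab (List.replicate i c) r) = vecOf r ᵥ* tm c ^ i := by
  rw [vecOf_evalRow extTab (fun c => (extTab_good c).1), prod_tm, List.map_replicate, List.prod_replicate]

/-- The base vector. -/
def v0 : Fin 112 → ZMod 2 := vecOf baseVec

theorem row_checks :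
    v0 ᵥ* tm 17 = v0 ∧ v0 ᵥ* tm 96 = 0 ∧
      (∀ i : Fin 112, i.val < 10 → (tm 99) i = v0 ᵥ* tm 15 ^ i.val) ∧
      (∀ i : Fin 112, ¬ i.val < 10 → (tm 99) i = 0) ∧
      ∀ k : Fin 112, (tm 101) k = 0 ∨ ∃ i j, (tm 101) k = v0 ᵥ* (tm 15 ^ i * tm 16 ^ j) := by
  have hr := rowChecks_ok
  simp only [rowChecks, Bool.and_eq_true, List.all_eq_true, List.mem_range] at hr
  obtain ⟨⟨⟨⟨⟨⟨⟨⟨⟨⟨⟨⟨⟨h1, h2⟩, h3⟩, h4⟩, h5⟩, h6⟩, h7⟩, -⟩, -⟩, -⟩, -⟩, -⟩, -⟩, -⟩ := hr
  refine ⟨?_, ?_, fun i hi => ?_, fun i hi => ?_, fun k => ?_⟩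
  · rw [v0, ← evalRow_one, Nat.eq_of_beq_eq_true h1]
  · rw [v0, ← evalRow_one, Nat.eq_of_beq_eq_true h2, vecOf_zero]
  · rw [row_tm, v0, ← evalRow_replicate, Nat.eq_of_beq_eq_true (h3 i.val hi)]
  · have := Nat.eq_of_beq_eq_true (h4 (i.val - 10) (by omega))
    rw [Nat.sub_add_cancel (by omega)] at this
    rw [row_tm, this, vecOf_zero]
  · rw [row_tm]
    by_cases hk : k.val < 110
    · refine Or.inr ⟨k.val % 10, k.val / 10, ?_⟩
      have := Nat.eq_of_beq_eq_true (h5 (k.val / 10) (by omega) (k.val % 10) (by omega))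
      rw [show 10 * (k.val / 10) + k.val % 10 = k.val by omega] at this
      rw [← this, vecOf_evalRow extTab (fun c => (extTab_good c).1), prod_tm, v0]
      simp only [List.map_append, List.map_replicate, List.prod_append, List.prod_replicate]
    · refine Or.inl ?_
      obtain h | h : k.val = 110 ∨ k.val = 111 := by omega
      · rw [h, Nat.eq_of_beq_eq_true h6, vecOf_zero]
      · rw [h, Nat.eq_of_beq_eq_true h7, vecOf_zero]

theorem powSum_list (c : ℕ) :
    (((List.range 11).map fun i => List.replicate i c).map fun w => (w.map tm).prod).sum = powSum (tm c) :=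
  list_powSum tm c

theorem tm96 : tm 96 = powSum (tm 15) := by
  have h := sum_tm (vs := [[96]]) (ws := (List.range 11).map fun i => List.replicate i 15)
    (by simp [sumChecks])
  rw [powSum_list] at h
  simpa using h

theorem tm97 : tm 97 = powSum (tm 17) := by
  have h := sum_tm (vs := [[97]]) (ws := (List.range 11).map fun i => List.replicate i 17)
    (by simp [sumChecks])
  rw [powSum_list] at h
  simpa using h

theorem tm_span : tm 98 * tm 99 = powSum (tm 17) * (1 + powSum (tm 15)) := by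
  have h := sum_tm (vs := [[98, 99]]) (ws := [[97], [97, 96]]) (by simp [sumChecks])
  rw [← tm96, ← tm97, mul_add, mul_one]
  simpa using h

theorem tm_comp : tm 100 * tm 101 = 1 + powSum (tm 15) := by
  have h := sum_tm (vs := [[100, 101]]) (ws := [[], [96]]) (by simp [sumChecks])
  rw [← tm96]
  simpa using h

theorem tm_fix : tm 102 * tm 103 = powSum (tm 15) := by
  have h := sum_tm (vs := [[102, 103]]) (ws := [[96]]) (by simp [sumChecks])
  rw [← tm96]
  simpa using h

theorem tm_form_inv : tm 104 * tm 105 = 1 := by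
  simpa using sum_tm (vs := [[104, 105]]) (ws := [[]]) (by simp [sumChecks])

theorem sum_ten (f : Fin 112 → Fin 112 → ZMod 2) (g : ℕ → Fin 112 → ZMod 2)
    (h1 : ∀ i : Fin 112, i.val < 10 → f i = g i.val) (h0 : ∀ i : Fin 112, ¬ i.val < 10 → f i = 0)
    (u : Fin 112 → ZMod 2) :
    ∑ k, u k • f k = ∑ i : Fin 10, u (Fin.castLE (by norm_num) i) • g i.val := by
  rw [show ∑ k : Fin 112, u k • f k = ∑ k : Fin (10 + 102), u k • f k from rfl, Fin.sum_univ_add,
    Finset.sum_eq_zero (s := (Finset.univ : Finset (Fin 102))) fun i _ => by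
      rw [h0 _ (by simp), smul_zero], add_zero]
  exact Finset.sum_congr rfl fun i _ => by
    rw [h1 _ (by simp)]
    rfl

/-- A matrix commuting with the Sylow 11-subgroup acts off the fixed space as a polynomial in the centre. -/
theorem exists_poly {X : Mat} (h15 : Commute X (tm 15)) (h16 : Commute X (tm 16))
    (h17 : Commute X (tm 17)) (hbc : Commute (tm 15) (tm 16)) :
    ∃ p : Fin 10 → ZMod 2,
      (1 + powSum (tm 15)) * X = (1 + powSum (tm 15)) * ∑ i : Fin 10, p i • tm 15 ^ i.val := by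
  obtain ⟨hv17, hv96, hT, hT0, hT2⟩ := row_checks
  generalize hw : v0 ᵥ* X = w
  have hw17 : w ᵥ* tm 17 = w := by
    rw [← hw, Matrix.vecMul_vecMul, h17.eq, ← Matrix.vecMul_vecMul, hv17]
  have hwE : w ᵥ* powSum (tm 15) = 0 := by
    rw [← hw, Matrix.vecMul_vecMul, (commute_powSum h15).eq, ← Matrix.vecMul_vecMul, ← tm96, hv96,
      Matrix.zero_vecMul]
  have hwS : w ᵥ* powSum (tm 17) = w := by
    rw [powSum, Matrix.vecMul_sum]
    have hk : ∀ i, w ᵥ* tm 17 ^ i = w := by
      intro i
      induction i with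
      | zero => rw [pow_zero, Matrix.vecMul_one]
      | succ i ih => rw [pow_succ, ← Matrix.vecMul_vecMul, ih, hw17]
    rw [Finset.sum_congr rfl fun i _ => hk i, Finset.sum_const, Finset.card_range]
    funext j
    show (11 : ℕ) • w j = w j
    have : ∀ a : ZMod 2, (11 : ℕ) • a = a := by decide
    exact this _
  have hw' : w = (w ᵥ* tm 98) ᵥ* tm 99 := by
    rw [Matrix.vecMul_vecMul, tm_span, ← Matrix.vecMul_vecMul, hwS, Matrix.vecMul_add, Matrix.vecMul_one,
      hwE, add_zero]
  obtain ⟨u, hu⟩ : ∃ u, w ᵥ* tm 98 = u := ⟨_, rfl⟩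
  rw [hu] at hw'
  refine ⟨fun i => u (Fin.castLE (by norm_num) i), ?_⟩
  generalize hP : ∑ i : Fin 10, u (Fin.castLE (by norm_num) i) • tm 15 ^ i.val = P
  have hvP : v0 ᵥ* X = v0 ᵥ* P := by
    rw [hw, ← hP, Matrix.vecMul_sum]
    simp only [Matrix.vecMul_smul]
    rw [← sum_ten (fun k => (tm 99) k) (fun i => v0 ᵥ* tm 15 ^ i) hT hT0 u]
    exact hw'.trans (Matrix.vecMul_eq_sum _ _)
  have hrows : tm 101 * X = tm 101 * P := by
    rw [← hP] at hvP ⊢
    exact rows_eq _ _ _ h15 h16 hbc hT2 hvP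
  rw [← tm_comp, mul_assoc, hrows, mul_assoc]

/-- The two fixed rows of the centre. -/
def fixRows : Matrix (Fin 2) (Fin 112) (ZMod 2) := (tm 103).submatrix (Fin.castLE (by norm_num)) id

/-- The coordinates along the fixed rows. -/
def fixCoord : Matrix (Fin 112) (Fin 2) (ZMod 2) := (tm 102).submatrix id (Fin.castLE (by norm_num))

theorem fixCoord_mul : fixCoord * fixRows = powSum (tm 15) := by
  rw [← tm_fix]
  refine Matrix.ext fun i j => ?_
  have h0 : ∀ k : Fin 110, (tm 102) i (Fin.natAdd 2 k) = 0 := by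
    intro k
    have hr := rowChecks_ok
    simp only [rowChecks, Bool.and_eq_true, List.all_eq_true, List.mem_range] at hr
    obtain ⟨⟨⟨⟨⟨⟨⟨-, h⟩, -⟩, -⟩, -⟩, -⟩, -⟩, -⟩ := hr
    have hlen := (extTab_good 102).1
    have ha : (extTab 102).getD i.val 0 < 4 := by
      rw [List.getD_eq_getElem?_getD, List.getElem?_eq_getElem (by omega), Option.getD_some]
      exact (by simpa [Nat.blt_eq] using h _ (List.getElem_mem _))
    rw [row_tm]
    show bit _ _ = 0
    rw [bit, Nat.testBit_eq_false_of_lt (ha.trans_le ?_)]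
    · rfl
    · show 2 ^ 2 ≤ _
      exact Nat.pow_le_pow_right (by norm_num) (by simp)
  rw [Matrix.mul_apply, Matrix.mul_apply,
    show ∑ k : Fin 112, (tm 102) i k * (tm 103) k j = ∑ k : Fin (2 + 110), (tm 102) i k * (tm 103) k j
      from rfl, Fin.sum_univ_add,
    Finset.sum_eq_zero (s := (Finset.univ : Finset (Fin 110))) fun k _ => by rw [h0, zero_mul], add_zero]
  rfl

theorem fix_values : fixRows * fixCoord = 1 ∧ fixRows * tm 47 * fixCoord = !![1, 1; 1, 0] := by
  have hr := rowChecks_ok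
  simp only [rowChecks, Bool.and_eq_true, List.all_eq_true, List.mem_range] at hr
  obtain ⟨⟨⟨⟨⟨⟨-, h0⟩, h1⟩, s0⟩, s1⟩, -⟩, -⟩ := hr
  have key : ∀ (a : Fin 2) (b : Fin 2) (r : ℕ) (w : List ℕ) (M : Mat),
      Nat.beq (evalRow extTab w ((extTab 103).getD a.val 0)) r = true →
      (w.map tm).prod = M * tm 102 → (fixRows * M * fixCoord) a b = bit r b.val := by
    intro a b r w M h hM
    have := congrFun (vecOf_evalRow extTab (fun c => (extTab_good c).1) w ((extTab 103).getD a.val 0))
      (Fin.castLE (by norm_num) b : Fin 112)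
    rw [Nat.eq_of_beq_eq_true h] at this
    rw [show bit r b.val = vecOf r (Fin.castLE (by norm_num) b : Fin 112) from rfl, this, prod_tm, hM,
      ← Matrix.vecMul_vecMul]
    have e : (tm 103) (Fin.castLE (by norm_num) a : Fin 112) = vecOf ((extTab 103).getD a.val 0) :=
      row_tm _ _
    rw [← e]
    rfl
  have e1 : fixRows * fixCoord = fixRows * (1 : Mat) * fixCoord := by rw [Matrix.mul_one]
  refine ⟨Matrix.ext (Fin.forall_fin_two.2 ⟨fun b => ?_, fun b => ?_⟩),
    Matrix.ext (Fin.forall_fin_two.2 ⟨fun b => ?_, fun b => ?_⟩)⟩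
  · rw [e1, key 0 b 1 [102] (1 : Mat) h0 (by simp)]; revert b; decide
  · rw [e1, key 1 b 2 [102] (1 : Mat) h1 (by simp)]; revert b; decide
  · rw [key 0 b 3 [47, 102] (tm 47) s0 (by simp)]; revert b; decide
  · rw [key 1 b 1 [47, 102] (tm 47) s1 (by simp)]; revert b; decide

theorem five_fixed : ∃ f : Fin 5 → Fin 112 → ZMod 2,
    Function.Injective f ∧ ∀ i, f i = v0 ᵥ* tm 15 ^ i.val := by
  obtain ⟨-, -, hT, -, -⟩ := row_checks
  refine ⟨fun i => v0 ᵥ* tm 15 ^ i.val, fun i j e => ?_, fun _ => rfl⟩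
  simp only at e
  have hi := hT ⟨i.val, by omega⟩ (show i.val < 10 by omega)
  have hj := hT ⟨j.val, by omega⟩ (show j.val < 10 by omega)
  rw [← hi, ← hj, row_tm, row_tm] at e
  have hb := List.all_eq_true.1 row_bounds
  have hlt : ∀ k, k < 112 → (extTab 99).getD k 0 < 2 ^ 112 := fun k hk => by
    rw [List.getD_eq_getElem?_getD, List.getElem?_eq_getElem (by rw [(extTab_good 99).1]; exact hk),
      Option.getD_some]
    exact (by simpa [Nat.blt_eq] using hb _ (List.getElem_mem _))
  have e' := vecOf_inj (hlt i.val (by omega)) (hlt j.val (by omega)) e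
  have hr := rowChecks_ok
  simp only [rowChecks, Bool.and_eq_true, List.all_eq_true, List.mem_range] at hr
  have := hr.1.2 i.val (by omega) j.val (by omega)
  simp only [Bool.or_eq_true, beq_iff_eq, bne_iff_ne] at this
  exact this.elim Fin.ext fun h => absurd e' h

end CfsgLib.JFourFacts
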