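import Cfsg.Agent.JankoFour.Lower
import Cfsg.Agent.JFourFacts.ElevenCheckA
import Cfsg.Agent.JFourFacts.ElevenCheckB
import Cfsg.Agent.JFourFacts.ElevenCheckC

/-!
# The nodes of the certificates inside a simple group isomorphic to the presented fourth Janko group
-/

set_option autoImplicit false
set_option maxRecDepth 100000

namespace CfsgLib.JFourFacts

open CfsgLib.JankoFour CfsgLib.JankoFourRep Cfsg.Spor Matrix

/-- The nodes as elements of the presented group, the first `18 + k` of them. -/
def extList : ℕ → List J4
  | 0 => (List.range 18).map tabJ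
  | k + 1 => extList k ++ [((extWord (18 + k)).map fun a => (extList k).getD a 1).prod]

theorem extList_length : ∀ k, (extList k).length = 18 + k
  | 0 => by simp [extList]
  | k + 1 => by simp [extList, extList_length k]; omega

theorem rep_extList : ∀ k, k ≤ 78 → ∀ c, c < 18 + k →
    (rep ((extList k).getD c 1)).val = toMat (extTab c)
  | 0, _, c, hc => by
    rw [extList, List.getD_eq_getElem?_getD, List.getElem?_map, List.getElem?_range (by omega)]
    show (rep (tabJ c)).val = _
    rw [rep_tabJ (by omega), extTab, show Nat.blt c 18 = true by simp [Nat.blt_eq]; omega, cond_true]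
  | k + 1, hk, c, hc => by
    have ih := rep_extList k (by omega)
    have hlen := extList_length k
    by_cases hlt : c < 18 + k
    · rw [extList, List.getD_eq_getElem?_getD, List.getElem?_append_left (by omega),
        ← List.getD_eq_getElem?_getD]
      exact ih c hlt
    obtain rfl : c = 18 + k := by omega
    rw [extList, List.getD_eq_getElem?_getD, List.getElem?_append_right (by omega), hlen, Nat.sub_self]
    simp only [List.getElem?_cons_zero, Option.getD_some]
    have hd := List.all_eq_true.1 defs_ok k (List.mem_range.2 (by omega))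
    simp only [defOk, Bool.and_eq_true, List.all_eq_true, Nat.blt_eq, Nat.add_comm k 18] at hd
    have h := prod_eq_of_sameProd extTab_good hd.2
    rw [List.map_cons, List.map_nil, List.prod_singleton] at h
    rw [h, map_list_prod, ← Units.coeHom_apply, map_list_prod, List.map_map, List.map_map]
    exact congrArg List.prod (List.map_congr_left fun a ha => ih a (hd.1 a ha))

/-- The nodes with their matrices. -/
structure Env (G : Type*) [Group G] where
  ρ : G →* GL (Fin 112) (ZMod 2)
  inj : Function.Injective ρ
  e : ℕ → G
  val : ∀ c, c < 96 → (ρ (e c)).val = toMat (extTab c)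
  form : ∀ g, (ρ g).val * toMat (extTab 104) * (ρ g).valᵀ = toMat (extTab 104)

theorem bool_bit {a b : Bool} (h : (a == b) = true) :
    (bif a then (1 : ZMod 2) else 0) = bif b then 1 else 0 := by
  rw [beq_iff_eq.1 h]

theorem toMat_transpose {A B : ℕ} (h : transOk A B = true) : toMat (extTab B) = (toMat (extTab A))ᵀ := by
  refine Matrix.ext fun i j => ?_
  have := List.all_eq_true.1 (List.all_eq_true.1 h j.val (List.mem_range.2 j.isLt)) i.val
    (List.mem_range.2 i.isLt)
  exact (bool_bit this).symm

theorem sum_check {vs ws : List (List ℕ)} (h : (vs, ws) ∈ sumChecks) :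
    (vs.map fun w => (w.map fun c => toMat (extTab c)).prod).sum =
      (ws.map fun w => (w.map fun c => toMat (extTab c)).prod).sum :=
  sum_eq_of_sameSum extTab_good (List.all_eq_true.1 sumChecks_ok (vs, ws) h)

theorem toMat_form {c T : ℕ} (h : transOk c T = true)
    (hs : ([[c, 104, T]], [[104]]) ∈ sumChecks) :
    toMat (extTab c) * toMat (extTab 104) * (toMat (extTab c))ᵀ = toMat (extTab 104) := by
  rw [← toMat_transpose h]
  simpa [mul_assoc] using sum_check hs

/-- The matrices preserving the form. -/
def formGroup : Subgroup (GL (Fin 112) (ZMod 2)) where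
  carrier := {g | g.val * toMat (extTab 104) * g.valᵀ = toMat (extTab 104)}
  one_mem' := by simp
  mul_mem' := by
    intro a b ha hb
    simp only [Set.mem_setOf_eq] at ha hb ⊢
    rw [Units.val_mul, Matrix.transpose_mul,
      show a.val * b.val * toMat (extTab 104) * (b.valᵀ * a.valᵀ) =
        a.val * (b.val * toMat (extTab 104) * b.valᵀ) * a.valᵀ by simp only [mul_assoc], hb, ha]
  inv_mem' := by
    intro a ha
    simp only [Set.mem_setOf_eq] at ha ⊢
    have h1 : a.valᵀ * (a⁻¹).valᵀ = 1 := by
      rw [← Matrix.transpose_mul, ← Units.val_mul, inv_mul_cancel, Units.val_one, Matrix.transpose_one]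
    have h2 : (a⁻¹).val * a.val = 1 := by rw [← Units.val_mul, inv_mul_cancel, Units.val_one]
    calc (a⁻¹).val * toMat (extTab 104) * (a⁻¹).valᵀ
        = (a⁻¹).val * (a.val * toMat (extTab 104) * a.valᵀ) * (a⁻¹).valᵀ := by rw [ha]
      _ = (a⁻¹).val * a.val * toMat (extTab 104) * (a.valᵀ * (a⁻¹).valᵀ) := by simp only [mul_assoc]
      _ = _ := by rw [h1, h2, one_mul, mul_one]

theorem rep_mem_formGroup (g : J4) : rep g ∈ formGroup := by
  have h : Subgroup.closure (Set.range (PresentedGroup.of (rels := relsJ))) ≤ formGroup.comap rep := by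
    rw [Subgroup.closure_le]
    have hT := List.all_eq_true.1 trans_ok
    rintro _ ⟨c, rfl⟩
    show (rep (PresentedGroup.of c)).val * _ * _ = _
    rw [rep_of]
    cases c
    · exact toMat_form (c := 0) (hT (0, 106) (by simp)) (by simp [sumChecks])
    · exact toMat_form (c := 1) (hT (1, 107) (by simp)) (by simp [sumChecks])
    · exact toMat_form (c := 3) (hT (3, 108) (by simp)) (by simp [sumChecks])
  rw [PresentedGroup.closure_range_of] at h
  exact h (Subgroup.mem_top g)

theorem moves_spec {c : ℕ} (h : moves c = true) : toMat (extTab c) ≠ 1 := by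
  intro e
  simp only [moves, List.any_eq_true, List.mem_range, bne_iff_ne] at h
  obtain ⟨k, hk, j, hj, hne⟩ := h
  refine hne ?_
  have h1 := congrFun (vecOf_evalRow extTab (fun c => (extTab_good c).1) [c] (2 ^ k)) ⟨j, hj⟩
  rw [List.map_cons, List.map_nil, List.prod_singleton, e, Matrix.vecMul_one] at h1
  rcases Bool.eq_false_or_eq_true ((evalRow extTab [c] (2 ^ k)).testBit j) with hb | hb <;>
    rcases Nat.decEq k j with hkj | hkj <;>
    simp_all [vecOf, bit, Nat.testBit_two_pow]

/-- The nodes in a simple group isomorphic to the presented group. -/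
theorem env_of_iso {G : Type*} [Group G] [IsSimpleGroup G] (hI : Cfsg.Spor.IsoJ4 G) :
    Nonempty (Env G) := by
  obtain ⟨φ⟩ := hI
  let ρ : G →* GL (Fin 112) (ZMod 2) := rep.comp φ.toMonoidHom
  have hval : ∀ c, c < 96 → (ρ (φ.symm ((extList 78).getD c 1))).val = toMat (extTab c) := fun c hc => by
    show (rep (φ (φ.symm _))).val = _
    rw [φ.apply_symm_apply]
    exact rep_extList 78 le_rfl c (by omega)
  refine ⟨⟨ρ, ?_, _, hval, fun g => rep_mem_formGroup (φ g)⟩⟩
  refine (MonoidHom.ker_eq_bot_iff _).1
    ((IsSimpleGroup.eq_bot_or_eq_top_of_normal _ inferInstance).resolve_right fun h => ?_)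
  have h15 : ρ (φ.symm ((extList 78).getD 15 1)) = 1 := MonoidHom.mem_ker.1 (h ▸ Subgroup.mem_top _)
  have := hval 15 (by norm_num)
  rw [h15, Units.val_one] at this
  refine moves_spec (c := 15) ?_ this.symm
  have hr := rowChecks_ok
  simp only [rowChecks, Bool.and_eq_true, List.all_eq_true] at hr
  exact hr.2 15 (by simp)

namespace Env

variable {G : Type*} [Group G] (E : Env G)

/-- The product of a word in the nodes. -/
def word (w : List ℕ) : G := (w.map E.e).prod

theorem val_word {w : List ℕ} (hw : ∀ c ∈ w, c < 96) :
    (E.ρ (E.word w)).val = (w.map fun c => toMat (extTab c)).prod := by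
  rw [word, map_list_prod, ← Units.coeHom_apply, map_list_prod, List.map_map, List.map_map]
  exact congrArg List.prod (List.map_congr_left fun a ha => E.val a (hw a ha))

theorem word_eq {v w : List ℕ} (h : (v, w) ∈ relChecks) : E.word v = E.word w := by
  refine E.inj (Units.ext ?_)
  have hlt := List.all_eq_true.1 relChecks_lt (v, w) h
  simp only [Bool.and_eq_true, List.all_eq_true, Nat.blt_eq] at hlt
  rw [E.val_word hlt.1, E.val_word hlt.2]
  exact prod_eq_of_sameProd extTab_good (List.all_eq_true.1 relChecks_ok (v, w) h)

end Env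

end CfsgLib.JFourFacts
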