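import Cfsg.Agent.JankoFour.LowerTable
import Cfsg.Agent.JFourFacts.ElevenData

/-!
# Sums of products of packed matrices, and the extended table of the certificates
-/

set_option autoImplicit false

namespace CfsgLib.JFourFacts

open CfsgLib.JankoFour CfsgLib.JankoFourRep

/-- The rows of all nodes. -/
def extTab (c : ℕ) : List ℕ :=
  bif Nat.blt c 18 then lowTab c else extRows.getD (c - 18) rowsX

/-- The word of a node of the extension. -/
def extWord (c : ℕ) : List ℕ := extDefs.getD (c - 18) []

/-- The packed exclusive or of the products of words. -/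
def evalSum (o : ℕ) (G : ℕ → List ℕ) (P : ℕ) : List (List ℕ) → ℕ
  | [] => 0
  | w :: ws => Nat.xor (evalPack o G w P) (evalSum o G P ws)

/-- Two lists of words have the same sum of products. -/
def sameSum (G : ℕ → List ℕ) (vs ws : List (List ℕ)) : Bool :=
  CosetEnum.force (lanesOne 112) fun o => CosetEnum.force (pack oneL) fun P =>
    Nat.beq (evalSum o G P vs) (evalSum o G P ws)

theorem pack_map_zero : ∀ A : List ℕ, pack (A.map fun _ => 0) = 0
  | [] => rfl
  | r :: A => by rw [List.map_cons, pack, pack_map_zero A]; rfl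

theorem vecOf_xor (a b : ℕ) : vecOf (a ^^^ b) = vecOf a + vecOf b :=
  funext fun j => bit_xor a b j.val

theorem vecOf_zero : vecOf 0 = 0 :=
  funext fun j => bit_zero j.val

theorem oneL_lt : ∀ r ∈ oneL, r < lane := by decide +kernel

theorem evalSum_spec {G : ℕ → List ℕ} (hG : Good G) : ∀ ws : List (List ℕ),
    ∃ f : ℕ → ℕ, evalSum (lanesOne 112) G (pack oneL) ws = pack (oneL.map f) ∧
      (∀ r ∈ oneL, f r < lane) ∧ ∀ r : ℕ, vecOf (f r) =
        Matrix.vecMul (vecOf r) (ws.map fun w => (w.map fun c => toMat (G c)).prod).sum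
  | [] => ⟨fun _ => 0, (pack_map_zero oneL).symm, fun _ _ => (by decide : (0 : ℕ) < lane), fun r => by simp [vecOf_zero]⟩
  | w :: ws => by
    obtain ⟨f, h1, h2, h3⟩ := evalSum_spec hG ws
    obtain ⟨e1, e2⟩ := evalL_bound hG w oneL oneL_lt
    have e3 : ∀ r ∈ oneL, evalRow G w r < lane := fun r hr => e2 _ (List.mem_map.2 ⟨r, hr, rfl⟩)
    refine ⟨fun r => evalRow G w r ^^^ f r, ?_, fun r hr =>
      lane_eq ▸ Nat.xor_lt_two_pow (lane_eq ▸ e3 r hr) (lane_eq ▸ h2 r hr), fun r => ?_⟩
    · show evalPack (lanesOne 112) G w (pack oneL) ^^^ evalSum (lanesOne 112) G (pack oneL) ws = _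
      rw [show 112 = oneL.length by simp [oneL]] at h1 ⊢
      rw [e1, h1, pack_xor oneL _ _ e3 h2]
    · rw [List.map_cons, List.sum_cons, Matrix.vecMul_add, vecOf_xor, h3,
        vecOf_evalRow G (fun c => (hG c).1)]

theorem sum_eq_of_sameSum {G : ℕ → List ℕ} (hG : Good G) {vs ws : List (List ℕ)}
    (h : sameSum G vs ws = true) :
    (vs.map fun w => (w.map fun c => toMat (G c)).prod).sum =
      (ws.map fun w => (w.map fun c => toMat (G c)).prod).sum := by
  simp only [sameSum, CosetEnum.force_eq] at h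
  have h' := Nat.eq_of_beq_eq_true h
  obtain ⟨f, f1, f2, f3⟩ := evalSum_spec hG vs
  obtain ⟨g, g1, g2, g3⟩ := evalSum_spec hG ws
  rw [f1, g1] at h'
  have hrows := List.map_inj_left.1 (pack_injective _ _ (by simp)
    (fun r hr => by obtain ⟨s, hs, rfl⟩ := List.mem_map.1 hr; exact f2 s hs)
    (fun r hr => by obtain ⟨s, hs, rfl⟩ := List.mem_map.1 hr; exact g2 s hs) h')
  refine Matrix.ext fun i j => ?_
  have hi : f (2 ^ i.val) = g (2 ^ i.val) :=
    hrows _ (List.mem_map.2 ⟨i.val, List.mem_range.2 i.isLt, rfl⟩)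
  have e : vecOf (2 ^ i.val) = Pi.single i 1 := by
    funext k
    by_cases hk : i = k
    · subst hk; simp [vecOf, bit]
    · simp [vecOf, bit, Fin.val_ne_of_ne hk, Ne.symm hk]
  have h2 := congrFun (congrArg vecOf hi) j
  rwa [f3, g3, e, Matrix.single_one_vecMul, Matrix.single_one_vecMul] at h2

theorem extRows_good :
    extRows.all (fun L => (L.length == 112) && L.all fun a => Nat.blt a (2 ^ 112)) = true := by
  decide +kernel

theorem extTab_good : Good extTab := by
  intro c
  rw [extTab]
  cases h : Nat.blt c 18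
  · simp only [cond_false, List.getD_eq_getElem?_getD]
    cases h' : extRows[c - 18]? with
    | none => exact lowTab_good 0
    | some L =>
      have hL := List.all_eq_true.1 extRows_good L (List.mem_of_getElem? h')
      rw [Bool.and_eq_true, beq_iff_eq, List.all_eq_true] at hL
      exact ⟨hL.1, fun a ha => (show a < 2 ^ 112 by simpa [Nat.blt_eq] using hL.2 a ha).trans_le
        (lane_eq ▸ Nat.pow_le_pow_right (by norm_num) (by norm_num))⟩
  · exact lowTab_good c

end CfsgLib.JFourFacts
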