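import Cfsg.Agent.JFourFacts.PglTwentyThree
import Cfsg.Agent.JFourFacts.ElevenCosets
import Cfsg.Agent.JankoFourM24.Main

/-!
The subgroup `PGL₂(23)` and the seven suborbits on the cosets of `2¹¹:M₂₄` for any group isomorphic to
the presented fourth Janko group.
-/

set_option autoImplicit false

namespace CfsgLib.JFourFacts

theorem pgl_twentyThree {G : Type*} [Group G] (hI : Cfsg.Spor.IsoJ4 G) :
    ∃ K : Subgroup G,
      Nonempty (↥K ≃* GL (Fin 2) (ZMod 23) ⧸ Subgroup.center (GL (Fin 2) (ZMod 23))) :=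
  PglTwentyThree.pgl_twentyThree_of_iso hI
    (CfsgLib.JankoFourIndex.rep_injective CfsgLib.JankoFourM24.model CfsgLib.JankoFourM24.iso_M)

theorem eleven_cosets {G : Type*} [Group G] [Finite G] [IsSimpleGroup G]
    (hG : ¬ IsMulCommutative G) {z : G} (hJ : Cfsg.IsOfJankoFourTypeAt z) (V : Subgroup G)
    (hV : Cfsg.IsElementaryAbelian 2 V) (hcard : Nat.card V = 2 ^ 11) (hI : Cfsg.Spor.IsoJ4 G) :
    (Subgroup.normalizer (V : Set G)).index = 173067389 ∧
      ∃ c : Fin 7 → G ⧸ Subgroup.normalizer (V : Set G),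
        (∀ i j : Fin 7, i ≠ j →
          MulAction.orbit ↥(Subgroup.normalizer (V : Set G)) (c i) ≠
            MulAction.orbit ↥(Subgroup.normalizer (V : Set G)) (c j)) ∧
        (∀ q : G ⧸ Subgroup.normalizer (V : Set G),
          ∃ i : Fin 7, q ∈ MulAction.orbit ↥(Subgroup.normalizer (V : Set G)) (c i)) ∧
        (List.ofFn fun i => (MulAction.orbit ↥(Subgroup.normalizer (V : Set G)) (c i)).ncard) =
          [1, 15180, 28336, 3400320, 32643072, 54405120, 82575360] :=
  eleven_cosets_of_iso hG hJ V hV hcard hI CfsgLib.JankoFourM24.model CfsgLib.JankoFourM24.iso_M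

end CfsgLib.JFourFacts
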