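import Cfsg.Agent.JankoFour.Lower
import Cfsg.Agent.JFourFacts.PglTwentyThreeData
import Cfsg.Agent.PGLTwentyThree.Pres

/-!
The fourth Janko group contains `PGL₂(23)`: witness words for the generators, the relations being
read in the faithful representation of degree 112.
-/

set_option autoImplicit false
set_option maxRecDepth 100000

namespace CfsgLib.JFourFacts.PglTwentyThree

open CfsgLib.JankoFour CfsgLib.JankoFourRep Cfsg.Spor

/-- An element of order 23. -/
def uW : List ℕ := [1, 0, 1, 0, 2, 0, 2, 0, 1, 0, 1, 0, 2, 0, 1, 0, 2, 0, 1, 0, 2, 0, 2, 0, 1, 0, 2, 0, 1, 0,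
  1, 0, 2, 0, 2, 0, 1, 0, 1]

/-- An element of order 22 scaling the first by five. -/
def hW : List ℕ := [15, 15, 15, 15, 15, 15, 4, 5, 8, 9, 10, 14, 15, 15, 15, 15, 15,
  17, 17, 17, 17, 17, 17]

/-- An involution inverting the second. -/
def jW : List ℕ := [0, 15, 15, 15, 15, 15, 15, 15, 15, 15, 15, 15, 15, 15, 15, 15, 15, 4, 5, 8, 9, 10,
  14, 15, 15, 15, 15, 15, 17, 17, 17, 17, 17, 17, 17, 17, 17, 17]

/-- The letters of the representation followed by the three witnesses. -/
def pgTab (c : ℕ) : List ℕ :=
  bif Nat.blt c 18 then lowTab c else [rowsU, rowsH, rowsJ].getD (c - 18) rowsU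

theorem pgRows_good : [rowsU, rowsH, rowsJ].all
    (fun L => (L.length == 112) && L.all fun a => Nat.blt a lane) = true := by
  decide +kernel

theorem pgTab_good : Good pgTab := by
  have key : ∀ L ∈ [rowsU, rowsH, rowsJ], L.length = 112 ∧ ∀ a ∈ L, a < lane := fun L hL => by
    have h := List.all_eq_true.1 pgRows_good L hL
    rw [Bool.and_eq_true, beq_iff_eq, List.all_eq_true] at h
    exact ⟨h.1, fun a ha => by simpa [Nat.blt_eq] using h.2 a ha⟩
  intro c
  rw [pgTab]
  cases Nat.blt c 18
  · simp only [cond_false, List.getD_eq_getElem?_getD]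
    cases h' : [rowsU, rowsH, rowsJ][c - 18]? with
    | none => exact key _ (by simp)
    | some L => exact key L (List.mem_of_getElem? h')
  · exact lowTab_good c

theorem defU_ok : sameProd pgTab [18] uW = true := by decide +kernel

theorem defH_ok : sameProd pgTab [19] hW = true := by decide +kernel

theorem defJ_ok : sameProd pgTab [20] jW = true := by decide +kernel

/-- The relations, as pairs of words with equal products. -/
def relWords : List (List ℕ × List ℕ) :=
  [(List.replicate 23 18, []), (List.replicate 22 19, []), ([19, 18], List.replicate 5 18 ++ [19]),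
    ([20, 20], []), ([20, 19, 20, 19], []), ([18, 20, 18, 20, 18, 20], [])]

theorem relWords_ok : (relWords.all fun e => sameProd pgTab e.1 e.2) = true := by decide +kernel

theorem words_lt : (∀ c ∈ uW, c < 18) ∧ (∀ c ∈ hW, c < 18) ∧ (∀ c ∈ jW, c < 18) := by
  decide +kernel

theorem relWords_lt : ∀ e ∈ relWords, (∀ c ∈ e.1, c = 18 ∨ c = 19 ∨ c = 20) ∧
    ∀ c ∈ e.2, c = 18 ∨ c = 19 ∨ c = 20 := by decide +kernel

theorem u_moves : evalRow pgTab [18] 2 < 2 ^ 112 ∧ evalRow pgTab [18] 2 ≠ 2 := by decide +kernel

/-- A witness letter as an element. -/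
def el (c : ℕ) : J4 :=
  ((if c = 18 then uW else if c = 19 then hW else jW).map tabJ).prod

theorem rep_def {w : List ℕ} (hw : ∀ c ∈ w, c < 18) {c : ℕ} (h : sameProd pgTab [c] w = true) :
    (rep ((w.map tabJ).prod)).val = toMat (pgTab c) := by
  have e := prod_eq_of_sameProd pgTab_good h
  rw [List.map_singleton, List.prod_singleton] at e
  rw [rep_word hw, e]
  refine congrArg List.prod (List.map_congr_left fun a ha => ?_)
  rw [pgTab, show Nat.blt a 18 = true by simp [Nat.blt_eq, hw a ha], cond_true]

theorem rep_el {c : ℕ} (hc : c = 18 ∨ c = 19 ∨ c = 20) : (rep (el c)).val = toMat (pgTab c) := by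
  rcases hc with rfl | rfl | rfl
  · exact rep_def words_lt.1 defU_ok
  · exact rep_def words_lt.2.1 defH_ok
  · exact rep_def words_lt.2.2 defJ_ok

theorem el_eq (hinj : Function.Injective rep) {v w : List ℕ} (h : (v, w) ∈ relWords) :
    (v.map el).prod = (w.map el).prod := hinj (Units.ext (by
  have e : ∀ l : List ℕ, (∀ c ∈ l, c = 18 ∨ c = 19 ∨ c = 20) →
      (rep ((l.map el).prod)).val = (l.map fun c => toMat (pgTab c)).prod := fun l hl => by
    rw [map_list_prod, ← Units.coeHom_apply, map_list_prod, List.map_map, List.map_map]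
    exact congrArg List.prod (List.map_congr_left fun a ha => rep_el (hl a ha))
  rw [e _ (relWords_lt _ h).1, e _ (relWords_lt _ h).2]
  exact prod_eq_of_sameProd pgTab_good (List.all_eq_true.1 relWords_ok (v, w) h)))

theorem rels (hinj : Function.Injective rep) :
    PGLTwentyThree.Rels (el 18) (el 19) (el 20) := by
  have hmem : ∀ n : Fin 6, relWords[n.val]'n.isLt ∈ relWords := fun n => List.getElem_mem _
  refine ⟨?_, ?_, ?_, ?_, ?_, ?_⟩
  · have h := el_eq hinj (v := List.replicate 23 18) (w := []) (hmem 0)
    rwa [List.map_replicate, List.prod_replicate, List.map_nil, List.prod_nil] at h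
  · have h := el_eq hinj (v := List.replicate 22 19) (w := []) (hmem 1)
    rwa [List.map_replicate, List.prod_replicate, List.map_nil, List.prod_nil] at h
  · have h := el_eq hinj (v := [19, 18]) (w := List.replicate 5 18 ++ [19]) (hmem 2)
    rw [List.map_append, List.prod_append, List.map_replicate, List.prod_replicate] at h
    simp only [List.map_cons, List.map_nil, List.prod_cons, List.prod_nil, mul_one] at h
    rw [mul_inv_eq_iff_eq_mul]
    exact h
  · have h := el_eq hinj (v := [20, 20]) (w := []) (hmem 3)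
    simpa only [List.map_cons, List.map_nil, List.prod_cons, List.prod_nil, mul_one] using h
  · have h := el_eq hinj (v := [20, 19, 20, 19]) (w := []) (hmem 4)
    simpa only [List.map_cons, List.map_nil, List.prod_cons, List.prod_nil, mul_one, mul_assoc] using h
  · have h := el_eq hinj (v := [18, 20, 18, 20, 18, 20]) (w := []) (hmem 5)
    simpa only [List.map_cons, List.map_nil, List.prod_cons, List.prod_nil, mul_one, mul_assoc] using h

theorem el_ne_one : el 18 ≠ 1 := by
  intro e
  refine u_moves.2 (vecOf_inj u_moves.1 (by norm_num) ?_)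
  have h : Matrix.vecMul (vecOf 2) (toMat (pgTab 18)) = vecOf (evalRow pgTab [18] 2) := by
    rw [vecOf_evalRow pgTab (fun c => (pgTab_good c).1)]
    simp
  rw [← rep_el (Or.inl rfl), e, map_one, Units.val_one, Matrix.vecMul_one] at h
  exact h.symm

/-- A group isomorphic to the fourth Janko group has a subgroup `PGL₂(23)`. -/
theorem pgl_twentyThree_of_iso {G : Type*} [Group G] (hI : Cfsg.Spor.IsoJ4 G)
    (hinj : Function.Injective rep) :
    ∃ K : Subgroup G,
      Nonempty (↥K ≃* GL (Fin 2) (ZMod 23) ⧸ Subgroup.center (GL (Fin 2) (ZMod 23))) := by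
  obtain ⟨f⟩ := hI
  obtain ⟨K, ⟨e⟩⟩ := PGLTwentyThree.exists_subgroup (rels hinj) el_ne_one
  exact ⟨K.map f.symm.toMonoidHom, ⟨((MulEquiv.subgroupMap f.symm K).symm).trans e⟩⟩

end CfsgLib.JFourFacts.PglTwentyThree
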