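import Cfsg.Agent.JFourFacts.SuborbitChecks
import Cfsg.Agent.JankoFourIndex.Assembly

/-!
The seven suborbits of the presented fourth Janko group on the cosets of `2¹¹:M₂₄`: a coset is the
image of the first basis vector in the representation of degree 112.
-/

set_option autoImplicit false
set_option maxRecDepth 100000

namespace CfsgLib.JFourFacts.Suborbit

open CfsgLib.JankoFour CfsgLib.JankoFourRep CfsgLib.JankoFourIndex

local notation "J" => Cfsg.Spor.J4

/-- The image of the first basis vector. -/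
noncomputable def pt (g : J) : Fin 112 → ZMod 2 := Matrix.vecMul (vecOf 1) (rep g).val

theorem pt_one : pt 1 = vecOf 1 := by simp [pt]

theorem pt_mul (a b : J) : pt (a * b) = Matrix.vecMul (pt a) (rep b).val := by
  rw [pt, pt, map_mul, Units.val_mul, Matrix.vecMul_vecMul]

/-- The elements fixing the first basis vector. -/
noncomputable def fixSub : Subgroup J where
  carrier := {g | pt g = vecOf 1}
  one_mem' := pt_one
  mul_mem' := fun {a b} ha hb => by
    show pt (a * b) = vecOf 1
    rw [pt_mul, show pt a = vecOf 1 from ha, ← pt, show pt b = vecOf 1 from hb]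
  inv_mem' := fun {a} ha => by
    show pt a⁻¹ = vecOf 1
    conv_rhs => rw [← pt_one, ← mul_inv_cancel a, pt_mul, show pt a = vecOf 1 from ha]
    rfl

theorem mem_fixSub {g : J} : g ∈ fixSub ↔ pt g = vecOf 1 := Iff.rfl

/-- A word in the extended alphabet as an element. -/
def el (w : List ℕ) : J := (w.map tabJ).prod

theorem el_append (v w : List ℕ) : el (v ++ w) = el v * el w := by simp [el]

theorem pt_mul_el {w : List ℕ} (hw : ∀ c ∈ w, c < 18) {g : J} {a : ℕ} (hg : pt g = vecOf a) :
    pt (g * el w) = vecOf (evalRow lowTab w a) := by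
  rw [pt_mul, hg, el, vecMul_rep hw]

theorem el_single (c : ℕ) : el [c] = tabJ c := by simp [el]

theorem tabJ_two : tabJ 2 = yJ⁻¹ := by
  show [yJ⁻¹].prod = yJ⁻¹
  simp

theorem tabJ_three : tabJ 3 = tJ := by
  show [tJ].prod = tJ
  simp

theorem tabJ_mem_fix {c : ℕ} (hc : c < 18) (h : evalRow lowTab [c] 1 = 1) : tabJ c ∈ fixSub := by
  rw [mem_fixSub, ← one_mul (tabJ c), ← el_single,
    pt_mul_el (by simpa using hc) pt_one, h]

theorem wordM_eq : ∀ w : List ℕ, (∀ c ∈ w, c < 3) → ((wordM w : mSub) : J) = el w := by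
  intro w hw
  rw [coe_wordM, el]
  refine congrArg List.prod (List.map_congr_left fun c hc => ?_)
  have := hw c hc
  interval_cases c
  · simp [tabJ_zero]
  · simp [tabJ_one]
  · simp [tabJ_two]

/-- The first generator of the abelian subgroup is `s`. -/
theorem s_eq (hinj : Function.Injective rep) : sJ = tabJ 4 := by
  have e : el JFourFacts.Suborbit.sWord = el [4] := hinj (Units.ext (by
    rw [el, el, rep_word (fun c hc => (sWord_lt c hc).trans (by norm_num)),
      rep_word (by simp)]
    exact prod_eq_of_sameProd lowTab_good sWord_ok))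
  rw [el_single] at e
  rw [← e]
  simp [JFourFacts.Suborbit.sWord, el, sJ, wJ, tabJ_zero, tabJ_one, tabJ_two, tabJ_three, pow_succ,
    mul_assoc, mul_inv_rev, inv_eq_of_mul_eq_one_right (show xJ * xJ = 1 by rw [← sq, xJ_sq])]

theorem hSub_le_fix (hinj : Function.Injective rep) : hSub ≤ fixSub := by
  rw [hSub, Subgroup.closure_le]
  rintro g (rfl | rfl | rfl)
  · exact tabJ_zero ▸ tabJ_mem_fix (by norm_num) (fixed_one.1 0 (by simp))
  · exact tabJ_one ▸ tabJ_mem_fix (by norm_num) (fixed_one.1 1 (by simp))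
  · rw [SetLike.mem_coe, s_eq hinj]
    exact tabJ_mem_fix (by norm_num) (fixed_one.2 0 (by norm_num))

theorem pt_repG : ∀ k, k < 20 → pt (repG k) = vecOf (vAt k) := by
  intro k
  induction k using Nat.strong_induction_on with
  | _ k ih =>
    intro hk
    rcases eq_or_ne k 0 with rfl | h0
    · rw [repG_zero, pt_one, vecs_ok.1]
    · have hr := rep_ok k hk h0
      have hw := repTab_letters k hk
      rw [repG_succ hk h0, mul_assoc, wordM_eq _ (by exact hw), show tJ = el [3] by
        rw [el_single, tabJ_three], ← el_append, pt_mul_el _ (ih _ hr (hr.trans hk))]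
      · exact congrArg vecOf (Nat.eq_of_beq_eq_true (steps_ok k hk h0))
      · intro c hc
        rcases List.mem_append.1 hc with hc | hc
        · exact (hw c hc).trans (by norm_num)
        · simp at hc; omega

variable (M : Model) (hinj : Function.Injective rep)
include M hinj

theorem mem_hSub {g : J} : g ∈ hSub ↔ pt g = vecOf 1 := by
  refine ⟨fun h => hSub_le_fix hinj h, fun h => ?_⟩
  obtain ⟨i, hi, n, hS⟩ := covered_all M g
  have hfix : g * (repG i * n)⁻¹ ∈ fixSub := hSub_le_fix hinj hS
  have hn : (n : J) ∈ fixSub := hSub_le_fix hinj (coe_mem n)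
  have hrep : repG i ∈ fixSub := by
    have := mul_mem (mul_mem (inv_mem hfix) (show g ∈ fixSub from h)) (inv_mem hn)
    simpa [mul_assoc] using this
  have hi0 : i = 0 := by
    by_contra h0
    refine vecs_ok.2.2 i hi h0 (vecOf_inj (vecs_ok.2.1 i hi) (by norm_num) ?_)
    rw [← pt_repG i hi, hrep]
  subst hi0
  rw [repG_zero, one_mul] at hS
  simpa using mul_mem hS (coe_mem n)

theorem same_iff {a b : J} : Same a b ↔ pt a = pt b := by
  rw [Same, mem_hSub M hinj]
  constructor
  · intro h
    conv_lhs => rw [← inv_mul_cancel_right a b, pt_mul, h, ← pt]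
  · intro h
    rw [pt_mul, h, ← pt_mul, mul_inv_cancel, pt_one]

omit M hinj in
/-- The coset of a representative. -/
noncomputable def point (k : ℕ) : J ⧸ hSub := QuotientGroup.mk (repG k)⁻¹

/-- The orbit of a suborbit. -/
noncomputable def orb (j : ℕ) : Set (J ⧸ hSub) := MulAction.orbit hSub (point (leaderAt j))

theorem el_mem {w : List ℕ} (hw : ∀ c ∈ w, c < 3 ∨ (4 ≤ c ∧ c < 15)) : el w ∈ hSub := by
  refine list_prod_mem fun a ha => ?_
  obtain ⟨c, hc, rfl⟩ := List.mem_map.1 ha
  rw [mem_hSub M hinj]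
  refine tabJ_mem_fix ?_ ?_
  · rcases hw c hc with h | h <;> omega
  · rcases hw c hc with h | h
    · exact fixed_one.1 c (by simp; omega)
    · have := fixed_one.2 (c - 4) (by omega)
      rwa [Nat.sub_add_cancel h.1] at this

theorem cover_mem {i : ℕ} (hi : i < 20) (n : mSub) :
    (QuotientGroup.mk (repG i * n)⁻¹ : J ⧸ hSub) ∈ orb (leadAt i) := by
  have hok := connect_ok i hi
  simp only [connectOK, Bool.and_eq_true, List.all_eq_true, Bool.or_eq_true, Nat.blt_eq,
    Nat.ble_eq] at hok
  set w := connect.getD i []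
  have hw : el w ∈ hSub := el_mem M hinj hok.1
  have hl := leads_ok.2 _ (leads_ok.1 i hi)
  have hS : Same (repG i) (repG (leaderAt (leadAt i)) * el w) := by
    rw [same_iff M hinj, pt_mul_el (fun c hc => by rcases hok.1 c hc with h | h <;> omega)
      (pt_repG _ hl), pt_repG i hi, Nat.eq_of_beq_eq_true hok.2]
  refine ⟨⟨(el w * n)⁻¹, inv_mem (mul_mem hw (coe_mem n))⟩, ?_⟩
  show (QuotientGroup.mk ((el w * n)⁻¹ * (repG (leaderAt (leadAt i)))⁻¹) : J ⧸ hSub) = _
  refine QuotientGroup.eq.2 ?_
  have := (hS.mul_right (n : J)).symm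
  simpa [Same, mul_assoc, mul_inv_rev] using this

theorem cover_mem_orb (x : Σ j : Fin 20, mSub ⧸ orbStab j.val) :
    cover x ∈ orb (leadAt x.1.val) := cover_mem M hinj x.1.isLt _

theorem orb_cover (q : J ⧸ hSub) : ∃ j < 7, q ∈ orb j := by
  obtain ⟨x, rfl⟩ := cover_surjective M q
  exact ⟨_, leads_ok.1 _ x.1.isLt, cover_mem_orb M hinj x⟩

omit M in
/-- The basic involutions commute and are involutions. -/
theorem q_rel : ∀ i < 11, tabJ (i + 4) * tabJ (i + 4) = 1 ∧
    ∀ j < i, tabJ (j + 4) * tabJ (i + 4) = tabJ (i + 4) * tabJ (j + 4) := by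
  intro i hi
  refine ⟨hinj ?_, fun j hj => hinj ?_⟩
  · rw [map_mul, map_one]
    exact lowerWitness.q_sq ⟨i, hi⟩
  · rw [map_mul, map_mul]
    exact (lowerWitness.q_comm ⟨i, hi⟩ ⟨j, hj.trans hi⟩ hj).eq

omit M hinj in
/-- The group generated by the basic involutions. -/
def qSub : Subgroup J := Subgroup.closure {a | ∃ i < 11, a = tabJ (i + 4)}

omit M in
theorem qWords_closed : ∀ k ≤ 11, ∀ w ∈ qWords k, ∀ j < k,
    ∃ w' ∈ qWords k, el w * tabJ (j + 4) = el w' := by
  intro k
  induction k with
  | zero => intro _ _ _ j hj; omega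
  | succ k ih =>
    intro hk w hw j hj
    simp only [qWords, List.mem_append, List.mem_map] at hw ⊢
    obtain hw | ⟨v, hv, rfl⟩ := hw
    · rcases Nat.lt_succ_iff_lt_or_eq.1 hj with hj | rfl
      · obtain ⟨w', hw', e⟩ := ih (by omega) w hw j hj
        exact ⟨w', Or.inl hw', e⟩
      · exact ⟨w ++ [j + 4], Or.inr ⟨w, hw, rfl⟩, by rw [el_append, el_single]⟩
    · rcases Nat.lt_succ_iff_lt_or_eq.1 hj with hj | rfl
      · obtain ⟨w', hw', e⟩ := ih (by omega) v hv j hj
        refine ⟨w' ++ [k + 4], Or.inr ⟨w', hw', rfl⟩, ?_⟩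
        rw [el_append, el_append, el_single, mul_assoc,
          ← (q_rel hinj k (by omega)).2 j hj, ← mul_assoc, e]
      · refine ⟨v, Or.inl hv, ?_⟩
        rw [el_append, el_single, mul_assoc, (q_rel hinj j (by omega)).1, mul_one]

omit M in
theorem qSub_words {x : J} (hx : x ∈ qSub) : ∃ w ∈ qWords 11, x = el w := by
  induction hx using Subgroup.closure_induction_right with
  | one => exact ⟨[], by decide +kernel, rfl⟩
  | mul_right a ha s hs ih =>
    obtain ⟨w, hw, rfl⟩ := ih
    obtain ⟨i, hi, rfl⟩ := hs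
    exact qWords_closed hinj 11 le_rfl w hw i hi
  | mul_inv_cancel a ha s hs ih =>
    obtain ⟨w, hw, rfl⟩ := ih
    obtain ⟨i, hi, rfl⟩ := hs
    rw [inv_eq_of_mul_eq_one_right (q_rel hinj i hi).1]
    exact qWords_closed hinj 11 le_rfl w hw i hi

theorem hSub_le_normalizer : hSub ≤ Subgroup.normalizer (qSub : Set J) := by
  have := finite_J4 M
  have hgen : ∀ g : J,
      (∀ i : Fin 11, ∃ l : List (Fin 11), rep g * rep (lowerWitness.q i) =
        (l.map fun j => rep (lowerWitness.q j)).prod * rep g) →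
      g ∈ Subgroup.normalizer (qSub : Set J) := by
    intro g hg
    refine Subgroup.mem_normalizer_fintype fun q hq => ?_
    induction hq using Subgroup.closure_induction with
    | mem a ha =>
      obtain ⟨i, hi, rfl⟩ := ha
      obtain ⟨l, hl⟩ := hg ⟨i, hi⟩
      have e : g * tabJ (i + 4) = (l.map fun j => tabJ (j.val + 4)).prod * g := hinj (by
        rw [map_mul, map_mul, map_list_prod, List.map_map]
        exact hl)
      rw [e, mul_inv_cancel_right]
      refine list_prod_mem fun a ha => ?_
      obtain ⟨b, -, rfl⟩ := List.mem_map.1 ha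
      exact Subgroup.subset_closure ⟨b.val, b.isLt, rfl⟩
    | one => simp [one_mem]
    | mul a b _ _ ha hb =>
      rw [show g * (a * b) * g⁻¹ = (g * a * g⁻¹) * (g * b * g⁻¹) by group]
      exact mul_mem ha hb
    | inv a _ ha =>
      rw [show g * a⁻¹ * g⁻¹ = (g * a * g⁻¹)⁻¹ by group]
      exact inv_mem ha
  rw [hSub, Subgroup.closure_le]
  rintro g (rfl | rfl | rfl)
  · exact hgen _ lowerWitness.q_x
  · exact hgen _ lowerWitness.q_y
  · rw [s_eq hinj]
    exact Subgroup.le_normalizer (Subgroup.subset_closure ⟨0, by norm_num, rfl⟩)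

omit M hinj in
theorem leaders_eq : leaderAt 4 = 3 ∧ leaderAt 5 = 4 := by decide +kernel

/-- The two suborbits of the sizes 32643072 and 54405120 differ. -/
theorem orb_four_ne_five : orb 4 ≠ orb 5 := by
  intro e
  rw [orb, orb, leaders_eq.1, leaders_eq.2, MulAction.orbit_eq_iff] at e
  obtain ⟨⟨h, hh⟩, e⟩ := e
  have hS : Same (repG 3) (repG 4 * h⁻¹) := by
    have := QuotientGroup.eq.1 e
    simpa [Same, mul_assoc, mul_inv_rev] using inv_mem this
  set q := el fixWord with hqdef
  have hq : q ∈ qSub := by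
    refine list_prod_mem fun a ha => ?_
    obtain ⟨c, hc, rfl⟩ := List.mem_map.1 ha
    obtain ⟨h4, h15⟩ := fixWord_ok.1 c hc
    exact Subgroup.subset_closure ⟨c - 4, by omega, by rw [Nat.sub_add_cancel h4]⟩
  have hlt : ∀ c ∈ fixWord, c < 18 := fun c hc => (fixWord_ok.1 c hc).2.trans (by norm_num)
  have hfix : Same (repG 3 * q) (repG 3) := by
    rw [same_iff M hinj, pt_mul_el hlt (pt_repG 3 (by norm_num)), fixWord_ok.2.1,
      pt_repG 3 (by norm_num)]
  have hfix' : Same (repG 4 * (h⁻¹ * q * h)) (repG 4) := by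
    have h1 := ((hS.mul_right q).symm.trans hfix).trans hS |>.mul_right h
    simpa [mul_assoc] using h1
  have hq' : h⁻¹ * q * h ∈ qSub :=
    (Subgroup.mem_normalizer_iff''.1 (hSub_le_normalizer M hinj hh) q).1 hq
  obtain ⟨w, hw, e'⟩ := qSub_words hinj hq'
  have hfree := List.all_eq_true.1 free_ok w hw
  rcases List.eq_nil_or_concat w with rfl | ⟨w0, c, rfl⟩
  · have hq1 : q = 1 := by
      have e2 : h⁻¹ * q * h = 1 := e'
      calc q = h * (h⁻¹ * q * h) * h⁻¹ := by group
        _ = 1 := by rw [e2, mul_one, mul_inv_cancel]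
    refine fixWord_ok.2.2.1 (vecOf_inj fixWord_ok.2.2.2 (by norm_num) ?_)
    have hv := vecMul_rep hlt 4
    rw [show (fixWord.map tabJ).prod = (1 : J) from hq1, map_one, Units.val_one,
      Matrix.vecMul_one] at hv
    exact hv.symm
  · simp only [List.concat_eq_append, Bool.or_eq_true, List.isEmpty_iff,
      List.append_eq_nil_iff, List.cons_ne_self, and_false, false_or, Bool.and_eq_true,
      Bool.not_eq_eq_eq_not, Bool.not_true, Nat.blt_eq, reduceCtorEq] at hfree e' hw
    have hwlt : ∀ k ≤ 11, ∀ v ∈ qWords k, ∀ a ∈ v, a < 18 := by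
      intro k
      induction k with
      | zero => simp [qWords]
      | succ k ih =>
        intro hk v hv a ha
        simp only [qWords, List.mem_append, List.mem_map] at hv
        obtain hv | ⟨u, hu, rfl⟩ := hv
        · exact ih (by omega) v hv a ha
        · rcases List.mem_append.1 ha with ha | ha
          · exact ih (by omega) u hu a ha
          · simp at ha; omega
    rw [e', same_iff M hinj, pt_mul_el (hwlt 11 le_rfl _ hw) (pt_repG 4 (by norm_num)),
      pt_repG 4 (by norm_num)] at hfix'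
    have := vecOf_inj hfree.2 (vecs_ok.2.1 4 (by norm_num)) hfix'
    rw [this] at hfree
    simp at hfree

end CfsgLib.JFourFacts.Suborbit
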