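import Cfsg.Agent.JFourFacts.SuborbitData
import Cfsg.Agent.JankoFour.LowerTable
import Cfsg.Agent.JankoFourIndex.ChainData

/-! Kernel checks on the data of the seven suborbits. -/

set_option autoImplicit false
set_option maxRecDepth 100000

namespace CfsgLib.JFourFacts.Suborbit

open CfsgLib.JankoFour CfsgLib.JankoFourRep

/-- The vector of an orbit. -/
def vAt (k : ℕ) : ℕ := vecs.getD k 0

/-- The suborbit of an orbit. -/
def leadAt (k : ℕ) : ℕ := leadOf.getD k 0

/-- The orbit leading a suborbit. -/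
def leaderAt (j : ℕ) : ℕ := leaders.getD j 0

/-- The representatives follow the table. -/
def stepOK (k : ℕ) : Bool :=
  let e := JankoFourIndex.repTab.getD k (0, [])
  Nat.beq (evalRow lowTab (e.2 ++ [3]) (vAt e.1)) (vAt k)

theorem steps_ok : ∀ k < 20, k ≠ 0 → stepOK k = true := by decide +kernel

theorem repTab_letters : ∀ k < 20, ∀ c ∈ (JankoFourIndex.repTab.getD k (0, [])).2, c < 3 := by
  decide +kernel

theorem vecs_ok : vAt 0 = 1 ∧ (∀ k < 20, vAt k < 2 ^ 112) ∧ ∀ k < 20, k ≠ 0 → vAt k ≠ 1 := by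
  decide +kernel

theorem leads_ok : (∀ k < 20, leadAt k < 7) ∧ ∀ j < 7, leaderAt j < 20 := by decide +kernel

/-- The connecting words move the leaders to their orbits. -/
def connectOK (k : ℕ) : Bool :=
  (connect.getD k []).all (fun c => Nat.blt c 3 || (Nat.ble 4 c && Nat.blt c 15)) &&
    Nat.beq (evalRow lowTab (connect.getD k []) (vAt (leaderAt (leadAt k)))) (vAt k)

theorem connect_ok : ∀ k < 20, connectOK k = true := by decide +kernel

theorem fixed_one : (∀ c ∈ [0, 1, 2], evalRow lowTab [c] 1 = 1) ∧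
    ∀ i < 11, evalRow lowTab [i + 4] 1 = 1 := by decide +kernel

theorem sWord_ok : sameProd lowTab sWord [4] = true := by decide +kernel

theorem sWord_lt : ∀ c ∈ sWord, c < 4 := by decide +kernel

theorem fixWord_ok : (∀ c ∈ fixWord, 4 ≤ c ∧ c < 15) ∧
    evalRow lowTab fixWord (vAt 3) = vAt 3 ∧ evalRow lowTab fixWord 4 ≠ 4 ∧
    evalRow lowTab fixWord 4 < 2 ^ 112 := by
  decide +kernel

/-- Products of the first basic involutions, in increasing order. -/
def qWords : ℕ → List (List ℕ)
  | 0 => [[]]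
  | k + 1 => qWords k ++ (qWords k).map (· ++ [k + 4])

theorem free_ok : (qWords 11).all (fun w => List.isEmpty w ||
    (!Nat.beq (evalRow lowTab w (vAt 4)) (vAt 4) && Nat.blt (evalRow lowTab w (vAt 4)) (2 ^ 112))) =
      true := by
  decide +kernel

end CfsgLib.JFourFacts.Suborbit
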