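import Cfsg.Agent.JFourFacts.Suborbit

/-!
The cosets of `2¹¹:M₂₄` in the presented fourth Janko group form seven suborbits of sizes
1, 15180, 28336, 3400320, 32643072, 54405120 and 82575360.
-/

set_option autoImplicit false
set_option maxRecDepth 100000

namespace CfsgLib.JFourFacts.Suborbit

open CfsgLib.JankoFour CfsgLib.JankoFourIndex

local notation "J" => Cfsg.Spor.J4

/-- The number of points of the orbits belonging to a set of suborbits. -/
def blockSize (B : Finset (Fin 7)) : ℕ :=
  ∑ k ∈ Finset.univ.filter (fun k : Fin 20 => ∃ i ∈ B, leadAt k.val = i.val), orbSize.getD k.val 0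

theorem blocks_ok : (∀ B : Finset (Fin 7), blockSize B ∣ 501397585920 → B.card ≤ 1 ∨ B = {4, 5}) ∧
    (List.ofFn fun i : Fin 7 => blockSize {i}) =
      [1, 15180, 28336, 3400320, 32643072, 54405120, 82575360] := by
  decide +kernel

theorem sum_orbSize : ∑ j : Fin 20, orbSize.getD j.val 0 = 173067389 := by decide +kernel

variable (M : Model) (e : Nonempty (mSub ≃* Cfsg.M24))
include M e

theorem card_hSub : Nat.card hSub = 501397585920 := by
  have h := Subgroup.index_mul_card hSub
  rw [index_hSub M e, card_J4 M e] at h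
  omega

theorem cover_exact : Function.Injective cover ∧
    ∀ i : Fin 20, Nat.card (mSub ⧸ orbStab i.val) = orbSize.getD i.val 0 := by
  have := M.finite
  have := finite_quotient M
  have hsurj := cover_surjective M
  have hle : ∀ i : Fin 20, Nat.card (mSub ⧸ orbStab i.val) ≤ orbSize.getD i.val 0 := fun i =>
    index_orbStab_le M i.isLt
  have hcard : Nat.card (J ⧸ hSub) = 173067389 := index_hSub M e
  have h1 : Nat.card (Σ j : Fin 20, mSub ⧸ orbStab j.val) ≤ Nat.card (J ⧸ hSub) := by
    rw [Nat.card_sigma, hcard, ← sum_orbSize]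
    exact Finset.sum_le_sum fun i _ => hle i
  refine ⟨(hsurj.bijective_of_nat_card_le h1).1, fun i => ?_⟩
  have h2 := Nat.card_le_card_of_surjective _ hsurj
  rw [Nat.card_sigma, hcard, ← sum_orbSize] at h2
  exact (Finset.sum_eq_sum_iff_of_le fun j _ => hle j).1
    (le_antisymm (Finset.sum_le_sum fun j _ => hle j) h2) i (Finset.mem_univ i)

theorem suborbits : ∃ c : Fin 7 → J ⧸ hSub,
    (∀ i j : Fin 7, i ≠ j → MulAction.orbit hSub (c i) ≠ MulAction.orbit hSub (c j)) ∧
    (∀ q : J ⧸ hSub, ∃ i : Fin 7, q ∈ MulAction.orbit hSub (c i)) ∧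
    (List.ofFn fun i => (MulAction.orbit hSub (c i)).ncard) =
      [1, 15180, 28336, 3400320, 32643072, 54405120, 82575360] := by
  classical
  have hinj : Function.Injective JankoFourRep.rep := rep_injective M e
  have := finite_J4 M
  have := M.finite
  let B : Fin 7 → Finset (Fin 7) := fun j => Finset.univ.filter fun i => orb i.val = orb j.val
  have himg : ∀ j : Fin 7, orb j.val = cover ''
      {x : Σ k : Fin 20, mSub ⧸ orbStab k.val | ∃ i ∈ B j, leadAt x.1.val = i.val} := by
    intro j
    ext q
    constructor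
    · intro hq
      obtain ⟨x, rfl⟩ := cover_surjective M q
      refine ⟨x, ⟨⟨_, leads_ok.1 _ x.1.isLt⟩, Finset.mem_filter.2 ⟨Finset.mem_univ _, ?_⟩, rfl⟩, rfl⟩
      have h := cover_mem_orb M hinj x
      exact (MulAction.orbit_eq_iff.2 h).symm.trans (MulAction.orbit_eq_iff.2 hq)
    · rintro ⟨x, ⟨i, hi, hx⟩, rfl⟩
      rw [← (Finset.mem_filter.1 hi).2, ← hx]
      exact cover_mem_orb M hinj x
  have hsize : ∀ j : Fin 7, (orb j.val).ncard = blockSize (B j) := by
    intro j
    haveI : ∀ k : Fin 20, Fintype (mSub ⧸ orbStab k.val) := fun k => Fintype.ofFinite _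
    rw [himg j, Set.ncard_image_of_injective _ (cover_exact M e).1]
    have hset : {x : Σ k : Fin 20, mSub ⧸ orbStab k.val | ∃ i ∈ B j, leadAt x.1.val = i.val} =
        ↑((Finset.univ.filter fun k : Fin 20 => ∃ i ∈ B j, leadAt k.val = i.val).sigma
          fun k => (Finset.univ : Finset (mSub ⧸ orbStab k.val))) := by
      ext x
      simp
    rw [hset, Set.ncard_coe_finset, Finset.card_sigma, blockSize]
    refine Finset.sum_congr rfl fun k _ => ?_
    rw [Finset.card_univ, ← Nat.card_eq_fintype_card, (cover_exact M e).2 k]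
  have hdvd : ∀ j : Fin 7, blockSize (B j) ∣ 501397585920 := by
    intro j
    rw [← hsize j, ← Nat.card_coe_set_eq, ← card_hSub M e]
    exact ⟨_, (Nat.card_congr (MulAction.orbitProdStabilizerEquivGroup hSub
      (point (leaderAt j.val)))).symm.trans (Nat.card_prod _ _)⟩
  have hB : ∀ j : Fin 7, B j = {j} := by
    intro j
    have hj : j ∈ B j := Finset.mem_filter.2 ⟨Finset.mem_univ _, rfl⟩
    rcases blocks_ok.1 (B j) (hdvd j) with h | h
    · exact Finset.eq_singleton_iff_unique_mem.2
        ⟨hj, fun i hi => Finset.card_le_one.1 h i hi j hj⟩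
    · exfalso
      have h4 : (4 : Fin 7) ∈ B j := by rw [h]; simp
      have h5 : (5 : Fin 7) ∈ B j := by rw [h]; simp
      exact orb_four_ne_five M hinj
        ((Finset.mem_filter.1 h4).2.trans (Finset.mem_filter.1 h5).2.symm)
  refine ⟨fun j => point (leaderAt j.val), fun i j hij h => hij ?_, fun q => ?_, ?_⟩
  · have : i ∈ B j := Finset.mem_filter.2 ⟨Finset.mem_univ _, h⟩
    rw [hB j] at this
    exact Finset.mem_singleton.1 this
  · obtain ⟨j, hj, h⟩ := orb_cover M hinj q
    exact ⟨⟨j, hj⟩, h⟩
  · rw [show (fun j : Fin 7 => (MulAction.orbit hSub (point (leaderAt j.val))).ncard) =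
      fun j => blockSize {j} from funext fun j => (hsize j).trans (congrArg blockSize (hB j))]
    exact blocks_ok.2

end CfsgLib.JFourFacts.Suborbit
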