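/-! Data for the seven suborbits of the fourth Janko group on the cosets of `2¹¹:M₂₄`. -/

set_option autoImplicit false

namespace CfsgLib.JFourFacts.Suborbit

/-- The images of the first basis vector under the twenty representatives. -/
def vecs : List Nat := [
  0x1,
  0x1000,
  0x41d83464030000587017c44b3901,
  0x38082272242b443e9ef3b023a474,
  0x421f2152374a5e8059a6ee225401,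
  0x85cea1ea95cdd3d4fe36b971be4a,
  0x808892a82224447c7e38d95ea9d6,
  0xe307181332c050c2e113966e1265,
  0x5e1f923ab7a6aec60961b07cbfe2,
  0x872611d494000fbdae92f51cb4f,
  0x4bfd49a14b6a74e11571ea11bbde,
  0x5c149674124e469ea11c40a2022d,
  0x4a22a1fa2529bcd7d90bc4a9e75f,
  0x6382881ca4800017e4bd9f6ba67c,
  0xa4f04780f04f2a6ed638f18362ad,
  0xb626a1d08770179a86c9510a375d,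
  0x7a92d889f850005d532e8e4673db,
  0x17abdb98baa2a3,
  0xef8006fa98a9b8,
  0x4bc343c844c000]

/-- The suborbit of each of the twenty orbits. -/
def leadOf : List Nat := [0, 1, 3, 4, 5, 6, 4, 5, 5, 3, 5, 4, 5, 3, 5, 6, 3, 1, 2, 2]

/-- The orbit leading each suborbit. -/
def leaders : List Nat := [0, 1, 18, 2, 3, 4, 5]

/-- Words from the leader to each orbit. -/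
def connect : List (List Nat) := [
  [],
  [],
  [],
  [],
  [],
  [],
  [4, 5, 6, 8, 14, 0, 2, 0, 1, 0, 1, 0, 2, 0, 2, 0, 2, 0, 2, 0, 2, 0, 2, 0,
    2, 0, 1, 0, 1, 0, 2, 0, 2, 0, 1, 0, 1, 0, 1, 0, 1, 0, 2, 0, 2, 0, 2, 0,
    1, 0, 1, 0, 2],
  [1, 0, 2, 0, 1, 0, 2, 0, 1, 0, 2, 0, 2, 0, 1, 0, 2, 0, 2, 0, 2, 0, 1, 0,
    2, 0, 2, 0, 2, 0, 2, 0, 1, 0, 1, 0, 1, 0, 1, 0, 1, 0, 1, 13, 12, 10, 9, 8,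
    7, 6, 5, 4, 4, 6, 7, 9, 10, 13, 14, 0, 1, 0, 2, 0, 2, 0, 1, 0, 1, 0, 2, 0,
    1, 0, 1, 0, 1, 0, 1, 0, 2, 0, 1, 0, 1, 0, 1, 0, 2, 0, 2, 0, 2, 0, 1, 0,
    1, 0, 2, 0, 1, 0, 1, 0, 1, 0, 1, 0, 2, 0, 2, 0, 2, 0, 1],
  [1, 0, 2, 0, 1, 0, 2, 0, 1, 0, 2, 0, 2, 0, 1, 0, 2, 0, 2, 0, 2, 0, 1, 0,
    2, 0, 2, 0, 2, 0, 2, 0, 1, 0, 1, 0, 1, 0, 1, 0, 1, 0, 1, 13, 12, 10, 9, 8,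
    7, 6, 5, 4],
  [0, 2, 0, 2, 0, 1, 0, 1, 0, 2, 0, 1, 0, 1, 0, 2, 0, 2, 0, 1, 0, 1, 0, 2,
    0, 2, 0, 2, 5, 4, 7, 11, 13, 2, 0, 1, 0, 1, 0, 2, 0, 2, 0, 1, 0, 1, 0, 2,
    0, 1, 0, 1, 0, 1, 0, 2, 0, 2, 0, 2, 0, 1, 0, 2, 0, 1, 0, 1, 0, 1, 0, 2,
    0, 1, 0, 2, 0, 1, 0, 2, 0, 2, 0, 1, 0, 1, 0],
  [1, 0, 2, 0, 1, 0, 2, 0, 1, 0, 2, 0, 2, 0, 1, 0, 2, 0, 2, 0, 2, 0, 1, 0,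
    2, 0, 2, 0, 2, 0, 2, 0, 1, 0, 1, 0, 1, 0, 1, 0, 1, 0, 1, 13, 12, 10, 9, 8,
    7, 6, 5, 4, 4, 6, 7, 9, 10, 13, 14, 0, 1, 0, 2, 0, 2, 0, 1, 0, 1, 0, 2, 0,
    1, 0, 1, 0, 1, 0, 1, 0, 2, 0, 1, 0, 1, 0, 1, 0, 2, 0, 2, 0, 2, 0, 1, 0,
    1, 0, 2, 0, 1, 0, 1, 0, 1, 0, 1, 0, 2, 0, 2, 0, 2, 0, 1, 0, 2, 0, 2, 0,
    2, 0, 2, 0, 1, 0, 2, 0, 2, 0, 2, 0, 2, 0, 1, 0, 1, 0, 1, 0, 1, 0, 2, 0,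
    2, 0, 1, 0, 2, 0, 2, 0, 2, 0, 1, 0, 1, 0, 1, 0, 2, 0, 2, 0, 1, 0, 1, 0,
    2, 0, 14, 11, 9, 8, 4, 4, 6, 12, 13, 14, 0, 2, 0, 2, 0, 1, 0, 1, 0, 2, 0, 1,
    0, 1, 0, 2, 0, 2, 0, 1, 0, 2, 0, 2, 0, 2, 0, 1, 0, 2, 0, 2, 0, 1, 0, 1,
    0, 1, 0, 2, 0, 1, 0, 2, 0, 2, 0, 2, 0, 1, 0, 1, 0, 1, 0],
  [6, 8, 10, 11, 0, 1, 0, 2, 0, 1, 0, 1, 0, 2, 0, 1, 0, 1, 0, 2, 0, 2, 0, 1,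
    0, 1, 0, 1, 0, 1, 0, 2, 0, 1, 0, 2, 0, 1, 0, 1, 0, 1, 0, 1, 0, 1, 0, 1,
    0, 2, 0, 1, 0, 1],
  [1, 0, 2, 0, 1, 0, 2, 0, 1, 0, 2, 0, 2, 0, 1, 0, 2, 0, 2, 0, 2, 0, 1, 0,
    2, 0, 2, 0, 2, 0, 2, 0, 1, 0, 1, 0, 1, 0, 1, 0, 1, 0, 1, 13, 12, 10, 9, 8,
    7, 6, 5, 4, 4, 11, 13, 14, 2, 0, 2, 0, 1, 0, 1, 0, 2, 0, 1, 0, 1, 0, 2, 0,
    2, 0, 2, 0, 2, 0, 1, 0, 1, 0, 1, 0, 1, 0, 1, 0, 1, 0, 2, 0, 2, 0, 1, 0,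
    1, 0, 1, 0, 2, 0, 2, 0, 2],
  [0, 2, 0, 2, 0, 1, 0, 1, 0, 2, 0, 1, 0, 1, 0, 2, 0, 2, 0, 1, 0, 1, 0, 2,
    0, 2, 0, 2, 5, 4, 8, 12, 14, 0, 1, 0, 1, 0, 1, 0, 2, 0, 2, 0, 1, 0, 1, 0,
    1, 0, 2, 0, 2, 0, 2, 0, 2, 0, 2, 0, 1, 0, 1, 0, 1, 0, 1, 0, 1, 0, 2, 0,
    1, 0, 2, 0, 1, 0, 2, 0, 2, 0, 2, 0, 2, 0],
  [1, 0, 2, 0, 1, 0, 2, 0, 1, 0, 2, 0, 2, 0, 1, 0, 2, 0, 2, 0, 2, 0, 1, 0,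
    2, 0, 2, 0, 2, 0, 2, 0, 1, 0, 1, 0, 1, 0, 1, 0, 1, 0, 1, 13, 12, 10, 9, 8,
    7, 6, 5, 4, 4, 6, 7, 9, 10, 13, 14, 0, 1, 0, 2, 0, 2, 0, 1, 0, 1, 0, 2, 0,
    1, 0, 1, 0, 1, 0, 1, 0, 2, 0, 1, 0, 1, 0, 1, 0, 2, 0, 2, 0, 2, 0, 1, 0,
    1, 0, 2, 0, 1, 0, 1, 0, 1, 0, 1, 0, 2, 0, 2, 0, 2, 0, 1, 0, 2, 0, 2, 0,
    2, 0, 2, 0, 1, 0, 2, 0, 2, 0, 2, 0, 2, 0, 1, 0, 1, 0, 1, 0, 1, 0, 2, 0,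
    2, 0, 1, 0, 2, 0, 2, 0, 2, 0, 1, 0, 1, 0, 1, 0, 2, 0, 2, 0, 1, 0, 1, 0,
    2, 0, 14, 11, 9, 8, 4],
  [0, 2, 0, 2, 0, 2, 0, 2, 0, 2, 0, 2, 0, 1, 0, 1, 0, 2, 0, 2, 0, 2, 0, 1,
    0, 1, 0, 1, 0, 1, 0, 2, 0, 1, 0, 2, 0, 2, 0, 2, 0, 1, 0, 2, 0, 2, 0, 1,
    0, 1, 0, 1, 0, 2, 0, 1, 0, 13, 12, 11, 8, 5],
  [0, 2, 0, 2, 0, 1, 0, 1, 0, 2, 0, 1, 0, 1, 0, 2, 0, 2, 0, 1, 0, 1, 0, 2,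
    0, 2, 0, 2, 5, 4],
  [4, 2, 0, 2, 0, 1, 0, 2, 0, 2, 0, 2, 0, 1, 0, 1, 0, 2, 0, 2, 0, 1, 0, 2,
    0, 2],
  [],
  [0, 1, 0, 2, 0, 1, 0, 1, 0, 2, 0, 1, 0, 1, 0, 1, 0, 1, 6]]

/-- The word of `s`. -/
def sWord : List Nat := [1, 0, 1, 0, 2, 0, 2, 0, 2, 0, 2, 3, 1, 0, 1, 0, 1, 0, 1, 0, 2, 0, 1, 0,
    1, 0, 2, 0, 2, 0, 2, 0, 2, 3, 1, 0, 1, 0, 1, 0, 1, 0, 2, 0, 1, 0, 1, 0,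
    2, 0, 2, 0, 2, 0, 2, 3, 1, 0, 1, 0, 1, 0, 1, 0, 2, 0]

/-- An involution of the normal subgroup fixing the coset of the fifth leader. -/
def fixWord : List Nat := [5, 6, 7, 10, 12, 14]

end CfsgLib.JFourFacts.Suborbit
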