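import Mathlib

/-!
The normalisers of the subgroups of orders 23, 29, 31, 37 and 43 in a group of the order of the
fourth Janko group, from a few local facts: which small primes divide their centralisers, numbers of
fixed vectors in a representation, and some elements inverting them.
-/

set_option autoImplicit false

namespace CfsgLib.JFourFacts

/-- The order of the fourth Janko group. -/
abbrev orderJ : ℕ := 86775571046077562880

/-- The five large primes. -/
def bigPrimes : List ℕ := [23, 29, 31, 37, 43]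

theorem bigPrimes_prime : ∀ p ∈ bigPrimes, p.Prime := by decide +kernel

theorem bigPrimes_dvd : ∀ p ∈ bigPrimes, p ∣ orderJ ∧ ¬ p ^ 2 ∣ orderJ := by decide +kernel

theorem prime_dvd_orderJ {q : ℕ} (hq : q.Prime) (h : q ∣ orderJ) :
    q ∈ [2, 3, 5, 7, 11, 23, 29, 31, 37, 43] := by
  rw [show orderJ = 2 ^ 21 * 3 ^ 3 * 5 * 7 * 11 ^ 3 * 23 * 29 * 31 * 37 * 43 by norm_num] at h
  have hd : ∀ {a : ℕ}, a.Prime → q ∣ a → q = a := fun ha h => (Nat.prime_dvd_prime_iff_eq hq ha).1 h
  have hp : ∀ {a k : ℕ}, a.Prime → q ∣ a ^ k → q = a := fun ha h => hd ha (hq.dvd_of_dvd_pow h)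
  simp only [List.mem_cons, List.not_mem_nil, or_false]
  rcases (hq.dvd_mul).1 h with h | h
  rcases (hq.dvd_mul).1 h with h | h
  rcases (hq.dvd_mul).1 h with h | h
  rcases (hq.dvd_mul).1 h with h | h
  rcases (hq.dvd_mul).1 h with h | h
  rcases (hq.dvd_mul).1 h with h | h
  rcases (hq.dvd_mul).1 h with h | h
  rcases (hq.dvd_mul).1 h with h | h
  rcases (hq.dvd_mul).1 h with h | h
  all_goals
    first
      | (have := hp (a := 2) (by norm_num) h; tauto)
      | (have := hp (a := 3) (by norm_num) h; tauto)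
      | (have := hp (a := 11) (by norm_num) h; tauto)
      | (have := hd (a := 5) (by norm_num) h; tauto)
      | (have := hd (a := 7) (by norm_num) h; tauto)
      | (have := hd (a := 23) (by norm_num) h; tauto)
      | (have := hd (a := 29) (by norm_num) h; tauto)
      | (have := hd (a := 31) (by norm_num) h; tauto)
      | (have := hd (a := 37) (by norm_num) h; tauto)
      | (have := hd (a := 43) (by norm_num) h; tauto)

/-- The large prime that a centraliser of order divisible by `p` may contain, or one. -/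
def cRest (p : ℕ) : ℕ :=
  if p = 23 then 31 else if p = 29 then 43 else if p = 31 then 23 else if p = 37 then 1 else 29

/-- For each large prime, the part of the order that a centraliser may contribute. -/
def cPart (p : ℕ) : ℕ := 11 ^ 3 * cRest p

/-- The other primes that a centraliser may contain. -/
def cPrimes (p : ℕ) : List ℕ :=
  if p = 23 then [11, 31] else if p = 29 then [11, 43] else if p = 31 then [11, 23]
  else if p = 37 then [11] else [11, 29]

theorem cPart_spec : ∀ p ∈ bigPrimes, orderJ / p = cPart p * (orderJ / p / cPart p) ∧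
    ∀ q ∈ cPrimes p, ¬ q ∣ orderJ / p / cPart p := by decide +kernel

/-- The arithmetic of the counts. -/
def admissible (p c e : ℕ) : Bool :=
  (orderJ / p) % (c * e) == 0 && orderJ / p / (c * e) % p == 1 && e % 2 == 0

/-- The divisors of `cPart p`. -/
def cands (p : ℕ) : List ℕ := [1, 11, 121, 1331].flatMap fun a => [a, a * cRest p]

theorem mem_cands {p c : ℕ} (hp : p ∈ bigPrimes) (h : c ∣ cPart p) : c ∈ cands p := by
  obtain ⟨a, b, ha, hb, rfl⟩ := Nat.dvd_mul.1 h
  obtain ⟨i, hi, rfl⟩ := (Nat.dvd_prime_pow (show Nat.Prime 11 by norm_num)).1 ha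
  have hr : cRest p = 1 ∨ (cRest p).Prime := by
    simp only [bigPrimes, List.mem_cons, List.not_mem_nil, or_false] at hp
    rcases hp with rfl | rfl | rfl | rfl | rfl <;> norm_num [cRest]
  have hb' : b = 1 ∨ b = cRest p := by
    rcases hr with h1 | h1
    · exact Or.inl (Nat.dvd_one.1 (h1 ▸ hb))
    · exact (Nat.dvd_prime h1).1 hb
  interval_cases i <;> rcases hb' with rfl | rfl <;> simp [cands]

/-- The possible pairs. -/
def options (p : ℕ) : List (ℕ × ℕ) :=
  (cands p).flatMap fun c =>
    ((List.range p).filter fun e => (p - 1) % e == 0 && admissible p c e).map fun e => (c, e)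

theorem options_23 : ∀ o ∈ options 23, 11 ∣ o.2 → o = (1, 22) := by decide +kernel

theorem options_29 : ∀ o ∈ options 29, o = (1, 28) ∨ o = (43, 2) := by decide +kernel

theorem options_31 : ∀ o ∈ options 31, ¬ 23 ∣ o.1 → o = (1, 10) := by decide +kernel

theorem options_37 : ∀ o ∈ options 37, o = (1, 12) := by decide +kernel

theorem options_43 : ∀ o ∈ options 43, o = (1, 14) ∨ o = (29, 42) := by decide +kernel

variable {G : Type*} [Group G] [Finite G]

/-- The orders of the centraliser and of the normaliser. -/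
structure Counts (U : Subgroup G) (p c e : ℕ) : Prop where
  cent : Nat.card (Subgroup.centralizer (U : Set G)) = p * c
  norm : Nat.card (Subgroup.normalizer (U : Set G)) = p * c * e

theorem counts_inj {U : Subgroup G} {p c e c' e' : ℕ} (h : Counts U p c e) (h' : Counts U p c' e')
    (hp : 0 < p) : c = c' ∧ e = e' := by
  have hc : c = c' := Nat.eq_of_mul_eq_mul_left hp (h.cent.symm.trans h'.cent)
  subst hc
  have hc0 : 0 < p * c := h.cent ▸ Nat.card_pos
  exact ⟨rfl, Nat.eq_of_mul_eq_mul_left hc0 (h.norm.symm.trans h'.norm)⟩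

theorem card_eq_of_bigPrime (hG : Nat.card G = orderJ) {p : ℕ} (hp : p ∈ bigPrimes)
    (U : Sylow p G) : Nat.card (U : Subgroup G) = p := by
  haveI := Fact.mk (bigPrimes_prime p hp)
  obtain ⟨n, hn⟩ := IsPGroup.iff_card.1 U.isPGroup'
  have h1 : p ∣ Nat.card (U : Subgroup G) := U.dvd_card_of_dvd_card (hG ▸ (bigPrimes_dvd p hp).1)
  have h2 : p ^ n ∣ orderJ := hn ▸ hG ▸ Subgroup.card_subgroup_dvd_card _
  rcases n with _ | _ | n
  · rw [hn, pow_zero, Nat.dvd_one] at h1
    exact absurd h1 (bigPrimes_prime p hp).ne_one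
  · rw [hn, pow_one]
  · exact absurd ((pow_dvd_pow p (by omega)).trans h2) (bigPrimes_dvd p hp).2

/-- An element conjugating a finite subgroup into itself normalises it. -/
theorem mem_norm {H : Subgroup G} {a : G} (h : ∀ v ∈ H, a * v * a⁻¹ ∈ H) :
    a ∈ Subgroup.normalizer (H : Set G) := by
  have hmap : H.map (MulAut.conj a).toMonoidHom = H := by
    refine Subgroup.eq_of_le_of_card_ge ?_
      (by rw [Subgroup.card_map_of_injective (MulAut.conj a).injective])
    rintro _ ⟨v, hv, rfl⟩
    exact h v hv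
  refine Subgroup.mem_normalizer_iff.2 fun v => ⟨h v, fun hv => ?_⟩
  rw [← hmap] at hv
  obtain ⟨w, hw, hwv⟩ := hv
  rwa [← (MulAut.conj a).injective hwv]

/-- A subgroup of prime order centralises itself. -/
theorem le_cent_self {H : Subgroup G} {p : ℕ} [Fact p.Prime] (hH : Nat.card H = p) :
    H ≤ Subgroup.centralizer (H : Set G) := by
  haveI : IsCyclic H := isCyclic_of_prime_card hH
  exact Subgroup.le_centralizer H

/-- A subgroup of prime order is the group of powers of any of its elements but one. -/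
theorem eq_zpowers {U : Subgroup G} {p : ℕ} (hp : p.Prime) (hU : Nat.card U = p) {u : G}
    (hu : u ∈ U) (h1 : u ≠ 1) : Subgroup.zpowers u = U ∧ orderOf u = p := by
  have hd : orderOf u ∣ p := hU ▸ Subgroup.orderOf_dvd_natCard U hu
  have ho : orderOf u = p := ((Nat.dvd_prime hp).1 hd).resolve_left fun e => h1 (orderOf_eq_one_iff.1 e)
  exact ⟨Subgroup.eq_of_le_of_card_ge ((Subgroup.zpowers_le).2 hu)
    (by rw [Nat.card_zpowers, ho, hU]), ho⟩

/-- The counts exist, with the index dividing `p - 1` and the number of conjugates `1` modulo `p`;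
an element of the normaliser inducing an automorphism of order `k` makes `k` divide the index. -/
theorem exists_counts {p : ℕ} [Fact p.Prime] (U : Sylow p G) (hU : Nat.card (U : Subgroup G) = p) :
    ∃ c e, Counts (U : Subgroup G) p c e ∧ e ∣ p - 1 ∧ c * e ∣ Nat.card G / p ∧
      Nat.card G / p / (c * e) % p = 1 ∧
      ∀ (k : ℕ), k.Prime → ∀ a : G, a ∈ Subgroup.normalizer ((U : Subgroup G) : Set G) →
        (∃ u ∈ (U : Subgroup G), a * u * a⁻¹ ≠ u) →
        (∀ u ∈ (U : Subgroup G), a ^ k * u * (a ^ k)⁻¹ = u) → k ∣ e := by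
  set H : Subgroup G := (U : Subgroup G)
  have hle : Subgroup.centralizer (H : Set G) ≤ Subgroup.normalizer (H : Set G) := fun g hg =>
    Subgroup.mem_normalizer_iff.2 fun u => ⟨fun hu => by
      rw [Subgroup.mem_centralizer_iff] at hg
      rwa [← hg u hu, mul_inv_cancel_right], fun hu => by
      rw [Subgroup.mem_centralizer_iff] at hg
      have h := hg _ hu
      rw [show g * u * g⁻¹ * g = g * u by group] at h
      rwa [mul_left_cancel h]⟩
  have hUC : H ≤ Subgroup.centralizer (H : Set G) := le_cent_self hU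
  let θ := H.normalizerMonoidHom
  have hker : θ.ker = (Subgroup.centralizer (H : Set G)).subgroupOf (Subgroup.normalizer (H : Set G)) :=
    H.normalizerMonoidHom_ker
  obtain ⟨c, hc⟩ : p ∣ Nat.card (Subgroup.centralizer (H : Set G)) :=
    hU ▸ Subgroup.card_dvd_of_le hUC
  have hkc : Nat.card θ.ker = p * c := by
    rw [hker, Nat.card_congr (Subgroup.subgroupOfEquivOfLe hle).toEquiv, hc]
  have hN : Nat.card (Subgroup.normalizer (H : Set G)) = p * c * Nat.card θ.range := by
    rw [← hkc, ← Subgroup.index_ker, Subgroup.card_mul_index]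
  have hrange : Nat.card θ.range ∣ p - 1 := by
    haveI : IsCyclic H := isCyclic_of_prime_card hU
    have h := Subgroup.card_subgroup_dvd_card θ.range
    rwa [IsCyclic.card_mulAut H, hU, Nat.totient_prime Fact.out] at h
  have hidx := (Subgroup.normalizer (H : Set G)).card_mul_index
  have hmod := card_sylow_modEq_one p G
  rw [U.card_eq_index_normalizer] at hmod
  have hp0 : 0 < p := (Fact.out : p.Prime).pos
  have hpos : 0 < c * Nat.card θ.range := by
    have : 0 < Nat.card (Subgroup.normalizer (H : Set G)) := Nat.card_pos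
    rw [hN, mul_assoc] at this
    exact Nat.pos_of_mul_pos_left this
  have hdiv : Nat.card G / p = c * Nat.card θ.range * (Subgroup.normalizer (H : Set G)).index := by
    rw [← hidx, hN, show p * c * Nat.card θ.range * (Subgroup.normalizer (H : Set G)).index =
      p * (c * Nat.card θ.range * (Subgroup.normalizer (H : Set G)).index) by ring,
      Nat.mul_div_cancel_left _ hp0]
  refine ⟨c, Nat.card θ.range, ⟨hc, hN⟩, hrange, ⟨_, hdiv⟩, ?_, ?_⟩
  · rw [hdiv, Nat.mul_div_cancel_left _ hpos]
    exact Eq.trans hmod (Nat.mod_eq_of_lt (Fact.out : p.Prime).one_lt)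
  · intro k hk a ha ⟨u, hu, hne⟩ hpow
    let A : Subgroup.normalizer (H : Set G) := ⟨a, ha⟩
    have h1 : θ A ≠ 1 := fun e => by
      have h : θ A ⟨u, hu⟩ = ⟨u, hu⟩ := by rw [e]; rfl
      exact hne (congrArg Subtype.val h)
    have hk1 : θ A ^ k = 1 := by
      rw [← map_pow]
      exact MulEquiv.ext fun v => Subtype.ext (hpow v.1 v.2)
    haveI := Fact.mk hk
    have ho : orderOf (θ A) = k := orderOf_eq_prime hk1 h1
    rw [← ho]
    exact Subgroup.orderOf_dvd_natCard θ.range ⟨A, rfl⟩

/-- The five primes' facts used by the count. -/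
structure Local (G : Type*) [Group G] where
  card_eq : Nat.card G = orderJ
  small : ∀ w : G, orderOf w ∈ [2, 3, 5, 7] → ∀ p ∈ bigPrimes,
    ¬ p ∣ Nat.card (Subgroup.centralizer ({w} : Set G))
  fix : ℕ → ℕ
  apart : ∀ (u w : G), orderOf u ∈ bigPrimes → orderOf w ∈ bigPrimes →
    fix (orderOf u) < orderOf w → Commute u w → fix (orderOf u) ≤ fix (orderOf w)
  fix_eq : bigPrimes.map fix = [4, 1, 4, 16, 1]
  invert : ∀ p ∈ bigPrimes, ∀ U : Subgroup G, Nat.card U = p →
    ∃ a : G, ∀ u ∈ U, a * u * a⁻¹ = u⁻¹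
  normal23 : ∀ U : Subgroup G, Nat.card U = 23 → ∃ a : G, ∀ u ∈ U, a * u * a⁻¹ = u ^ 2

variable (L : Local G)
include L

theorem not_dvd_cent {p q : ℕ} (hp : p ∈ bigPrimes) (hq : q ∈ bigPrimes) (hf : L.fix p < q)
    (hf' : L.fix q < L.fix p) {U : Subgroup G} (hU : Nat.card U = p) :
    ¬ q ∣ Nat.card (Subgroup.centralizer (U : Set G)) := by
  intro h
  haveI := Fact.mk (bigPrimes_prime q hq)
  obtain ⟨w, hw⟩ := exists_prime_orderOf_dvd_card' q h
  haveI : Nontrivial U := Finite.one_lt_card_iff_nontrivial.1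
    (hU.symm ▸ (bigPrimes_prime p hp).one_lt)
  obtain ⟨u, hu⟩ := exists_ne (1 : U)
  obtain ⟨-, hou⟩ := eq_zpowers (bigPrimes_prime p hp) hU u.2 fun e => hu (Subtype.ext e)
  rw [← Subgroup.orderOf_coe] at hw
  have hc : Commute (u : G) (w : G) := (Subgroup.mem_centralizer_iff.1 w.2) u u.2
  have := L.apart (u : G) w (hou.symm ▸ hp) (hw.symm ▸ hq) (by rw [hou, hw]; exact hf) hc
  rw [hou, hw] at this
  omega

theorem not_dvd_cent' {p q : ℕ} (hp : p ∈ bigPrimes) (hq : q ∈ bigPrimes) (hf : L.fix q < p)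
    (hf' : L.fix p < L.fix q) {U : Subgroup G} (hU : Nat.card U = p) :
    ¬ q ∣ Nat.card (Subgroup.centralizer (U : Set G)) := by
  intro h
  haveI := Fact.mk (bigPrimes_prime q hq)
  obtain ⟨w, hw⟩ := exists_prime_orderOf_dvd_card' q h
  rw [← Subgroup.orderOf_coe] at hw
  haveI : Nontrivial U := Finite.one_lt_card_iff_nontrivial.1
    (hU.symm ▸ (bigPrimes_prime p hp).one_lt)
  obtain ⟨u, hu⟩ := exists_ne (1 : U)
  obtain ⟨-, hou⟩ := eq_zpowers (bigPrimes_prime p hp) hU u.2 fun e => hu (Subtype.ext e)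
  have hc : Commute (w : G) (u : G) := ((Subgroup.mem_centralizer_iff.1 w.2) u u.2).symm
  have := L.apart w (u : G) (hw.symm ▸ hq) (hou.symm ▸ hp) (by rw [hou, hw]; exact hf) hc
  rw [hou, hw] at this
  omega

theorem cent_primes {p : ℕ} (hp : p ∈ bigPrimes) {U : Subgroup G} (hU : Nat.card U = p) {q : ℕ}
    (hq : q.Prime) (hqp : q ≠ p) (h : q ∣ Nat.card (Subgroup.centralizer (U : Set G))) :
    q ∈ cPrimes p := by
  have hmem := prime_dvd_orderJ hq (L.card_eq ▸ h.trans (Subgroup.card_subgroup_dvd_card _))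
  have hsmall : q ∉ [2, 3, 5, 7] := by
    intro hqs
    haveI := Fact.mk hq
    obtain ⟨w, hw⟩ := exists_prime_orderOf_dvd_card' q h
    rw [← Subgroup.orderOf_coe] at hw
    refine L.small w (hw.symm ▸ hqs) p hp (hU ▸ Subgroup.card_dvd_of_le fun u hu => ?_)
    exact Subgroup.mem_centralizer_singleton_iff.2 ((Subgroup.mem_centralizer_iff.1 w.2) u hu)
  have hf := L.fix_eq
  simp only [bigPrimes, List.map_cons, List.map_nil, List.cons.injEq, and_true] at hf
  obtain ⟨f23, f29, f31, f37, f43⟩ := hf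
  have kill : ∀ r ∈ bigPrimes, ((L.fix p < r ∧ L.fix r < L.fix p) ∨ (L.fix r < p ∧ L.fix p < L.fix r)) →
      q ≠ r := by
    rintro r hr (⟨h1, h2⟩ | ⟨h1, h2⟩) rfl
    · exact not_dvd_cent L hp hr h1 h2 hU h
    · exact not_dvd_cent' L hp hr h1 h2 hU h
  have k23 := kill 23 (by decide)
  have k29 := kill 29 (by decide)
  have k31 := kill 31 (by decide)
  have k37 := kill 37 (by decide)
  have k43 := kill 43 (by decide)
  clear kill h hU
  simp only [bigPrimes, List.mem_cons, List.not_mem_nil, or_false] at hp hmem hsmall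
  rcases hp with rfl | rfl | rfl | rfl | rfl <;>
    simp only [f23, f29, f31, f37, f43] at k23 k29 k31 k37 k43 <;>
    simp [cPrimes] <;> omega

/-- The counts are among the options. -/
theorem mem_options {p : ℕ} (hp : p ∈ bigPrimes) (U : Sylow p G) :
    ∃ o ∈ options p, Counts (U : Subgroup G) p o.1 o.2 ∧ (p = 23 → 11 ∣ o.2) := by
  haveI := Fact.mk (bigPrimes_prime p hp)
  have hU := card_eq_of_bigPrime L.card_eq hp U
  obtain ⟨c, e, hC, he, hdvd, hmod, hk⟩ := exists_counts U hU
  rw [L.card_eq] at hdvd hmod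
  haveI : Nontrivial (U : Subgroup G) := Finite.one_lt_card_iff_nontrivial.1
    (hU.symm ▸ (bigPrimes_prime p hp).one_lt)
  obtain ⟨u, hu⟩ := exists_ne (1 : (U : Subgroup G))
  obtain ⟨hz, hou⟩ := eq_zpowers (bigPrimes_prime p hp) hU u.2 fun e => hu (Subtype.ext e)
  have hpow : ∀ n : ℕ, (u : G) ^ n = u → n % p = 1 := by
    intro n hn
    have h1 := pow_inj_mod.1 (hn.trans (pow_one _).symm)
    rwa [hou, Nat.mod_eq_of_lt (bigPrimes_prime p hp).one_lt] at h1
  have hnorm : ∀ (a : G) (f : G → G), (∀ v ∈ (U : Subgroup G), a * v * a⁻¹ = f v) →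
      (∀ v ∈ (U : Subgroup G), f v ∈ (U : Subgroup G)) →
      a ∈ Subgroup.normalizer ((U : Subgroup G) : Set G) := by
    intro a f ha hf
    refine mem_norm fun v hv => ?_
    rw [ha v hv]
    exact hf v hv
  obtain ⟨a, ha⟩ := L.invert p hp _ hU
  have h2 : 2 ∣ e := by
    refine hk 2 Nat.prime_two a (hnorm a _ ha fun v hv => inv_mem hv) ⟨u, u.2, ?_⟩ fun v hv => ?_
    · rw [ha _ u.2]
      intro e1
      have hsq : (u : G) ^ 2 = 1 := by
        rw [pow_two]
        nth_rewrite 1 [← e1]
        exact inv_mul_cancel _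
      have h3 : p ≤ 2 := hou ▸ Nat.le_of_dvd (by norm_num) (orderOf_dvd_of_pow_eq_one hsq)
      simp [bigPrimes] at hp
      omega
    · rw [pow_two, mul_inv_rev, show a * a * v * (a⁻¹ * a⁻¹) = a * (a * v * a⁻¹) * a⁻¹ by group,
        ha v hv, ha _ (inv_mem hv), inv_inv]
  have h11 : p = 23 → 11 ∣ e := by
    rintro rfl
    obtain ⟨a, ha⟩ := L.normal23 _ hU
    refine hk 11 (by norm_num) a (hnorm a _ ha fun v hv => pow_mem hv 2) ⟨u, u.2, ?_⟩ fun v hv => ?_
    · rw [ha _ u.2]
      intro e1
      exact absurd (hpow 2 e1) (by norm_num)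
    · have key : ∀ n : ℕ, a ^ n * v * (a ^ n)⁻¹ = v ^ (2 ^ n) := by
        intro n
        induction n with
        | zero => simp
        | succ n ih =>
          rw [pow_succ' a, mul_inv_rev, show a * a ^ n * v * ((a ^ n)⁻¹ * a⁻¹) =
            a * (a ^ n * v * (a ^ n)⁻¹) * a⁻¹ by group, ih, ha _ (pow_mem hv _), ← pow_mul, pow_succ]
      rw [key]
      have hv23 : orderOf v ∣ 23 := hU ▸ Subgroup.orderOf_dvd_natCard _ hv
      obtain ⟨k, hk23⟩ := hv23
      calc v ^ (2 ^ 11) = v ^ (23 * 89 + 1) := by norm_num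
        _ = v := by rw [hk23, pow_succ, mul_assoc, pow_mul, pow_orderOf_eq_one, one_pow, one_mul]
  refine ⟨(c, e), ?_, hC, h11⟩
  have hc : c ∣ cPart p := by
    refine Nat.Coprime.dvd_of_dvd_mul_right ?_
      ((cPart_spec p hp).1 ▸ (dvd_mul_right c e).trans hdvd)
    refine Nat.coprime_of_dvd fun q hq hqc hqB => ?_
    refine (cPart_spec p hp).2 q (cent_primes L hp hU hq ?_ (hC.cent ▸ hqc.mul_left p)) hqB
    rintro rfl
    refine (bigPrimes_dvd q hp).2 ?_
    rw [pow_two]
    refine (mul_dvd_mul_left q (hqc.trans ((dvd_mul_right c e).trans hdvd))).trans ?_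
    rw [Nat.mul_div_cancel' (bigPrimes_dvd q hp).1]
  have hp1 : 0 < p - 1 := by
    have := (bigPrimes_prime p hp).one_lt
    omega
  simp only [options, List.mem_flatMap, List.mem_map, List.mem_filter, List.mem_range, admissible,
    Bool.and_eq_true, beq_iff_eq]
  exact ⟨c, mem_cands hp hc, e, ⟨by have := Nat.le_of_dvd hp1 he; omega,
    Nat.mod_eq_zero_of_dvd he, ⟨Nat.mod_eq_zero_of_dvd hdvd, hmod⟩,
    Nat.mod_eq_zero_of_dvd h2⟩, rfl⟩

theorem counts_23 (U : Sylow 23 G) : Counts (U : Subgroup G) 23 1 22 := by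
  obtain ⟨o, ho, hC, h⟩ := mem_options L (by decide) U
  rwa [options_23 o ho (h rfl)] at hC

theorem not_commute_23_31 {u w : G} (hu : orderOf u = 23) (hw : orderOf w = 31)
    (hc : Commute u w) : False := by
  haveI := Fact.mk (show Nat.Prime 23 by norm_num)
  obtain ⟨U, hU⟩ := (IsPGroup.of_card (n := 1) (p := 23) (G := Subgroup.zpowers u)
    (by rw [Nat.card_zpowers, hu, pow_one])).exists_le_sylow
  have h23 := card_eq_of_bigPrime L.card_eq (by decide) U
  have hUe : (U : Subgroup G) = Subgroup.zpowers u :=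
    (Subgroup.eq_of_le_of_card_ge hU (by rw [Nat.card_zpowers, hu, h23])).symm
  have hwm : w ∈ Subgroup.centralizer ((U : Subgroup G) : Set G) := by
    rw [Subgroup.mem_centralizer_iff]
    intro v hv
    rw [hUe] at hv
    obtain ⟨k, rfl⟩ := Subgroup.mem_zpowers_iff.1 hv
    exact (hc.zpow_left k).eq
  have h := Subgroup.orderOf_dvd_natCard _ hwm
  rw [(counts_23 L U).cent, hw] at h
  norm_num at h

theorem counts_31 (U : Sylow 31 G) : Counts (U : Subgroup G) 31 1 10 := by
  obtain ⟨o, ho, hC, -⟩ := mem_options L (by decide) U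
  rwa [options_31 o ho ?_] at hC
  intro h
  haveI := Fact.mk (show Nat.Prime 23 by norm_num)
  obtain ⟨w, hw⟩ := exists_prime_orderOf_dvd_card' 23 (hC.cent ▸ h.mul_left 31)
  rw [← Subgroup.orderOf_coe] at hw
  have hU := card_eq_of_bigPrime L.card_eq (show 31 ∈ bigPrimes by decide) U
  haveI : Nontrivial (U : Subgroup G) :=
    Finite.one_lt_card_iff_nontrivial.1 (by rw [hU]; norm_num)
  obtain ⟨u, hu⟩ := exists_ne (1 : (U : Subgroup G))
  obtain ⟨-, hou⟩ := eq_zpowers (by norm_num) hU u.2 fun e => hu (Subtype.ext e)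
  exact not_commute_23_31 L hw hou ((Subgroup.mem_centralizer_iff.1 w.2) u u.2).symm

theorem counts_37 (U : Sylow 37 G) : Counts (U : Subgroup G) 37 1 12 := by
  obtain ⟨o, ho, hC, -⟩ := mem_options L (by decide) U
  rwa [options_37 o ho] at hC

/-- Subgroups of orders 29 and 43 do not centralise each other. -/
theorem not_commute_29_43 (U : Sylow 29 G) (W : Sylow 43 G)
    (h : (W : Subgroup G) ≤ Subgroup.centralizer ((U : Subgroup G) : Set G)) : False := by
  haveI : Fact (Nat.Prime 29) := ⟨by norm_num⟩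
  haveI : Fact (Nat.Prime 43) := ⟨by norm_num⟩
  have hU := card_eq_of_bigPrime L.card_eq (show 29 ∈ bigPrimes by decide) U
  have hW := card_eq_of_bigPrime L.card_eq (show 43 ∈ bigPrimes by decide) W
  have h' : (U : Subgroup G) ≤ Subgroup.centralizer ((W : Subgroup G) : Set G) :=
    Subgroup.le_centralizer_iff.1 h
  obtain ⟨o, ho, hC, -⟩ := mem_options L (show 29 ∈ bigPrimes by decide) U
  obtain ⟨o', ho', hC', -⟩ := mem_options L (show 43 ∈ bigPrimes by decide) W
  have d1 := Subgroup.card_dvd_of_le h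
  have d2 := Subgroup.card_dvd_of_le h'
  rw [hW, hC.cent] at d1
  rw [hU, hC'.cent] at d2
  rcases options_29 o ho with rfl | rfl
  · norm_num at d1
  rcases options_43 o' ho' with rfl | rfl
  · norm_num at d2
  -- the two centralisers are the same group, in which `U` is the only subgroup of order 29
  have hUself := le_cent_self hU
  have hWself := le_cent_self hW
  set K := (U : Subgroup G) ⊔ (W : Subgroup G) with hK
  have hKU : K ≤ Subgroup.centralizer ((U : Subgroup G) : Set G) := sup_le hUself h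
  have hKW : K ≤ Subgroup.centralizer ((W : Subgroup G) : Set G) := sup_le h' hWself
  have hKcard : 29 * 43 ≤ Nat.card K := by
    refine Nat.le_of_dvd Nat.card_pos (Nat.Coprime.mul_dvd_of_dvd_of_dvd (by norm_num) ?_ ?_)
    · exact hU ▸ Subgroup.card_dvd_of_le le_sup_left
    · exact hW ▸ Subgroup.card_dvd_of_le le_sup_right
  have e1 : K = Subgroup.centralizer ((U : Subgroup G) : Set G) :=
    Subgroup.eq_of_le_of_card_ge hKU (by rw [hC.cent]; exact hKcard)
  have e2 : K = Subgroup.centralizer ((W : Subgroup G) : Set G) :=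
    Subgroup.eq_of_le_of_card_ge hKW (by rw [hC'.cent]; norm_num at hKcard ⊢; omega)
  have hle : Subgroup.normalizer ((W : Subgroup G) : Set G) ≤
      Subgroup.normalizer ((U : Subgroup G) : Set G) := by
    intro a ha
    refine mem_norm fun v hv => ?_
    have hmem : a * v * a⁻¹ ∈ Subgroup.centralizer ((U : Subgroup G) : Set G) := by
      rw [← e1, e2, Subgroup.mem_centralizer_iff]
      intro w hw
      have hv' := Subgroup.mem_centralizer_iff.1 (h' hv) (a⁻¹ * w * a)
        (by have h0 := (Subgroup.mem_normalizer_iff.1 (inv_mem ha) w).1 hw; rw [inv_inv] at h0; exact h0)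
      calc w * (a * v * a⁻¹) = a * (a⁻¹ * w * a * v) * a⁻¹ := by group
        _ = a * (v * (a⁻¹ * w * a)) * a⁻¹ := by rw [hv']
        _ = a * v * a⁻¹ * w := by group
    have hnorm : a * v * a⁻¹ ∈ Subgroup.normalizer ((U : Subgroup G) : Set G) := by
      refine mem_norm fun x hx => ?_
      rw [← Subgroup.mem_centralizer_iff.1 hmem x hx, mul_inv_cancel_right]
      exact hx
    have hp : IsPGroup 29 (Subgroup.zpowers (a * v * a⁻¹)) := by
      have hv29 : orderOf v ∣ 29 := hU ▸ Subgroup.orderOf_dvd_natCard _ hv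
      rcases (Nat.dvd_prime (by norm_num)).1 hv29 with h1 | h1
      · refine IsPGroup.of_card (n := 0) ?_
        rw [Nat.card_zpowers, show a * v * a⁻¹ = MulAut.conj a v from rfl,
          MulEquiv.orderOf_eq, h1, pow_zero]
      · refine IsPGroup.of_card (n := 1) ?_
        rw [Nat.card_zpowers, show a * v * a⁻¹ = MulAut.conj a v from rfl,
          MulEquiv.orderOf_eq, h1, pow_one]
    have hin := hp.inf_normalizer_sylow U
    exact (hin.le ⟨Subgroup.mem_zpowers _, hnorm⟩).2
  have d3 := Subgroup.card_dvd_of_le hle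
  rw [hC'.norm, hC.norm] at d3
  norm_num at d3

theorem counts_29 (U : Sylow 29 G) : Counts (U : Subgroup G) 29 1 28 := by
  obtain ⟨o, ho, hC, -⟩ := mem_options L (by decide) U
  rcases options_29 o ho with rfl | rfl
  · exact hC
  haveI : Fact (Nat.Prime 43) := ⟨by norm_num⟩
  obtain ⟨w, hw⟩ := exists_prime_orderOf_dvd_card' 43 (hC.cent ▸ dvd_mul_left 43 29)
  rw [← Subgroup.orderOf_coe] at hw
  obtain ⟨W, hW⟩ := (IsPGroup.of_card (n := 1) (p := 43) (G := Subgroup.zpowers (w : G))
    (by rw [Nat.card_zpowers, hw, pow_one])).exists_le_sylow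
  have hWe : Subgroup.zpowers (w : G) = (W : Subgroup G) := Subgroup.eq_of_le_of_card_ge hW
    (by rw [Nat.card_zpowers, hw, card_eq_of_bigPrime L.card_eq (by decide) W])
  refine (not_commute_29_43 L U W ?_).elim
  rw [← hWe, Subgroup.zpowers_le]
  exact w.2

theorem counts_43 (W : Sylow 43 G) : Counts (W : Subgroup G) 43 1 14 := by
  obtain ⟨o, ho, hC, -⟩ := mem_options L (by decide) W
  rcases options_43 o ho with rfl | rfl
  · exact hC
  haveI : Fact (Nat.Prime 29) := ⟨by norm_num⟩
  obtain ⟨w, hw⟩ := exists_prime_orderOf_dvd_card' 29 (hC.cent ▸ dvd_mul_left 29 43)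
  rw [← Subgroup.orderOf_coe] at hw
  obtain ⟨U, hU⟩ := (IsPGroup.of_card (n := 1) (p := 29) (G := Subgroup.zpowers (w : G))
    (by rw [Nat.card_zpowers, hw, pow_one])).exists_le_sylow
  have hUe : Subgroup.zpowers (w : G) = (U : Subgroup G) := Subgroup.eq_of_le_of_card_ge hU
    (by rw [Nat.card_zpowers, hw, card_eq_of_bigPrime L.card_eq (by decide) U])
  refine (not_commute_29_43 L U W ?_).elim
  refine Subgroup.le_centralizer_iff.1 ?_
  rw [← hUe, Subgroup.zpowers_le]
  exact w.2

theorem counts_concl {p c : ℕ} (hp : p ∈ bigPrimes) (U : Sylow p G)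
    (h : Counts (U : Subgroup G) p 1 c) :
    Subgroup.centralizer ((U : Subgroup G) : Set G) = (U : Subgroup G) ∧
      Nat.card (Subgroup.normalizer ((U : Subgroup G) : Set G)) = p * c := by
  have hU := card_eq_of_bigPrime L.card_eq hp U
  haveI := Fact.mk (bigPrimes_prime p hp)
  exact ⟨(Subgroup.eq_of_le_of_card_ge (le_cent_self hU) (by rw [h.cent, hU, mul_one])).symm, by
    rw [h.norm, mul_one]⟩

end CfsgLib.JFourFacts
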