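import Cfsg.Agent.JFourFacts.ElevenAction
import Cfsg.Agent.JFourFacts.ElevenGL

/-!
# The Sylow 11-subgroups of a group of Janko-four type isomorphic to the presented group
-/

set_option autoImplicit false
set_option maxRecDepth 100000

namespace CfsgLib.JFourFacts

variable {G : Type*} [Group G] [Finite G]

theorem not_eleven_four (hcard : Nat.card G = 86775571046077562880) : ¬ 11 ^ 4 ∣ Nat.card G := by
  rw [hcard]
  norm_num

theorem exists_sylow_eq (E : Env G) (hcard : Nat.card G = 86775571046077562880) :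
    ∃ U : Sylow 11 G, (U : Subgroup G) = E.heis.sub := by
  haveI : Fact (Nat.Prime 11) := ⟨by norm_num⟩
  obtain ⟨U, hle⟩ := (IsPGroup.of_card E.heis.card_sub : IsPGroup 11 E.heis.sub).exists_le_sylow
  obtain ⟨m, hm⟩ := IsPGroup.iff_card.1 U.isPGroup'
  refine ⟨U, (Subgroup.eq_of_le_of_card_ge hle ?_).symm⟩
  rw [hm, E.heis.card_sub]
  refine Nat.pow_le_pow_right (by norm_num) ?_
  by_contra hlt
  exact not_eleven_four hcard ((pow_dvd_pow 11 (show 4 ≤ m by omega)).trans
    (hm ▸ Subgroup.card_subgroup_dvd_card _))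

/-- The conclusion for one Sylow subgroup. -/
def SylowElevenShape (U : Subgroup G) : Prop :=
  Cfsg.IsExtraspecial 11 ↥U ∧ Nat.card ↥U = 11 ^ 3 ∧ Monoid.exponent ↥U = 11 ∧
    Nat.card ↥(Subgroup.normalizer (U : Set G)) = 2 ^ 4 * 3 * 5 * 11 ^ 3 ∧
    ∃ K : Subgroup G, K ≤ Subgroup.normalizer (U : Set G) ∧ Nonempty (↥K ≃* GL (Fin 2) (ZMod 3))

theorem card_normalizer [IsSimpleGroup G] (E : Env G) (hG : ¬ IsMulCommutative G)
    (hJ : Cfsg.IsOfJankoFourType G) (hcard : Nat.card G = 86775571046077562880) :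
    Nat.card ↥(Subgroup.normalizer (E.heis.sub : Set G)) = 2 ^ 4 * 3 * 5 * 11 ^ 3 := by
  have h11 := not_eleven_four hcard
  refine Nat.dvd_antisymm ?_ ?_
  · have h1 := E.heis.card_normalizer_dvd fun x hy hb => E.eq_c_pow_of_commute hG hJ h11 hy hb
    have h2 := Subgroup.card_subgroup_dvd_card (Subgroup.normalizer (E.heis.sub : Set G))
    rw [hcard] at h2
    exact (Nat.dvd_gcd h1 h2).trans (dvd_of_eq (by decide +kernel))
  · have hU : 11 ^ 3 ∣ Nat.card ↥(Subgroup.normalizer (E.heis.sub : Set G)) := by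
      rw [← E.heis.card_sub]
      exact Subgroup.card_dvd_of_le Subgroup.le_normalizer
    have h48 : 48 ∣ Nat.card ↥(Subgroup.normalizer (E.heis.sub : Set G)) := by
      have hK : Nat.card E.glHom.range = 48 := by
        haveI : Fact (Nat.Prime 3) := ⟨Nat.prime_three⟩
        rw [← Nat.card_congr (MonoidHom.ofInjective E.glHom_injective).toEquiv, Matrix.card_GL_field,
          Fin.prod_univ_two]
        simp [ZMod.card]
      rw [← hK]
      exact Subgroup.card_dvd_of_le E.glHom_range_le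
    have h5 : 5 ∣ Nat.card ↥(Subgroup.normalizer (E.heis.sub : Set G)) := by
      haveI : Fact (Nat.Prime 5) := ⟨by norm_num⟩
      obtain ⟨hp, hne⟩ := E.m_rels
      rw [← orderOf_eq_prime hp hne, ← Nat.card_zpowers]
      exact Subgroup.card_dvd_of_le (Subgroup.zpowers_le.2
        (E.node_normalizer (20, [(4, 0, 0), (0, 4, 4), (0, 0, 5)]) (by simp [Env.actData_val])))
    rw [show 2 ^ 4 * 3 * 5 * 11 ^ 3 = 48 * 5 * 11 ^ 3 by norm_num]
    exact Nat.Coprime.mul_dvd_of_dvd_of_dvd (by norm_num)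
      (Nat.Coprime.mul_dvd_of_dvd_of_dvd (by norm_num) h48 h5) hU

theorem sylow_eleven_base [IsSimpleGroup G] (E : Env G) (hG : ¬ IsMulCommutative G)
    (hJ : Cfsg.IsOfJankoFourType G) (hcard : Nat.card G = 86775571046077562880) :
    SylowElevenShape E.heis.sub :=
  ⟨E.heis.isExtraspecial_sub, E.heis.card_sub, E.heis.exponent_sub, card_normalizer E hG hJ hcard,
    E.glHom.range, E.glHom_range_le, ⟨(MonoidHom.ofInjective E.glHom_injective).symm⟩⟩

/-- The shape is invariant under conjugation. -/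
theorem SylowElevenShape.conj {U : Subgroup G} (h : SylowElevenShape U) (g : G) :
    SylowElevenShape (U.map (MulAut.conj g).toMonoidHom) := by
  obtain ⟨h1, h2, h3, h4, K, hK, ⟨f⟩⟩ := h
  have e := U.equivMapOfInjective (MulAut.conj g).toMonoidHom (MulAut.conj g).injective
  have hN : Subgroup.normalizer ((U.map (MulAut.conj g).toMonoidHom : Subgroup G) : Set G) =
      (Subgroup.normalizer (U : Set G)).map (MulAut.conj g).toMonoidHom :=
    (Subgroup.map_equiv_normalizer_eq U (MulAut.conj g)).symm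
  refine ⟨CfsgLib.LargeExtraspecial.isExtraspecial_of_mulEquiv e h1,
    (Nat.card_congr e.toEquiv).symm.trans h2, ?_, ?_, K.map (MulAut.conj g).toMonoidHom, ?_,
    ⟨(K.equivMapOfInjective (MulAut.conj g).toMonoidHom (MulAut.conj g).injective).symm.trans f⟩⟩
  · rw [← Monoid.exponent_eq_of_mulEquiv e, h3]
  · rw [hN, Subgroup.card_map_of_injective (MulAut.conj g).injective, h4]
  · rw [hN]
    exact Subgroup.map_mono hK

/-- The Sylow 11-subgroups of a group of Janko-four type isomorphic to the presented group. -/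
theorem sylow_eleven_of_iso [IsSimpleGroup G] (hG : ¬ IsMulCommutative G)
    (hJ : Cfsg.IsOfJankoFourType G) (hI : Cfsg.Spor.IsoJ4 G)
    (hcard : Nat.card G = 86775571046077562880) (U : Sylow 11 G) :
    Cfsg.IsExtraspecial 11 ↥(U : Subgroup G) ∧ Nat.card ↥(U : Subgroup G) = 11 ^ 3 ∧
    Monoid.exponent ↥(U : Subgroup G) = 11 ∧
    Nat.card ↥(Subgroup.normalizer ((U : Subgroup G) : Set G)) = 2 ^ 4 * 3 * 5 * 11 ^ 3 ∧
    ∃ K : Subgroup G, K ≤ Subgroup.normalizer ((U : Subgroup G) : Set G) ∧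
      Nonempty (↥K ≃* GL (Fin 2) (ZMod 3)) := by
  haveI : Fact (Nat.Prime 11) := ⟨by norm_num⟩
  obtain ⟨E⟩ := env_of_iso hI
  obtain ⟨U0, hU0⟩ := exists_sylow_eq E hcard
  obtain ⟨g, rfl⟩ := MulAction.exists_smul_eq G U0 U
  have h := (sylow_eleven_base E hG hJ hcard).conj g
  rw [← hU0] at h
  rw [show ((g • U0 : Sylow 11 G) : Subgroup G) =
    (U0 : Subgroup G).map (MulAut.conj g).toMonoidHom from Sylow.coe_subgroup_smul ..]
  exact h

end CfsgLib.JFourFacts
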