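import Cfsg.Agent.JankoFour.Lower
import Cfsg.Agent.JFourFacts.SylowArith
import Cfsg.Agent.JFourFacts.SylowData

/-!
Elements of orders 23, 29, 31, 37 and 43 of the fourth Janko group with their fixed vectors in the
representation of degree 112, and the local facts they give in any isomorphic group.
-/

set_option autoImplicit false
set_option maxRecDepth 100000

namespace CfsgLib.JFourFacts

open CfsgLib.JankoFour CfsgLib.JankoFourRep Matrix

noncomputable section

local notation "J" => Cfsg.Spor.J4

/-- Row vectors. -/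
abbrev Vec : Type := Fin 112 → ZMod 2

section Fix

variable {G : Type*} [Group G] {n : ℕ} (ρ : G →* GL (Fin n) (ZMod 2))

local notation "VecN" => Fin n → ZMod 2

/-- The vectors fixed by an element. -/
def fixSet (g : G) : Set VecN := {v | Matrix.vecMul v (ρ g).val = v}

theorem act_mul (v : VecN) (g h : G) :
    Matrix.vecMul v (ρ (g * h)).val = Matrix.vecMul (Matrix.vecMul v (ρ g).val) (ρ h).val := by
  rw [map_mul, Units.val_mul, Matrix.vecMul_vecMul]

theorem act_one (v : VecN) : Matrix.vecMul v (ρ 1).val = v := by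
  rw [map_one, Units.val_one, Matrix.vecMul_one]

theorem mem_fixSet_pow {g : G} {v : VecN} (h : v ∈ fixSet ρ g) : ∀ n : ℕ, v ∈ fixSet ρ (g ^ n)
  | 0 => by rw [pow_zero]; exact act_one ρ v
  | n + 1 => by
    show Matrix.vecMul v (ρ (g ^ (n + 1))).val = v
    rw [pow_succ, act_mul, mem_fixSet_pow h n]
    exact h

theorem fixSet_pow_eq [Finite G] {g : G} {p k : ℕ} (hp : p.Prime) (ho : orderOf g = p)
    (hk : g ^ k ≠ 1) : fixSet ρ (g ^ k) = fixSet ρ g := by
  have hcop : Nat.Coprime k (orderOf g) := by
    rw [ho, Nat.coprime_comm, hp.coprime_iff_not_dvd]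
    intro h
    exact hk (orderOf_dvd_iff_pow_eq_one.1 (ho.symm ▸ h))
  obtain ⟨m, hm⟩ := exists_pow_eq_self_of_coprime hcop
  refine Set.Subset.antisymm (fun v hv => ?_) fun v hv => mem_fixSet_pow ρ hv k
  rw [← hm]
  exact mem_fixSet_pow ρ hv m

theorem fixSet_conj_ncard (a g : G) : (fixSet ρ (a * g * a⁻¹)).ncard = (fixSet ρ g).ncard := by
  have key : ∀ (a g : G) (v : VecN), v ∈ fixSet ρ g →
      Matrix.vecMul v (ρ a⁻¹).val ∈ fixSet ρ (a * g * a⁻¹) := by
    intro a g v hv
    show Matrix.vecMul (Matrix.vecMul v (ρ a⁻¹).val) (ρ (a * g * a⁻¹)).val = _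
    rw [← act_mul, show a⁻¹ * (a * g * a⁻¹) = g * a⁻¹ by group, act_mul]
    exact congrArg (Matrix.vecMul · _) hv
  have hinj : Function.Injective fun v : VecN => Matrix.vecMul v (ρ a⁻¹).val := by
    intro v w h
    have h2 := congrArg (fun v => Matrix.vecMul v (ρ a).val) h
    simp only [← act_mul, inv_mul_cancel, act_one] at h2
    exact h2
  rw [← Set.ncard_image_of_injective (fixSet ρ g) hinj]
  refine congrArg Set.ncard (Set.Subset.antisymm (fun w hw => ?_) ?_)
  · refine ⟨Matrix.vecMul w (ρ a).val, ?_, ?_⟩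
    · have := key a⁻¹ (a * g * a⁻¹) w hw
      rwa [inv_inv, show a⁻¹ * (a * g * a⁻¹) * a = g by group] at this
    · show Matrix.vecMul (Matrix.vecMul w (ρ a).val) (ρ a⁻¹).val = w
      rw [← act_mul, mul_inv_cancel, act_one]
  · rintro _ ⟨v, hv, rfl⟩
    exact key a g v hv

/-- An element of large prime order fixes the fixed vectors of an element it commutes with, if they
are fewer than its order. -/
theorem fixSet_subset {u w : G} (hc : Commute u w) {q : ℕ} (hq : q.Prime)
    (hw : orderOf w = q) (hlt : (fixSet ρ u).ncard < q) : fixSet ρ u ⊆ fixSet ρ w := by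
  intro v hv
  have hmem : ∀ n : ℕ, Matrix.vecMul v (ρ (w ^ n)).val ∈ fixSet ρ u := by
    intro n
    show Matrix.vecMul (Matrix.vecMul v (ρ (w ^ n)).val) (ρ u).val = _
    rw [← act_mul, ← (hc.pow_right n).eq, act_mul]
    exact congrArg (Matrix.vecMul · _) hv
  classical
  have hcard : Nat.card (fixSet ρ u) < Nat.card (Fin q) := by
    rw [Nat.card_fin, Nat.card_coe_set_eq]
    exact hlt
  have hninj : ¬ Function.Injective (fun n : Fin q => (⟨_, hmem n⟩ : fixSet ρ u)) :=
    fun h => absurd (Nat.card_le_card_of_injective _ h) (not_le.mpr hcard)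
  rw [Function.not_injective_iff] at hninj
  obtain ⟨i, j, hij, hne⟩ := hninj
  have hij' : Matrix.vecMul v (ρ (w ^ i.val)).val = Matrix.vecMul v (ρ (w ^ j.val)).val :=
    congrArg Subtype.val hij
  have main : ∀ i j : ℕ, i < j → j < q →
      Matrix.vecMul v (ρ (w ^ i)).val = Matrix.vecMul v (ρ (w ^ j)).val → v ∈ fixSet ρ w := by
    intro i j hlt hjq h
    have h1 : Matrix.vecMul v (ρ (w ^ (j - i))).val = v := by
      have h2 := congrArg (fun v => Matrix.vecMul v (ρ (w ^ i)⁻¹).val) h
      simp only [← act_mul, mul_inv_cancel, act_one] at h2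
      rwa [← pow_sub w hlt.le, eq_comm] at h2
    have hcop : Nat.Coprime (j - i) (orderOf w) := by
      rw [hw, Nat.coprime_comm, hq.coprime_iff_not_dvd]
      intro h
      have := Nat.le_of_dvd (by omega) h
      omega
    obtain ⟨m, hm⟩ := exists_pow_eq_self_of_coprime hcop
    rw [← hm]
    exact mem_fixSet_pow ρ h1 m
  rcases lt_or_gt_of_ne (fun h => hne (Fin.ext h)) with h | h
  · exact main _ _ h j.isLt hij'
  · exact main _ _ h i.isLt hij'.symm

end Fix

/-- The differences from the identity. -/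
def diffL (P : List ℕ) : List ℕ := (List.range 112).map fun i => P.getD i 0 ^^^ 2 ^ i

/-- The projection to the fixed vectors. -/
def projL (P B : List ℕ) : List ℕ :=
  (List.range 112).map fun i => 2 ^ i ^^^ (mulL (diffL P) B).getD i 0

/-- A list is the list of fixed vectors of a matrix. -/
def fixCheck (P B S : List ℕ) : Bool :=
  P.length == 112 && B.length == 112 && S.contains 0 && decide S.Nodup &&
    (S.all fun a => Nat.blt a (2 ^ 112) && Nat.beq (rowMul P a) a &&
      S.all fun b => S.contains (a ^^^ b)) &&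
    (projL P B).all fun a => S.contains a

theorem vecOf_xor (a b : ℕ) : vecOf (a ^^^ b) = vecOf a + vecOf b := funext fun j => bit_xor a b j.val

theorem toMat_row {L : List ℕ} (i j : Fin 112) : toMat L i j = bit (L.getD i.val 0) j.val := rfl

theorem getD_range_map (f : ℕ → ℕ) (i : Fin 112) :
    ((List.range 112).map f).getD i.val 0 = f i.val := by
  simp [List.getD_eq_getElem?_getD, List.getElem?_map, List.getElem?_range i.isLt]

theorem toMat_diffL (P : List ℕ) : toMat (diffL P) = toMat P + 1 := by
  ext i j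
  rw [Matrix.add_apply, toMat_row, toMat_row, diffL, getD_range_map, bit_xor]
  congr 1
  simp only [bit, Nat.testBit_two_pow, Matrix.one_apply, Fin.ext_iff]
  by_cases h : i.val = j.val <;> simp [h]

theorem toMat_projL {P B : List ℕ} (hB : B.length = 112) :
    toMat (projL P B) = 1 + (toMat P + 1) * toMat B := by
  rw [← toMat_diffL, ← toMat_mulL (by simp [diffL]) hB]
  ext i j
  rw [Matrix.add_apply, toMat_row, projL, getD_range_map, bit_xor, toMat_row]
  congr 1
  simp only [bit, Nat.testBit_two_pow, Matrix.one_apply, Fin.ext_iff]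
  by_cases h : i.val = j.val <;> simp [h]

theorem fixed_of_check {P B S : List ℕ} (h : fixCheck P B S = true) :
    {v : Vec | Matrix.vecMul v (toMat P) = v}.ncard = S.length := by
  classical
  simp only [fixCheck, Bool.and_eq_true, beq_iff_eq, List.all_eq_true, List.contains_iff_mem,
    decide_eq_true_eq, Nat.blt_eq] at h
  obtain ⟨⟨⟨⟨⟨hP, hB⟩, h0⟩, hnd⟩, hS⟩, hproj⟩ := h
  have hset : {v : Vec | Matrix.vecMul v (toMat P) = v} = vecOf '' {a | a ∈ S} := by
    refine Set.Subset.antisymm (fun v hv => ?_) ?_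
    · have hv2 : v + v = 0 := funext fun i => CharTwo.add_self_eq_zero _
      have hval : Matrix.vecMul v (toMat (projL P B)) = v := by
        rw [toMat_projL hB, Matrix.vecMul_add, Matrix.vecMul_one, ← Matrix.vecMul_vecMul,
          Matrix.vecMul_add, Matrix.vecMul_one, show Matrix.vecMul v (toMat P) = v from hv, hv2,
          Matrix.zero_vecMul, add_zero]
      have hsum : Matrix.vecMul v (toMat (projL P B)) =
          ∑ i : Fin 112, v i • vecOf ((projL P B).getD i.val 0) := by
        funext j
        simp only [Matrix.vecMul, dotProduct, Finset.sum_apply, Pi.smul_apply, smul_eq_mul]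
        rfl
      rw [← hval, hsum]
      refine Finset.sum_induction _ (fun w => w ∈ vecOf '' {a | a ∈ S}) ?_
        ⟨0, h0, funext fun j => bit_zero j.val⟩ ?_
      · rintro _ _ ⟨a, ha, rfl⟩ ⟨b, hb, rfl⟩
        exact ⟨a ^^^ b, (hS a ha).2 b hb, vecOf_xor a b⟩
      · intro i _
        have hc : ∀ c : ZMod 2, c = 0 ∨ c = 1 := by decide
        rcases hc (v i) with h | h
        · exact ⟨0, h0, by rw [h, zero_smul]; exact funext fun j => bit_zero j.val⟩
        · refine ⟨(projL P B).getD i.val 0, hproj _ ?_, by rw [h, one_smul]⟩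
          rw [List.getD_eq_getElem _ _ (by simp [projL])]
          exact List.getElem_mem _
    · rintro _ ⟨a, ha, rfl⟩
      show Matrix.vecMul (vecOf a) (toMat P) = vecOf a
      rw [← vecOf_rowMul hP, Nat.eq_of_beq_eq_true (hS a ha).1.2]
  rw [hset, Set.InjOn.ncard_image (s := {a | a ∈ S}) fun a ha b hb e => vecOf_inj (hS a ha).1.1 (hS b hb).1.1 e,
    show ({a | a ∈ S} : Set ℕ) = (S.toFinset : Set ℕ) by ext a; simp, Set.ncard_coe_finset,
    List.toFinset_card_of_nodup hnd]

/-- A word as an element of the presented group. -/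
def wordJ (w : List ℕ) : J := (w.map letL).prod

theorem rep_wordJ (w : List ℕ) : (rep (wordJ w)).val = (w.map fun c => toMat (rowsOf c)).prod := by
  rw [wordJ, map_list_prod, ← Units.coeHom_apply, map_list_prod, List.map_map, List.map_map]
  exact congrArg List.prod (List.map_congr_left fun a _ => rep_letL a)

theorem wordJ_append (v w : List ℕ) : wordJ (v ++ w) = wordJ v * wordJ w := by simp [wordJ]

/-- The number of fixed vectors of an element of large prime order. -/
def fixNum (p : ℕ) : ℕ := if p = 37 then 16 else if p = 29 ∨ p = 43 then 1 else 4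

/-- The first involution. -/
def wA (p : ℕ) : List ℕ :=
  if p = 23 then invA23 else if p = 29 then invA29 else if p = 31 then invA31
  else if p = 37 then invA37 else invA43

/-- The second involution. -/
def wB (p : ℕ) : List ℕ :=
  if p = 23 then invB23 else if p = 29 then invB29 else if p = 31 then invB31
  else if p = 37 then invB37 else invB43

/-- The matrix of their product. -/
def wP (p : ℕ) : List ℕ :=
  if p = 23 then rows23 else if p = 29 then rows29 else if p = 31 then rows31
  else if p = 37 then rows37 else rows43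

/-- The one sided inverse. -/
def wC (p : ℕ) : List ℕ :=
  if p = 23 then back23 else if p = 29 then back29 else if p = 31 then back31
  else if p = 37 then back37 else back43

/-- Its fixed vectors. -/
def wS (p : ℕ) : List ℕ :=
  if p = 23 then fixed23 else if p = 29 then fixed29 else if p = 31 then fixed31
  else if p = 37 then fixed37 else fixed43

/-- The letters and the matrix of the element. -/
def wTab (P : List ℕ) (c : ℕ) : List ℕ := bif Nat.blt c 4 then lowTab c else P

theorem wTab_good {P : List ℕ} (h : P.length = 112 ∧ ∀ a ∈ P, a < lane) : Good (wTab P) := by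
  intro c
  rw [wTab]
  cases Nat.blt c 4
  · exact h
  · exact lowTab_good c

/-- The checks for one prime. -/
def witnessOK (p : ℕ) : Bool :=
  (wP p).length == 112 && (wP p).all (fun a => Nat.blt a lane) &&
    (wA p ++ wB p).all (fun c => Nat.blt c 4) &&
    sameProd (wTab (wP p)) (wA p ++ wA p) [] && sameProd (wTab (wP p)) (wB p ++ wB p) [] &&
    sameProd (wTab (wP p)) (wA p ++ wB p) [4] &&
    sameProd (wTab (wP p)) (List.replicate p 4) [] &&
    fixCheck (wP p) (wC p) (wS p) && (wS p).length == fixNum p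

theorem witness23 : witnessOK 23 = true := by decide +kernel

theorem witness29 : witnessOK 29 = true := by decide +kernel

theorem witness31 : witnessOK 31 = true := by decide +kernel

theorem witness37 : witnessOK 37 = true := by decide +kernel

theorem witness43 : witnessOK 43 = true := by decide +kernel

/-- The inverse of a letter. -/
def invLet (c : ℕ) : ℕ := bif Nat.beq c 1 then 2 else bif Nat.beq c 2 then 1 else c

theorem norm_ok :
    sameProd lowTab ((normWord.map invLet).reverse ++ [0, 1] ++ normWord) [0, 1, 0, 1] = true ∧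
    (normWord.all fun c => Nat.blt c 4) = true ∧
    (Nat.beq (evalRow rowsOf [0, 1] 2) 2) = false ∧ evalRow rowsOf [0, 1] 2 < 2 ^ 112 := by
  decide +kernel

theorem prod_of_tab {P : List ℕ} (hP : P.length = 112 ∧ ∀ a ∈ P, a < lane) {v w : List ℕ}
    (hv : ∀ c ∈ v, c < 4) (h : sameProd (wTab P) v w = true) :
    (rep (wordJ v)).val = (w.map fun c => toMat (wTab P c)).prod := by
  rw [rep_wordJ, ← prod_eq_of_sameProd (wTab_good hP) h]
  refine congrArg List.prod (List.map_congr_left fun c hc => ?_)
  have := Nat.blt_eq.mpr (hv c hc)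
  simp [wTab, lowTab, this]

variable (hinj : Function.Injective rep)
include hinj

theorem eq_of_val {a b : J} (h : (rep a).val = (rep b).val) : a = b := hinj (Units.ext h)

/-- The element of order `p`. -/
theorem witness {p : ℕ} (hp : p ∈ bigPrimes) :
    ∃ u a : J, orderOf u = p ∧ a * u * a⁻¹ = u⁻¹ ∧ (fixSet rep u).ncard = fixNum p := by
  have hok : witnessOK p = true := by
    simp only [bigPrimes, List.mem_cons, List.not_mem_nil, or_false] at hp
    rcases hp with rfl | rfl | rfl | rfl | rfl
    exacts [witness23, witness29, witness31, witness37, witness43]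
  simp only [witnessOK, Bool.and_eq_true, beq_iff_eq, List.all_eq_true, Nat.blt_eq] at hok
  obtain ⟨⟨⟨⟨⟨⟨⟨⟨hPlen, hPlt⟩, hlt⟩, hA⟩, hB⟩, hM⟩, hpow⟩, hfix⟩, hlen⟩ := hok
  have hP : (wP p).length = 112 ∧ ∀ a ∈ wP p, a < lane := ⟨hPlen, hPlt⟩
  have hltA : ∀ c ∈ wA p, c < 4 := fun c hc => hlt c (List.mem_append_left _ hc)
  have hltB : ∀ c ∈ wB p, c < 4 := fun c hc => hlt c (List.mem_append_right _ hc)
  have hA2 : wordJ (wA p ++ wA p) = 1 := eq_of_val hinj (by
    rw [prod_of_tab hP (List.forall_mem_append.2 ⟨hltA, hltA⟩) hA]; simp)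
  have hB2 : wordJ (wB p ++ wB p) = 1 := eq_of_val hinj (by
    rw [prod_of_tab hP (List.forall_mem_append.2 ⟨hltB, hltB⟩) hB]; simp)
  rw [wordJ_append] at hA2 hB2
  have hval : (rep (wordJ (wA p ++ wB p))).val = toMat (wP p) := by
    rw [prod_of_tab hP hlt hM]; simp [wTab, show Nat.blt 4 4 = false from rfl]
  have hcard : (fixSet rep (wordJ (wA p ++ wB p))).ncard = fixNum p := by
    rw [← hlen, ← fixed_of_check hfix]
    simp only [fixSet, hval]
  have hpr : p.Prime := bigPrimes_prime p hp
  haveI := Fact.mk hpr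
  refine ⟨wordJ (wA p ++ wB p), wordJ (wA p), orderOf_eq_prime ?_ ?_, ?_, hcard⟩
  · refine eq_of_val hinj ?_
    have h := prod_eq_of_sameProd (wTab_good hP) hpow
    rw [List.map_replicate, List.prod_replicate, List.map_nil, List.prod_nil,
      show wTab (wP p) 4 = wP p by simp [wTab, show Nat.blt 4 4 = false from rfl]] at h
    rw [map_pow, Units.val_pow_eq_pow_val, hval, h, map_one, Units.val_one]
  · intro h
    rw [h] at hcard
    have huniv : fixSet rep (1 : J) = Set.univ := Set.eq_univ_of_forall fun v => act_one rep v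
    have hbig : 2 ^ 5 ≤ Nat.card (Fin 112 → ZMod 2) := by
      rw [show Nat.card (Fin 112 → ZMod 2) = 2 ^ 112 by rw [Nat.card_fun, Nat.card_fin, Nat.card_zmod]]
      exact Nat.pow_le_pow_right (by omega) (by omega)
    rw [huniv, Set.ncard_univ] at hcard
    have : fixNum p < 2 ^ 5 := by unfold fixNum; split_ifs <;> omega
    omega
  · rw [wordJ_append, _root_.mul_inv_rev, inv_eq_of_mul_eq_one_right hA2, inv_eq_of_mul_eq_one_right hB2,
      ← mul_assoc, hA2, one_mul]

/-- The element of order 23 and one inducing squaring on it. -/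
theorem witness_norm :
    ∃ u a : J, orderOf u = 23 ∧ a * u * a⁻¹ = u ^ 2 := by
  obtain ⟨h1, h3, h4, h5⟩ := norm_ok
  have hwinv : ∀ w : List ℕ, (∀ c ∈ w, c < 4) →
      wordJ ((w.map invLet).reverse) = (wordJ w)⁻¹ := by
    intro w
    induction w with
    | nil => intro _; simp [wordJ]
    | cons c w ih =>
      intro h
      rw [List.map_cons, List.reverse_cons, wordJ_append, ih fun d hd => h d (List.mem_cons_of_mem _ hd),
        show wordJ (c :: w) = letL c * wordJ w by simp [wordJ], _root_.mul_inv_rev]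
      refine congrArg ((wordJ w)⁻¹ * ·) ?_
      have hc := h c List.mem_cons_self
      have hx : xJ⁻¹ = xJ := inv_eq_of_mul_eq_one_right (by rw [← pow_two]; exact xJ_sq)
      have ht : tJ⁻¹ = tJ := inv_eq_of_mul_eq_one_right (by rw [← pow_two]; exact tJ_sq)
      interval_cases c <;> simp [wordJ, letL, show invLet 0 = 0 from rfl, show invLet 1 = 2 from rfl, show invLet 2 = 1 from rfl, show invLet 3 = 3 from rfl, hx, ht]
  have heq : (wordJ normWord)⁻¹ * wordJ [0, 1] * wordJ normWord = wordJ [0, 1, 0, 1] := by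
    rw [← hwinv normWord (fun c hc => by simpa using List.all_eq_true.1 h3 c hc), ← wordJ_append,
      ← wordJ_append]
    refine eq_of_val hinj ?_
    have h := prod_eq_of_sameProd lowTab_good h1
    have hlow : ∀ w : List ℕ, (∀ c ∈ w, c < 4) → (w.map fun c => toMat (lowTab c)) =
        w.map fun c => toMat (rowsOf c) := fun w hw => List.map_congr_left fun c hc => by
      simp [lowTab, Nat.blt_eq.mpr (hw c hc)]
    have h3' : ∀ c ∈ normWord, c < 4 := fun c hc => by simpa using List.all_eq_true.1 h3 c hc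
    rw [hlow, hlow] at h
    · rw [rep_wordJ, rep_wordJ, h]
    · decide
    · intro c hc
      simp only [List.mem_append, List.mem_reverse, List.mem_map, List.mem_cons, List.not_mem_nil,
        or_false] at hc
      rcases hc with (⟨d, hd, rfl⟩ | rfl | rfl) | hd
      · have := h3' d hd
        interval_cases d <;> decide
      · omega
      · omega
      · exact h3' c hd
  have h23 : Fact (Nat.Prime 23) := ⟨by norm_num⟩
  refine ⟨wordJ [0, 1], (wordJ normWord)⁻¹, orderOf_eq_prime ?_ ?_, ?_⟩
  · have h := rel_eq_one (w := (Cfsg.Spor.J4.x * Cfsg.Spor.J4.y) ^ 23) (by simp [Cfsg.Spor.J4.extra])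
    simp only [map_pow, map_mul] at h
    simpa [wordJ, letL, xJ, yJ] using h
  · intro e
    have hv : vecOf (evalRow rowsOf [0, 1] 2) = vecOf 2 := by
      rw [vecOf_evalRow rowsOf rowsOf_length, ← rep_wordJ, e, map_one, Units.val_one, Matrix.vecMul_one]
    rw [vecOf_inj h5 (by norm_num) hv] at h4
    exact absurd h4 (by decide)
  · rw [inv_inv, heq, pow_two, ← wordJ_append]
    rfl

/-- The local facts in a group isomorphic to the fourth Janko group. -/
theorem exists_local {G : Type*} [Group G] [Finite G] (e : G ≃* J) (hcard : Nat.card J = orderJ)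
    (hsmall : ∀ w : G, orderOf w ∈ [2, 3, 5, 7] → ∀ p ∈ bigPrimes,
      ¬ p ∣ Nat.card (Subgroup.centralizer ({w} : Set G))) : Nonempty (Local G) := by
  haveI : Finite J := Finite.of_equiv G e.toEquiv
  have hconj : ∀ {p : ℕ}, p ∈ bigPrimes → ∀ {u w : J}, orderOf u = p → orderOf w = p →
      ∃ a : J, ∃ k : ℕ, w = a * u ^ k * a⁻¹ ∧ u ^ k ≠ 1 := by
    intro p hp u w hu hw
    haveI := Fact.mk (bigPrimes_prime p hp)
    obtain ⟨U, hU⟩ := (IsPGroup.of_card (n := 1) (p := p) (G := Subgroup.zpowers u)
      (by rw [Nat.card_zpowers, hu, pow_one])).exists_le_sylow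
    obtain ⟨W, hW⟩ := (IsPGroup.of_card (n := 1) (p := p) (G := Subgroup.zpowers w)
      (by rw [Nat.card_zpowers, hw, pow_one])).exists_le_sylow
    have hUe : Subgroup.zpowers u = (U : Subgroup J) := Subgroup.eq_of_le_of_card_ge hU
      (by rw [Nat.card_zpowers, hu, card_eq_of_bigPrime hcard hp U])
    obtain ⟨a, ha⟩ := MulAction.exists_smul_eq J U W
    have hwW : w ∈ (W : Subgroup J) := hW (Subgroup.mem_zpowers w)
    rw [← ha, Sylow.coe_subgroup_smul, Subgroup.mem_pointwise_smul_iff_inv_smul_mem] at hwW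
    rw [← map_inv] at hwW
    change MulAut.conj a⁻¹ w ∈ (U : Subgroup J) at hwW
    rw [MulAut.conj_apply, inv_inv, ← hUe, ← mem_powers_iff_mem_zpowers] at hwW
    obtain ⟨k, hk⟩ := hwW
    refine ⟨a, k, ?_, fun h => ?_⟩
    · rw [show u ^ k = a⁻¹ * w * a from hk]
      group
    · have : w = 1 := by
        calc w = a * (a⁻¹ * w * a) * a⁻¹ := by group
          _ = 1 := by rw [show a⁻¹ * w * a = u ^ k from hk.symm, h]; group
      rw [this, orderOf_one] at hw
      exact (bigPrimes_prime p hp).ne_one hw.symm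
  have hnum : ∀ {p : ℕ}, p ∈ bigPrimes → ∀ {w : J}, orderOf w = p →
      (fixSet rep w).ncard = fixNum p := by
    intro p hp w hw
    obtain ⟨u, -, hu, -, hfix⟩ := witness hinj hp
    obtain ⟨a, k, rfl, hk⟩ := hconj hp hu hw
    rw [fixSet_conj_ncard, fixSet_pow_eq rep (bigPrimes_prime p hp) hu hk, hfix]
  have hgen : ∀ {p : ℕ}, p ∈ bigPrimes → ∀ U : Subgroup G, Nat.card U = p → ∀ (u0 b : J) (f : J → J),
      orderOf u0 = p → (∀ c x : J, f (c * x * c⁻¹) = c * f x * c⁻¹) →
      (∀ k : ℕ, b * u0 ^ k * b⁻¹ = f (u0 ^ k)) →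
      ∃ a : G, ∀ v ∈ U, e (a * v * a⁻¹) = f (e v) := by
    intro p hp U hU u0 b f hu0 hf hb
    haveI : Nontrivial U := Finite.one_lt_card_iff_nontrivial.1
      (hU.symm ▸ (bigPrimes_prime p hp).one_lt)
    obtain ⟨g, hg⟩ := exists_ne (1 : U)
    obtain ⟨hz, hog⟩ := eq_zpowers (bigPrimes_prime p hp) hU g.2 fun h => hg (Subtype.ext h)
    obtain ⟨c, k, hc, -⟩ := hconj hp hu0 (show orderOf (e g) = p by rw [MulEquiv.orderOf_eq, hog])
    refine ⟨e.symm (c * b * c⁻¹), fun v hv => ?_⟩
    rw [← hz, ← mem_powers_iff_mem_zpowers] at hv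
    obtain ⟨m, rfl⟩ := hv
    simp only [map_mul, map_inv, map_pow, MulEquiv.apply_symm_apply, hc]
    rw [conj_pow, ← pow_mul, hf, ← hb]
    group
  refine ⟨⟨(Nat.card_congr e.toEquiv).trans hcard, hsmall, fixNum, ?_, by decide, ?_, ?_⟩⟩
  · intro u w hu hw hlt hc
    have h1 := hnum hu (w := e u) (MulEquiv.orderOf_eq e u)
    have h2 := hnum hw (w := e w) (MulEquiv.orderOf_eq e w)
    rw [← h1, ← h2]
    refine Set.ncard_le_ncard (fixSet_subset rep (hc.map e.toMonoidHom) (bigPrimes_prime _ hw)
      (MulEquiv.orderOf_eq e w) ?_)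
    show (fixSet rep (e u)).ncard < orderOf w
    rw [h1]
    exact hlt
  · intro p hp U hU
    obtain ⟨u0, b, hu0, hb, -⟩ := witness hinj hp
    obtain ⟨a, ha⟩ := hgen hp U hU u0 b (fun x => x⁻¹) hu0
      (fun c x => by group) (fun k => by rw [← conj_pow, hb, inv_pow])
    exact ⟨a, fun v hv => e.injective (by rw [ha v hv, map_inv])⟩
  · intro U hU
    obtain ⟨u0, b, hu0, hb⟩ := witness_norm hinj
    obtain ⟨a, ha⟩ := hgen (show 23 ∈ bigPrimes by decide) U hU u0 b (fun x => x ^ 2) hu0
      (fun c x => by rw [conj_pow]) (fun k => by rw [← conj_pow, hb, ← pow_mul, ← pow_mul, mul_comm])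
    exact ⟨a, fun v hv => e.injective (by rw [ha v hv, map_pow])⟩

end

end CfsgLib.JFourFacts
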