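import Cfsg.Agent.JFourFacts.TenSylowCheck

/-! Kernel checks on the elementary abelian subgroup of order `2¹⁰`. -/

set_option autoImplicit false
set_option Elab.async false
set_option maxRecDepth 100000

namespace CfsgLib.JFourTen

open CfsgLib.JankoFourRep

/-- The part in the group of order `2¹¹`. -/
def wRows : List ℕ := [884, 1057, 712, 414, 1725, 621]

theorem aWords_ok :
    (∀ k < 4, baseWords.getD (10 + k) [] = baseWords.getD k []) ∧
      ∀ k < 6, baseWords.getD (14 + k) [] =
        ((List.range 11).filter fun i => (wRows.getD k 0).testBit i).map (4 + ·) := by
  decide +kernel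

theorem wRows_lt : ∀ a ∈ wRows, a < 2 ^ 11 := by decide +kernel

theorem oct_fixed : ((List.range 16).all fun b => wRows.all fun w => rowMul (sylMat b) w == w) = true := by
  decide +kernel

theorem wRows_indep : ((List.range 63).all fun h => !(rowMul wRows (h + 1) == 0)) = true := by
  decide +kernel

theorem octFix_eq : (((List.range 64).map (rowMul wRows)).all fun w => octFix.contains w) = true ∧
    (octFix.all fun w => ((List.range 64).map (rowMul wRows)).contains w) = true ∧
    octFix.length = 64 := by
  decide +kernel

end CfsgLib.JFourTen
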