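import Cfsg.Agent.JFourFacts.TenRel

/-! Kernel checks of relations among the elements of the extended alphabet. -/

set_option autoImplicit false
set_option Elab.async false

namespace CfsgLib.JFourTen

theorem relA_ok : ((relA).all fun e => eqOK e.1 e.2) = true := by decide +kernel

theorem relTop_ok : ((relTop).all fun e => eqOK e.1 e.2) = true := by decide +kernel

end CfsgLib.JFourTen
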