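import Cfsg.Agent.JFourFacts.TenSylow
import Cfsg.Agent.JFourFacts.TenRelA
import Cfsg.Agent.JFourFacts.TenAbelianCheck

/-!
# The elementary abelian subgroup of order `2¹⁰`
-/

set_option autoImplicit false

namespace CfsgLib.JFourTen

open CfsgLib.JankoFour CfsgLib.JankoFourRep

/-- The ten generators. -/
def aT (k : ℕ) : Cfsg.Spor.J4 := tE (25 + k)

/-- The element of a bit pattern. -/
def aval (v : ℕ) : Cfsg.Spor.J4 := pval aT 10 v

theorem aT_low {k : ℕ} (hk : k < 4) : aT k = gS k := by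
  rw [aT, gS, tE, tE, if_pos (by omega), if_pos (by omega), cE, cE, if_pos (by omega),
    if_pos (by omega), bE, bE, if_neg (by omega), if_neg (by omega), show 25 + k - 15 = 10 + k by omega,
    show 15 + k - 15 = k by omega, aWords_ok.1 k hk]

theorem aT_high {k : ℕ} (hk : k < 6) : aT (4 + k) = pval qf 11 (wRows.getD k 0) := by
  rw [aT, tE, if_pos (by omega), cE, if_pos (by omega), bE, if_neg (by omega),
    show 25 + (4 + k) - 15 = 14 + k by omega, aWords_ok.2 k hk, pval_eq_list, List.map_map]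
  refine congrArg List.prod (List.map_congr_left fun i hi => ?_)
  rw [List.mem_filter, List.mem_range] at hi
  exact (tE_low (show 4 + i < 15 by omega)).symm

theorem wRow_lt (k : ℕ) : wRows.getD k 0 < 2 ^ 11 := by
  by_cases h : k < wRows.length
  · rw [List.getD_eq_getElem?_getD, List.getElem?_eq_getElem h, Option.getD_some]
    exact wRows_lt _ (List.getElem_mem h)
  · rw [List.getD_eq_getElem?_getD, List.getElem?_eq_none (not_lt.1 h), Option.getD_none]
    positivity

theorem rowMul_wRows_fixed {b : ℕ} (hb : b < 16) {h : ℕ} (hh : h < 64) :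
    rowMul (sylMat b) (rowMul wRows h) = rowMul wRows h := by
  refine induction_two_pow (n := 6) (P := fun h => rowMul (sylMat b) (rowMul wRows h) = rowMul wRows h)
    (by rw [rowMul_zero, rowMul_zero]) (fun v i hi _ ih => ?_) h hh
  rw [rowMul_xor, rowMul_xor, ih, rowMul_single (L := wRows) hi]
  have := List.all_eq_true.1 (List.all_eq_true.1 oct_fixed b (List.mem_range.2 hb)) (wRows.getD i 0)
    (by rw [List.getD_eq_getElem?_getD, List.getElem?_eq_getElem (by exact hi), Option.getD_some]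
        exact List.getElem_mem _)
  rw [eq_of_beq this]

theorem octFix_mem {w : ℕ} : w ∈ octFix ↔ ∃ h, h < 64 ∧ rowMul wRows h = w := by
  constructor
  · intro hw
    have := List.all_eq_true.1 octFix_eq.2.1 w hw
    simpa [List.mem_map] using this
  · rintro ⟨h, hh, rfl⟩
    have := List.all_eq_true.1 octFix_eq.1 (rowMul wRows h)
      (List.mem_map.2 ⟨h, List.mem_range.2 hh, rfl⟩)
    simpa using this

theorem octFix_lt {w : ℕ} (hw : w ∈ octFix) : w < 2 ^ 11 := by
  obtain ⟨h, _, rfl⟩ := octFix_mem.1 hw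
  exact rowMul_lt wRows_lt h

variable (H : Hyp)
include H

theorem aInvols : Invols aT 10 := by
  have hc : ∀ j < 10, ∀ i < j, Commute (aT i) (aT j) := fun j hj i hi => by
    have := wT_eq_of_mem H relA_ok (v := [25 + i, 25 + j]) (w := [25 + j, 25 + i]) (by
      simp only [relA, List.mem_append, List.mem_flatMap, List.mem_map, List.mem_range]
      exact Or.inr ⟨j, hj, i, hi, rfl⟩)
    rw [wT_pair, wT_pair] at this
    exact this
  refine ⟨fun i hi => ?_, fun i hi j hj => ?_⟩
  · have := wT_eq_of_mem H relA_ok (v := [25 + i, 25 + i]) (w := []) (by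
      simp only [relA, List.mem_append, List.mem_map, List.mem_range]
      exact Or.inl ⟨i, hi, rfl⟩)
    rwa [wT_pair] at this
  · rcases lt_trichotomy i j with h | h | h
    · exact hc j hj i h
    · subst h; exact Commute.refl _
    · exact (hc i hi j h).symm

theorem sel_comm_wRows {b h : ℕ} (hb : b < 16) (hh : h < 64) :
    sel b * pval qf 11 (rowMul wRows h) = pval qf 11 (rowMul wRows h) * sel b := by
  have := (act_sel H b (by omega)).eq _ (rowMul_lt wRows_lt h)
  rw [rowMul_wRows_fixed hb hh, mul_assoc, inv_mul_eq_iff_eq_mul] at this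
  exact this.symm

theorem aval_decomp : ∀ v < 2 ^ 10,
    aval v = pval qf 11 (rowMul wRows (v / 16)) * sel (v % 16) := by
  refine induction_two_pow (by simp [aval, pval_zero, rowMul_zero, sel_zero]) fun v i hi hv ih => ?_
  have hv16 : v % 16 < 16 := Nat.mod_lt _ (by norm_num)
  rw [aval, pval_top hv hi, ← pval_of_lt (n := 10) v hv hi.le]
  change aval v * aT i = _
  rw [ih]
  rcases Nat.lt_or_ge i 4 with h4 | h4
  · have hlt : v < 16 := hv.trans_le (le_trans (Nat.pow_le_pow_right (by norm_num) h4.le) (by norm_num))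
    have hlt' : v ^^^ 2 ^ i < 16 :=
      Nat.xor_lt_two_pow (n := 4) hlt (Nat.pow_lt_pow_right (by norm_num) h4)
    rw [aT_low h4, Nat.div_eq_of_lt hlt, Nat.div_eq_of_lt hlt', Nat.mod_eq_of_lt hlt,
      Nat.mod_eq_of_lt hlt', mul_assoc, sel, sel, pval_top hv hi, pval_of_lt v hv hi.le]
  · obtain ⟨k, rfl⟩ := Nat.exists_eq_add_of_le h4
    have hk : k < 6 := by omega
    have e1 : (v ^^^ 2 ^ (4 + k)) % 16 = v % 16 := by
      refine Nat.eq_of_testBit_eq fun j => ?_
      rw [show (16 : ℕ) = 2 ^ 4 from rfl, Nat.testBit_mod_two_pow, Nat.testBit_mod_two_pow,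
        Nat.testBit_xor, Nat.testBit_two_pow]
      by_cases hj : j < 4
      · simp [hj, show ¬ (4 + k = j) by omega]
      · simp [hj]
    have e2 : (v ^^^ 2 ^ (4 + k)) / 16 = (v / 16) ^^^ 2 ^ k := by
      refine Nat.eq_of_testBit_eq fun j => ?_
      rw [show (16 : ℕ) = 2 ^ 4 from rfl, Nat.testBit_div_two_pow, Nat.testBit_xor, Nat.testBit_xor,
        Nat.testBit_div_two_pow, Nat.testBit_two_pow, Nat.testBit_two_pow]
      congr 1
      exact decide_eq_decide.2 (by omega)
    have hw := sel_comm_wRows H hv16 (show 2 ^ k < 64 from Nat.pow_lt_pow_right (by norm_num) hk (m := k) (n := 6))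
    rw [rowMul_single (L := wRows) hk] at hw
    rw [aT_high hk, e1, e2, rowMul_xor, rowMul_single (L := wRows) hk, (qInvols H).mul, mul_assoc,
      mul_assoc, hw]

theorem aInj : ∀ v < 2 ^ 10, aval v = 1 → v = 0 := by
  intro v hv e
  rw [aval_decomp H v hv] at e
  have := elem_unique H (rowMul_lt wRows_lt _) (show (0 : ℕ) < 2 ^ 11 by positivity)
    ((Nat.mod_lt v (by norm_num : 16 > 0)).trans (by norm_num)) (show (0 : ℕ) < 1024 by norm_num)
    (e.trans (by rw [pval_zero, sel_zero, one_mul]))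
  by_contra h0
  have hd : 0 < v / 16 := by omega
  have hd' : v / 16 < 64 := by omega
  have hf := List.all_eq_true.1 wRows_indep (v / 16 - 1) (List.mem_range.2 (by omega))
  rw [show v / 16 - 1 + 1 = v / 16 by omega, this.1] at hf
  simp at hf

/-- The elementary abelian subgroup of order `2¹⁰`. -/
def aGrp : Subgroup Cfsg.Spor.J4 := (aInvols H).grp

theorem mem_aGrp {x : Cfsg.Spor.J4} : x ∈ aGrp H ↔ ∃ v, v < 2 ^ 10 ∧ aval v = x := Iff.rfl

theorem card_aGrp : Nat.card (aGrp H) = 2 ^ 10 := (aInvols H).card_grp (aInj H)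

theorem aval_injOn {v w : ℕ} (hv : v < 2 ^ 10) (hw : w < 2 ^ 10) (e : aval v = aval w) : v = w :=
  (aInvols H).injOn (aInj H) hv hw e

theorem sylJ_of_aval {v : ℕ} (hv : v < 2 ^ 10) : aval v ∈ sylJ H :=
  (mem_sylJ H).2 ⟨_, rowMul_lt wRows_lt _, v % 16, by omega, aval_decomp H v hv⟩

theorem aGrp_le_sylJ : aGrp H ≤ sylJ H := by
  rintro _ ⟨v, hv, rfl⟩
  exact sylJ_of_aval H hv

theorem qval_mem_aGrp {w : ℕ} (hw : w ∈ octFix) : pval qf 11 w ∈ aGrp H := by
  obtain ⟨h, hh, rfl⟩ := octFix_mem.1 hw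
  refine (mem_aGrp H).2 ⟨16 * h, by omega, ?_⟩
  rw [aval_decomp H _ (by omega), Nat.mul_div_cancel_left _ (by norm_num), Nat.mul_mod_right,
    sel_zero, mul_one]

theorem sel_mem_aGrp {b : ℕ} (hb : b < 16) : sel b ∈ aGrp H := by
  refine (mem_aGrp H).2 ⟨b, by omega, ?_⟩
  rw [aval_decomp H b (by omega), Nat.div_eq_of_lt hb, rowMul_zero, pval_zero, one_mul,
    Nat.mod_eq_of_lt hb]

end CfsgLib.JFourTen
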