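import Cfsg.Agent.JFourFacts.TenLiftCheck

/-! Kernel check: the centraliser of the abelian subgroup in the Sylow subgroup. -/

set_option autoImplicit false
set_option Elab.async false
set_option maxRecDepth 100000

namespace CfsgLib.JFourTen

open CfsgLib.JankoFourRep

/-- Elements acting like the group fixing the octad. -/
theorem cent_ok : ((List.range 1024).all fun b => Nat.blt b 16 ||
    !((wRows.all fun w => Nat.beq (rowMul (sylMat b) w) w) &&
      ((List.range 4).all fun k => mulL (sylMat b) (oMat k) == mulL (oMat k) (sylMat b)))) = true := by
  decide +kernel

end CfsgLib.JFourTen
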