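import Cfsg.Agent.JFourFacts.TenSylowCheck
import Cfsg.Agent.JFourFacts.TenFixData

/-! Kernel checks on the involutions of the Sylow 2-subgroup of `M₂₄`. -/

set_option autoImplicit false
set_option Elab.async false
set_option maxRecDepth 100000

namespace CfsgLib.JFourTen

open CfsgLib.JankoFourRep

/-- The matrix of an involution. -/
def invMat (p : ℕ) : List ℕ := unpack (invMats.at8 p)

/-- The normal form of an involution. -/
def invIdx (p : ℕ) : ℕ := invIdxTree.at8 p

/-- Two involutions commute. -/
def commBit (p q : ℕ) : Bool := (commMask.at8 p).testBit q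

/-- The product of two commuting involutions. -/
def mulOf (p q : ℕ) : ℕ := Nat.land (Nat.shiftRight (mulTab.at8 p) (Nat.mul 8 q)) 255

theorem inv_table : ((List.range 191).all fun p => Nat.blt 0 (invIdx p) && (Nat.blt (invIdx p) 1024 &&
    (invMat p == sylMat (invIdx p)))) = true := by decide +kernel

theorem inv_complete : ((List.range 1023).all fun b =>
    !(mulL (sylMat (b + 1)) (sylMat (b + 1)) == idRows 11) || sylInv.contains (b + 1)) = true := by
  decide +kernel

theorem sylInv_nodup : sylInv.Nodup ∧ sylInv.length = 191 ∧ ∀ p < 191, sylInv.getD p 0 = invIdx p := by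
  decide +kernel

/-- The row of the tables for one involution. -/
def pairOK (p : ℕ) : Bool :=
  (List.range 191).all fun q =>
    bif Nat.beq p q then true else
      bif commBit p q then
        Nat.blt (mulOf p q) 191 && (mulL (invMat p) (invMat q) == invMat (mulOf p q))
      else !(mulL (invMat p) (invMat q) == mulL (invMat q) (invMat p))

/-- The dimension of the fixed vectors of an involution. -/
def fixDim (p : ℕ) : ℕ := (fixCert.getD p (0, 0, 0, 0)).1

/-- A basis of the fixed vectors. -/
def fixBasis (p : ℕ) : List ℕ := (unpack (fixCert.getD p (0, 0, 0, 0)).2.1).take (fixDim p)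

/-- Coordinates of the fixed part of each basis vector. -/
def fixCoef (p : ℕ) : List ℕ := unpack (fixCert.getD p (0, 0, 0, 0)).2.2.1

/-- A partial inverse of the difference with the identity. -/
def fixInv (p : ℕ) : List ℕ := unpack (fixCert.getD p (0, 0, 0, 0)).2.2.2

/-- The fixed vectors of an involution, from a basis. -/
def fixTop (p : ℕ) : List ℕ := (List.range (2 ^ fixDim p)).map (rowMul (fixBasis p))

theorem fix_table : ((List.range 191).all fun p =>
    let m := invMat p
    let c := fixCoef p
    let r := fixInv p
    let k := fixBasis p
    (c.all fun a => Nat.blt a (2 ^ fixDim p)) && (List.range 11).all fun i =>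
      Nat.beq (2 ^ i)
        (Nat.xor (rowMul k (c.getD i 0)) (rowMul r (Nat.xor (m.getD i 0) (2 ^ i))))) = true := by
  decide +kernel

/-- A node of the search: small count, or the group fixing an octad pointwise. -/
def okNode (span L : List ℕ) : Bool :=
  Nat.blt (L.length * (span.length + 1)) 1024 ||
    (Nat.beq span.length 15 && span.all fun p => Nat.blt (invIdx p) 16)

/-- Evaluate a list to numerals before passing it on. -/
def forceL {α : Type} : List ℕ → (List ℕ → α) → α
  | [], f => f []
  | a :: l, f => CosetEnum.force a fun a => forceL l fun l => f (a :: l)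

theorem forceL_eq {α : Type} : ∀ (l : List ℕ) (f : List ℕ → α), forceL l f = f l
  | [], f => rfl
  | a :: l, f => by rw [forceL, CosetEnum.force_eq, forceL_eq l]

/-- The vectors of a list fixed by an involution. -/
def fixL (p : ℕ) (L : List ℕ) : List ℕ :=
  forceL (invMat p) fun m => L.filter fun v => Nat.beq (rowMul m v) v

/-- The new elements when `p` is adjoined to a group. -/
def newEls (p : ℕ) (span : List ℕ) : List ℕ := p :: span.map (mulOf p)

/-- The remaining candidates when `p` is adjoined. -/
def nextCand (p : ℕ) (span cand : List ℕ) : List ℕ :=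
  CosetEnum.force (commMask.at8 p) fun c =>
    cand.filter fun q => Nat.blt p q && (c.testBit q &&
      CosetEnum.force (mulTab.at8 q) fun r =>
        (newEls p span).all fun e => Nat.blt q (Nat.land (Nat.shiftRight r (Nat.mul 8 e)) 255))

/-- The search through the elementary abelian subgroups. -/
def dfs : ℕ → List ℕ → List ℕ → List ℕ → Bool
  | 0, _, _, _ => false
  | fuel + 1, span, cand, L =>
    okNode span L && cand.all fun p =>
      forceL (newEls p span ++ span) fun s => forceL (nextCand p span cand) fun c =>
        forceL (fixL p L) fun l => dfs fuel s c l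

/-- The search below one involution. -/
def dfsFrom (p : ℕ) : Bool :=
  forceL (nextCand p [] (List.range 191)) fun c => forceL (fixTop p) fun l => dfs 8 [p] c l

end CfsgLib.JFourTen
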