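import Cfsg.Agent.JFourFacts.TenInvolCheck

/-! Kernel check: the search through elementary abelian subgroups below the involutions from 50 on. -/

set_option autoImplicit false
set_option Elab.async false
set_option maxRecDepth 100000

namespace CfsgLib.JFourTen

theorem search_ok5 : ((List.range 33).all fun i => dfsFrom (50 + i)) = true := by decide +kernel

end CfsgLib.JFourTen
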