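import Cfsg.Agent.JFourFacts.TenAbelian
import Cfsg.Agent.JFourFacts.TenInvolCheck
import Cfsg.Agent.JFourFacts.TenPairs0
import Cfsg.Agent.JFourFacts.TenPairs1
import Cfsg.Agent.JFourFacts.TenPairs2
import Cfsg.Agent.JFourFacts.TenPairs3
import Cfsg.Agent.JFourFacts.TenSearch0
import Cfsg.Agent.JFourFacts.TenSearch1
import Cfsg.Agent.JFourFacts.TenSearch2
import Cfsg.Agent.JFourFacts.TenSearch3
import Cfsg.Agent.JFourFacts.TenSearch4
import Cfsg.Agent.JFourFacts.TenSearch5
import Cfsg.Agent.JFourFacts.TenSearch6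
import Cfsg.Agent.JFourFacts.TenSearch7

/-!
# Elementary abelian subgroups of order `2¹⁰` of the Sylow subgroup: the image in `M₂₄`
-/

set_option autoImplicit false

namespace CfsgLib.JFourTen

open CfsgLib.JankoFour CfsgLib.JankoFourRep

/-- The element of an involution of the tables. -/
def fI (p : ℕ) : Cfsg.Spor.J4 := sel (invIdx p)

/-- The search ran below every involution. -/
theorem search_all {p : ℕ} (hp : p < 191) : dfsFrom p = true := by
  have h : ∀ a n, ((List.range n).all fun i => dfsFrom (a + i)) = true → a ≤ p → p < a + n →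
      dfsFrom p = true := fun a n hall h1 h2 => by
    have := List.all_eq_true.1 hall (p - a) (List.mem_range.2 (by omega))
    rwa [show a + (p - a) = p by omega] at this
  by_cases h1 : p < 5; · exact h 0 5 search_ok0 (by omega) (by omega)
  by_cases h2 : p < 11; · exact h 5 6 search_ok1 (by omega) (by omega)
  by_cases h3 : p < 13; · exact h 11 2 search_ok2 (by omega) (by omega)
  by_cases h4 : p < 33; · exact h 13 20 search_ok3 (by omega) (by omega)
  by_cases h5 : p < 50; · exact h 33 17 search_ok4 (by omega) (by omega)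
  by_cases h6 : p < 83; · exact h 50 33 search_ok5 (by omega) (by omega)
  by_cases h7 : p < 115; · exact h 83 32 search_ok6 (by omega) (by omega)
  exact h 115 76 search_ok7 (by omega) (by omega)

theorem pairs_all {p : ℕ} (hp : p < 191) : pairOK p = true := by
  have h : ∀ a n, ((List.range n).all fun i => pairOK (a + i)) = true → a ≤ p → p < a + n →
      pairOK p = true := fun a n hall h1 h2 => by
    have := List.all_eq_true.1 hall (p - a) (List.mem_range.2 (by omega))
    rwa [show a + (p - a) = p by omega] at this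
  by_cases h1 : p < 48
  · exact List.all_eq_true.1 pair_ok0 p (List.mem_range.2 h1) |> fun e => by simpa using e
  by_cases h2 : p < 96; · exact h 48 48 pair_ok1 (by omega) (by omega)
  by_cases h3 : p < 144; · exact h 96 48 pair_ok2 (by omega) (by omega)
  exact h 144 47 pair_ok3 (by omega) (by omega)

theorem invIdx_spec {p : ℕ} (hp : p < 191) :
    0 < invIdx p ∧ invIdx p < 1024 ∧ invMat p = sylMat (invIdx p) := by
  have := List.all_eq_true.1 inv_table p (List.mem_range.2 hp)
  simpa [Bool.and_eq_true, Nat.blt_eq, beq_iff_eq] using this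

theorem invIdx_inj {p q : ℕ} (hp : p < 191) (hq : q < 191) (e : invIdx p = invIdx q) : p = q := by
  rw [← sylInv_nodup.2.2 p hp, ← sylInv_nodup.2.2 q hq, List.getD_eq_getElem?_getD,
    List.getD_eq_getElem?_getD, List.getElem?_eq_getElem (sylInv_nodup.2.1.symm ▸ hp),
    List.getElem?_eq_getElem (sylInv_nodup.2.1.symm ▸ hq), Option.getD_some, Option.getD_some] at e
  exact sylInv_nodup.1.getElem_inj_iff.1 e

variable (H : Hyp)
include H

theorem fI_inj {p q : ℕ} (hp : p < 191) (hq : q < 191) (e : fI p = fI q) : p = q :=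
  invIdx_inj hp hq (sel_inj H (invIdx_spec hp).2.1 (invIdx_spec hq).2.1 e)

theorem fI_ne_one {p : ℕ} (hp : p < 191) : fI p ≠ 1 := fun e => by
  have := sel_inj H (invIdx_spec hp).2.1 (show (0 : ℕ) < 1024 by norm_num) (e.trans sel_zero.symm)
  exact (invIdx_spec hp).1.ne' this

theorem sel_mul_eq {b c d : ℕ} (hb : b < 1024) (hc : c < 1024) (hd : d < 1024)
    (e : mulL (sylMat b) (sylMat c) = sylMat d) : sel b * sel c = sel d := by
  obtain ⟨f, hf, ef⟩ := exists_sel H (mul_mem (sel_mem H hb) (sel_mem H hc))
  have h1 := (act_sel H b hb).mul (act_sel H c hc)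
  rw [← ef, e] at h1
  rw [← ef, sylMat_inj H hf hd (Act.unique (qInvols H) (qInj H) (act_sel H f hf) h1)]

/-- Facts on commuting involutions of the tables. -/
theorem fI_pair {p q : ℕ} (hp : p < 191) (hq : q < 191) (hne : p ≠ q) (hc : Commute (fI p) (fI q)) :
    commBit p q = true ∧ mulOf p q < 191 ∧ fI (mulOf p q) = fI p * fI q := by
  have h := List.all_eq_true.1 (pairs_all hp) q (List.mem_range.2 hq)
  have hn : Nat.beq p q = false := by
    rw [← Bool.not_eq_true]; exact fun e => hne (Nat.eq_of_beq_eq_true e)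
  rw [hn, cond_false] at h
  obtain ⟨-, hpl, hpm⟩ := invIdx_spec hp
  obtain ⟨-, hql, hqm⟩ := invIdx_spec hq
  cases hb : commBit p q
  · rw [hb, cond_false] at h
    have h1 := (act_sel H _ hpl).mul (act_sel H _ hql)
    have h2 := (act_sel H _ hql).mul (act_sel H _ hpl)
    rw [show sel (invIdx p) * sel (invIdx q) = sel (invIdx q) * sel (invIdx p) from hc] at h1
    have := Act.unique (qInvols H) (qInj H) h1 h2
    rw [hpm, hqm, this] at h
    simp at h
  · rw [hb, cond_true, Bool.and_eq_true, Nat.blt_eq, beq_iff_eq] at h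
    obtain ⟨hlt, he⟩ := h
    obtain ⟨-, hrl, hrm⟩ := invIdx_spec hlt
    rw [hpm, hqm, hrm] at he
    exact ⟨rfl, hlt, (sel_mul_eq H hpl hql hrl he).symm⟩

/-- A set of involutions closed under products, seen through the tables. -/
structure ElemSet (E : Finset ℕ) : Prop where
  lt : ∀ p ∈ E, p < 191
  comm : ∀ p ∈ E, ∀ q ∈ E, Commute (fI p) (fI q)
  mul : ∀ p ∈ E, ∀ q ∈ E, p ≠ q → mulOf p q ∈ E
  sq : ∀ p ∈ E, fI p * fI p = 1

omit H in
theorem mulOf_tree (p q : ℕ) :
    Nat.land (Nat.shiftRight (mulTab.at8 p) (Nat.mul 8 q)) 255 = mulOf p q := rfl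

/-- Being one, or the element of a member of the list. -/
def InSpan (span : List ℕ) (x : Cfsg.Spor.J4) : Prop := x = 1 ∨ ∃ e ∈ span, fI e = x

theorem dfs_sound {E : Finset ℕ} (hE : ElemSet E) {P : List ℕ} (hP : P.Nodup)
    (hPfix : ∀ v ∈ P, ∀ p ∈ E, rowMul (invMat p) v = v) :
    ∀ (fuel : ℕ) (span cand L : List ℕ), span.Nodup → (∀ e ∈ span, e ∈ E) →
      (∀ x y, InSpan span x → InSpan span y → InSpan span (x * y)) →
      (∀ q ∈ E, q ∉ span → (∀ e ∈ span, q < mulOf q e) → q ∈ cand) →
      (∀ v ∈ P, v ∈ L) → dfs fuel span cand L = true →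
      P.length * (E.card + 1) < 1024 ∨ (E.card = 15 ∧ ∀ p ∈ E, invIdx p < 16) := by
  intro fuel
  induction fuel with
  | zero => intro span cand L _ _ _ _ _ h; simp [dfs] at h
  | succ fuel ih =>
    intro span cand L hnd hsub hcl hcand hL h
    simp only [dfs, Bool.and_eq_true, List.all_eq_true, forceL_eq] at h
    obtain ⟨hok, hchild⟩ := h
    by_cases hfull : ∀ q ∈ E, q ∈ span
    · have hEq : E = span.toFinset :=
        Finset.ext fun q => ⟨fun hq => List.mem_toFinset.2 (hfull q hq),
          fun hq => hsub q (List.mem_toFinset.1 hq)⟩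
      have hc : E.card = span.length := by rw [hEq, List.toFinset_card_of_nodup hnd]
      simp only [okNode, Bool.or_eq_true, Bool.and_eq_true, Nat.blt_eq, List.all_eq_true] at hok
      rcases hok with h1 | ⟨h1, h2⟩
      · refine Or.inl (lt_of_le_of_lt (Nat.mul_le_mul ?_ ?_) h1)
        · exact (List.subperm_of_subset hP hL).length_le
        · rw [hc]
      · exact Or.inr ⟨hc.trans (Nat.eq_of_beq_eq_true h1), fun p hp => h2 p (hfull p hp)⟩
    · classical
      push Not at hfull
      have hne : (E.filter (· ∉ span)).Nonempty := by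
        obtain ⟨q, hq, hq'⟩ := hfull
        exact ⟨q, Finset.mem_filter.2 ⟨hq, hq'⟩⟩
      set p := (E.filter (· ∉ span)).min' hne
      obtain ⟨hpE, hps⟩ := Finset.mem_filter.1 ((E.filter (· ∉ span)).min'_mem hne)
      have hmin : ∀ q ∈ E, q ∉ span → p ≤ q := fun q hq hq' =>
        Finset.min'_le _ _ (Finset.mem_filter.2 ⟨hq, hq'⟩)
      have hpl := hE.lt p hpE
      have inv' : ∀ e ∈ span, fI e * fI e = 1 := fun e he => hE.sq e (hsub e he)
      have hout : ∀ q ∈ E, q ∉ span → ¬ InSpan span (fI q) := by
        rintro q hq hq' (e | ⟨e, he, ee⟩)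
        · exact fI_ne_one H (hE.lt q hq) e
        · exact hq' (fI_inj H (hE.lt e (hsub e he)) (hE.lt q hq) ee ▸ he)
      have hcoset : ∀ q ∈ E, q ∉ span → ∀ e ∈ span, mulOf q e ∈ E ∧ mulOf q e ∉ span ∧
          fI (mulOf q e) = fI q * fI e := by
        intro q hq hq' e he
        have hqe : q ≠ e := fun h => hq' (h ▸ he)
        obtain ⟨-, hr, hre⟩ := fI_pair H (hE.lt q hq) (hE.lt e (hsub e he)) hqe (hE.comm q hq e (hsub e he))
        refine ⟨hE.mul q hq e (hsub e he) hqe, fun hrs => hout q hq hq' ?_, hre⟩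
        have := hcl (fI (mulOf q e)) (fI e) (Or.inr ⟨_, hrs, rfl⟩) (Or.inr ⟨e, he, rfl⟩)
        rwa [hre, mul_assoc, inv' e he, mul_one] at this
      have hpc : p ∈ cand := hcand p hpE hps fun e he => by
        obtain ⟨h1, h2, h3⟩ := hcoset p hpE hps e he
        refine lt_of_le_of_ne (hmin _ h1 h2) fun heq => fI_ne_one H (hE.lt e (hsub e he)) ?_
        rw [← heq] at h3
        simpa using h3.symm
      have hnewE : ∀ e ∈ newEls p span, e ∈ E ∧ e ∉ span := by
        intro e he
        rcases List.mem_cons.1 he with rfl | he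
        · exact ⟨hpE, hps⟩
        · obtain ⟨a, ha, rfl⟩ := List.mem_map.1 he
          exact ⟨(hcoset p hpE hps a ha).1, (hcoset p hpE hps a ha).2.1⟩
      have hspan' : ∀ x, InSpan (newEls p span ++ span) x ↔
          InSpan span x ∨ InSpan span (fI p * x) := by
        intro x
        constructor
        · rintro (rfl | ⟨e, he, rfl⟩)
          · exact Or.inl (Or.inl rfl)
          · rcases List.mem_append.1 he with he | he
            · rcases List.mem_cons.1 he with rfl | he
              · exact Or.inr (Or.inl (hE.sq p hpE))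
              · obtain ⟨a, ha, rfl⟩ := List.mem_map.1 he
                refine Or.inr (Or.inr ⟨a, ha, ?_⟩)
                rw [(hcoset p hpE hps a ha).2.2, ← mul_assoc, hE.sq p hpE, one_mul]
            · exact Or.inl (Or.inr ⟨e, he, rfl⟩)
        · rintro ((rfl | ⟨e, he, rfl⟩) | (e1 | ⟨a, ha, ea⟩))
          · exact Or.inl rfl
          · exact Or.inr ⟨e, List.mem_append_right _ he, rfl⟩
          · refine Or.inr ⟨p, List.mem_append_left _ List.mem_cons_self, ?_⟩
            exact mul_left_cancel ((hE.sq p hpE).trans e1.symm)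
          · refine Or.inr ⟨mulOf p a, List.mem_append_left _ (List.mem_cons_of_mem _
              (List.mem_map.2 ⟨a, ha, rfl⟩)), ?_⟩
            rw [(hcoset p hpE hps a ha).2.2, ea, ← mul_assoc, hE.sq p hpE, one_mul]
      have hcomm : ∀ x, InSpan span x → Commute (fI p) x := by
        rintro x (rfl | ⟨e, he, rfl⟩)
        · exact Commute.one_right _
        · exact hE.comm p hpE e (hsub e he)
      refine ih (newEls p span ++ span) (nextCand p span cand) (fixL p L) ?_ ?_ ?_ ?_ ?_ (hchild p hpc)
      · refine List.nodup_append.2 ⟨?_, hnd, fun a ha b hb hab => (hnewE a ha).2 (hab ▸ hb)⟩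
        refine List.nodup_cons.2 ⟨fun hm => ?_, hnd.map_on fun a ha b hb e => ?_⟩
        · obtain ⟨a, ha, e⟩ := List.mem_map.1 hm
          have := (hcoset p hpE hps a ha).2.2
          rw [e] at this
          exact fI_ne_one H (hE.lt a (hsub a ha)) (by simpa using this.symm)
        · refine fI_inj H (hE.lt a (hsub a ha)) (hE.lt b (hsub b hb)) (mul_left_cancel (a := fI p) ?_)
          rw [← (hcoset p hpE hps a ha).2.2, ← (hcoset p hpE hps b hb).2.2, e]
      · intro e he
        rcases List.mem_append.1 he with he | he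
        · exact (hnewE e he).1
        · exact hsub e he
      · intro x y hx hy
        rw [hspan'] at hx hy ⊢
        rcases hx with hx | hx <;> rcases hy with hy | hy
        · exact Or.inl (hcl x y hx hy)
        · refine Or.inr ?_
          rw [show fI p * (x * y) = x * (fI p * y) by
            rw [← mul_assoc, ← mul_assoc, (hcomm x hx).eq]]
          exact hcl _ _ hx hy
        · exact Or.inr (by rw [← mul_assoc]; exact hcl _ _ hx hy)
        · refine Or.inl ?_
          have hc1 : Commute (fI p) x := by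
            have := hcomm _ hx
            have h2 := ((Commute.refl (fI p)).inv_right.mul_right this)
            simpa using h2
          have := hcl _ _ hx hy
          rwa [show fI p * x * (fI p * y) = x * y by
            rw [hc1.eq, mul_assoc, ← mul_assoc (fI p), hE.sq p hpE, one_mul]] at this
      · intro q hq hq' hqmin
        simp only [List.mem_append, not_or] at hq'
        have hqs := hq'.2
        have hqp : q ≠ p := fun h => hq'.1 (h ▸ List.mem_cons_self)
        have hlt : p < q := lt_of_le_of_ne (hmin q hq hqs) (Ne.symm hqp)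
        rw [nextCand, CosetEnum.force_eq, List.mem_filter]
        refine ⟨hcand q hq hqs fun e he => hqmin e (List.mem_append_right _ he), ?_⟩
        simp only [Bool.and_eq_true, Nat.blt_eq, List.all_eq_true, CosetEnum.force_eq, mulOf_tree]
        exact ⟨hlt, (fI_pair H hpl (hE.lt q hq) (Ne.symm hqp) (hE.comm p hpE q hq)).1,
          fun e he => hqmin e (List.mem_append_left _ he)⟩
      · intro v hv
        rw [fixL, forceL_eq, List.mem_filter]
        refine ⟨hL v hv, ?_⟩
        rw [hPfix v hv p hpE]
        exact Nat.beq_refl v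

omit H in
theorem mem_fixTop {p : ℕ} (hp : p < 191) {v : ℕ} (hv : v < 2 ^ 11) (hfix : rowMul (invMat p) v = v) :
    v ∈ fixTop p := by
  have h := List.all_eq_true.1 fix_table p (List.mem_range.2 hp)
  simp only [Bool.and_eq_true, List.all_eq_true, Nat.blt_eq, List.mem_range] at h
  obtain ⟨hc, hid⟩ := h
  set k := fixBasis p
  set c := fixCoef p
  set r := fixInv p
  set m := invMat p
  have hlen : c.length = 11 := by simp [c, fixCoef, unpack]
  have hlen' : m.length = 11 := by simp [m, invMat, unpack]
  have hall : ∀ v < 2 ^ 11, v = rowMul k (rowMul c v) ^^^ rowMul r (rowMul m v ^^^ v) := by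
    refine induction_two_pow (by simp [rowMul_zero]) fun w i hi _ ih => ?_
    have hi' := Nat.eq_of_beq_eq_true (hid i hi)
    change 2 ^ i = rowMul k (c.getD i 0) ^^^ rowMul r (m.getD i 0 ^^^ 2 ^ i) at hi'
    conv_lhs => rw [ih, hi']
    simp only [rowMul_xor, rowMul_single (L := c) (hlen ▸ hi), rowMul_single (L := m) (hlen' ▸ hi)]
    simp only [Nat.xor_assoc, Nat.xor_comm, Nat.xor_left_comm]
  have := hall v hv
  rw [hfix, Nat.xor_self, rowMul_zero, Nat.xor_zero] at this
  rw [fixTop, List.mem_map]
  exact ⟨rowMul c v, List.mem_range.2 (rowMul_lt hc v), this.symm⟩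

/-- The conclusion of the search. -/
theorem search_conclusion {E : Finset ℕ} (hE : ElemSet E) (hne : E.Nonempty) {P : List ℕ} (hP : P.Nodup)
    (hPlt : ∀ v ∈ P, v < 2 ^ 11) (hPfix : ∀ v ∈ P, ∀ p ∈ E, rowMul (invMat p) v = v) :
    P.length * (E.card + 1) < 1024 ∨ (E.card = 15 ∧ ∀ p ∈ E, invIdx p < 16) := by
  set p := E.min' hne
  have hpE := E.min'_mem hne
  have hpl := hE.lt p hpE
  have hd := search_all hpl
  rw [dfsFrom, forceL_eq, forceL_eq] at hd
  refine dfs_sound H hE hP hPfix 8 [p] (nextCand p [] (List.range 191)) (fixTop p)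
    (List.nodup_singleton p) (by simpa using hpE) ?_ ?_ ?_ hd
  · intro x y hx hy
    rcases hx with rfl | ⟨e, he, rfl⟩
    · rwa [one_mul]
    · rcases hy with rfl | ⟨f, hf, rfl⟩
      · exact Or.inr ⟨e, he, (mul_one _).symm⟩
      · rw [List.mem_singleton] at he hf
        subst he hf
        exact Or.inl (hE.sq p hpE)
  · intro q hq hq' hqmin
    rw [List.mem_singleton] at hq'
    have hlt : p < q := lt_of_le_of_ne (E.min'_le q hq) (Ne.symm hq')
    rw [nextCand, CosetEnum.force_eq, List.mem_filter]
    refine ⟨List.mem_range.2 (hE.lt q hq), ?_⟩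
    simp only [Bool.and_eq_true, Nat.blt_eq, List.all_eq_true, CosetEnum.force_eq, mulOf_tree]
    exact ⟨hlt, (fI_pair H hpl (hE.lt q hq) (Ne.symm hq') (hE.comm p hpE q hq)).1, fun e he => by
      simp only [newEls, List.map_nil, List.mem_singleton] at he
      exact hqmin e (List.mem_singleton.2 he)⟩
  · exact fun v hv => mem_fixTop hpl (hPlt v hv) (hPfix v hv p hpE)

end CfsgLib.JFourTen
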