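import Cfsg.Agent.JFourFacts.TenTable

/-! Kernel checks that the rows 15, ..., 19 agree with their words. -/

set_option autoImplicit false
set_option Elab.async false

namespace CfsgLib.JFourTen

theorem rowsOK_15 : rowsOK 15 1 = true := by decide +kernel

theorem rowsOK_16 : rowsOK 16 1 = true := by decide +kernel

theorem rowsOK_17 : rowsOK 17 1 = true := by decide +kernel

theorem rowsOK_18 : rowsOK 18 1 = true := by decide +kernel

theorem rowsOK_19 : rowsOK 19 1 = true := by decide +kernel

end CfsgLib.JFourTen
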