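import Cfsg.Agent.JFourFacts.TenTable

/-! Kernel checks that the rows 20, ..., 24 agree with their words. -/

set_option autoImplicit false
set_option Elab.async false

namespace CfsgLib.JFourTen

theorem rowsOK_20 : rowsOK 20 1 = true := by decide +kernel

theorem rowsOK_21 : rowsOK 21 1 = true := by decide +kernel

theorem rowsOK_22 : rowsOK 22 1 = true := by decide +kernel

theorem rowsOK_23 : rowsOK 23 1 = true := by decide +kernel

theorem rowsOK_24 : rowsOK 24 1 = true := by decide +kernel

end CfsgLib.JFourTen
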