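import Cfsg.Agent.JFourFacts.TenTable

/-! Kernel checks that the rows 25, ..., 34 agree with their words. -/

set_option autoImplicit false
set_option Elab.async false

namespace CfsgLib.JFourTen

theorem rowsOK_25 : rowsOK 25 1 = true := by decide +kernel

theorem rowsOK_26 : rowsOK 26 1 = true := by decide +kernel

theorem rowsOK_27 : rowsOK 27 1 = true := by decide +kernel

theorem rowsOK_28 : rowsOK 28 1 = true := by decide +kernel

theorem rowsOK_29 : rowsOK 29 1 = true := by decide +kernel

theorem rowsOK_30 : rowsOK 30 1 = true := by decide +kernel

theorem rowsOK_31 : rowsOK 31 1 = true := by decide +kernel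

theorem rowsOK_32 : rowsOK 32 1 = true := by decide +kernel

theorem rowsOK_33 : rowsOK 33 1 = true := by decide +kernel

theorem rowsOK_34 : rowsOK 34 1 = true := by decide +kernel

end CfsgLib.JFourTen
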