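import Cfsg.Agent.JFourFacts.TenTable

/-! Kernel checks that the rows 35, ..., 42 agree with their words. -/

set_option autoImplicit false
set_option Elab.async false

namespace CfsgLib.JFourTen

theorem rowsOK_35 : rowsOK 35 1 = true := by decide +kernel

theorem rowsOK_36 : rowsOK 36 1 = true := by decide +kernel

theorem rowsOK_37 : rowsOK 37 1 = true := by decide +kernel

theorem rowsOK_38 : rowsOK 38 1 = true := by decide +kernel

theorem rowsOK_39 : rowsOK 39 1 = true := by decide +kernel

theorem rowsOK_40 : rowsOK 40 1 = true := by decide +kernel

theorem rowsOK_41 : rowsOK 41 1 = true := by decide +kernel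

theorem rowsOK_42 : rowsOK 42 1 = true := by decide +kernel

end CfsgLib.JFourTen
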