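import Cfsg.Agent.JFourFacts.TenTable

/-! Kernel checks that the rows 43, ..., 53 agree with their words. -/

set_option autoImplicit false
set_option Elab.async false

namespace CfsgLib.JFourTen

theorem rowsOK_43 : rowsOK 43 1 = true := by decide +kernel

theorem rowsOK_44 : rowsOK 44 1 = true := by decide +kernel

theorem rowsOK_45 : rowsOK 45 1 = true := by decide +kernel

theorem rowsOK_46 : rowsOK 46 1 = true := by decide +kernel

theorem rowsOK_47 : rowsOK 47 1 = true := by decide +kernel

theorem rowsOK_48 : rowsOK 48 1 = true := by decide +kernel

theorem rowsOK_49 : rowsOK 49 1 = true := by decide +kernel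

theorem rowsOK_50 : rowsOK 50 1 = true := by decide +kernel

theorem rowsOK_51 : rowsOK 51 1 = true := by decide +kernel

theorem rowsOK_52 : rowsOK 52 1 = true := by decide +kernel

theorem rowsOK_53 : rowsOK 53 1 = true := by decide +kernel

end CfsgLib.JFourTen
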