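import Cfsg.Agent.JFourFacts.TenRel
import Cfsg.Agent.JFourFacts.TenRowsA
import Cfsg.Agent.JFourFacts.TenRowsB
import Cfsg.Agent.JFourFacts.TenRowsC
import Cfsg.Agent.JFourFacts.TenRowsD
import Cfsg.Agent.JFourFacts.TenRowsE

/-!
# The matrices of the elements of the extended alphabet
-/

set_option autoImplicit false

namespace CfsgLib.JFourTen

open CfsgLib.JankoFour CfsgLib.JankoFourRep Matrix

/-- What is used of the presented group: its order and the faithfulness of the representation. -/
structure Hyp : Prop where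
  card : Nat.card Cfsg.Spor.J4 = 86775571046077562880
  inj : Function.Injective CfsgLib.JankoFourRep.rep

theorem Hyp.finite (H : Hyp) : Finite Cfsg.Spor.J4 :=
  Nat.finite_of_card_ne_zero (by rw [H.card]; norm_num)

theorem tenTab_low {c : ℕ} (h : c < 15) : tenTab c = lowTab c := by
  rw [tenTab, show Nat.blt c 15 = true by simp [Nat.blt_eq, h], cond_true]

theorem rows_same {c : ℕ} (h : rowsOK c 1 = true) :
    toMat (tenTab c) = ((tenWord c).map fun a => toMat (tenTab a)).prod := by
  have h0 := List.all_eq_true.1 h 0 (List.mem_range.2 Nat.one_pos)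
  rw [add_zero] at h0
  simpa using prod_eq_of_sameProd tenTab_good h0

theorem words_lt :
    (∀ c < 20, ∀ a ∈ baseWords.getD c [], a < 15) ∧ (∀ c < 28, ∀ a ∈ baseWords.getD c [], a < 35) ∧
      ∀ c < 11, ∀ a ∈ topWords.getD c [], a < 43 := by
  decide +kernel

theorem rows_ok (c : ℕ) (h1 : 15 ≤ c) (h2 : c < 54) : rowsOK c 1 = true := by
  interval_cases c
  exacts [rowsOK_15, rowsOK_16, rowsOK_17, rowsOK_18, rowsOK_19, rowsOK_20, rowsOK_21, rowsOK_22,
    rowsOK_23, rowsOK_24, rowsOK_25, rowsOK_26, rowsOK_27, rowsOK_28, rowsOK_29, rowsOK_30,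
    rowsOK_31, rowsOK_32, rowsOK_33, rowsOK_34, rowsOK_35, rowsOK_36, rowsOK_37, rowsOK_38,
    rowsOK_39, rowsOK_40, rowsOK_41, rowsOK_42, rowsOK_43, rowsOK_44, rowsOK_45, rowsOK_46,
    rowsOK_47, rowsOK_48, rowsOK_49, rowsOK_50, rowsOK_51, rowsOK_52, rowsOK_53]

theorem rep_prod {E : ℕ → Cfsg.Spor.J4} {w : List ℕ}
    (h : ∀ a ∈ w, (rep (E a)).val = toMat (tenTab a)) :
    (rep ((w.map E).prod)).val = (w.map fun a => toMat (tenTab a)).prod := by
  rw [map_list_prod, ← Units.coeHom_apply, map_list_prod, List.map_map, List.map_map]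
  exact congrArg List.prod (List.map_congr_left fun a ha => h a ha)

theorem rep_bE {c : ℕ} (hc : c < 35) : (rep (bE c)).val = toMat (tenTab c) := by
  unfold bE
  split_ifs with h
  · rw [tenTab_low h]; exact rep_tabJ (by omega)
  · rw [rows_same (rows_ok c (by omega) (by omega)), tenWord,
      show Nat.blt c 43 = true by simp [Nat.blt_eq]; omega, cond_true]
    refine rep_prod fun a ha => ?_
    rw [tenTab_low (words_lt.1 _ (by omega) a ha)]
    exact rep_tabJ ((words_lt.1 _ (by omega) a ha).trans (by norm_num))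

theorem rep_cE {c : ℕ} (hc : c < 43) : (rep (cE c)).val = toMat (tenTab c) := by
  unfold cE
  split_ifs with h
  · exact rep_bE h
  · rw [rows_same (rows_ok c (by omega) (by omega)), tenWord,
      show Nat.blt c 43 = true by simp [Nat.blt_eq, hc], cond_true]
    exact rep_prod fun a ha => rep_bE (words_lt.2.1 _ (by omega) a ha)

theorem rep_tE {c : ℕ} (hc : c < 54) : (rep (tE c)).val = toMat (tenTab c) := by
  unfold tE
  split_ifs with h
  · exact rep_cE h
  · rw [rows_same (rows_ok c (by omega) hc), tenWord,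
      show Nat.blt c 43 = false by
        rw [← Bool.not_eq_true, Nat.blt_eq]; exact h, cond_false]
    exact rep_prod fun a ha => rep_cE (words_lt.2.2 _ (by omega) a ha)

theorem rep_wT {w : List ℕ} (hw : ∀ c ∈ w, c < 54) :
    (rep (wT w)).val = (w.map fun c => toMat (tenTab c)).prod :=
  rep_prod fun a ha => rep_tE (hw a ha)

variable (H : Hyp)
include H

theorem wT_eq {v w : List ℕ} (h : eqOK v w = true) : wT v = wT w := by
  simp only [eqOK, Bool.and_eq_true, List.all_eq_true, Nat.blt_eq] at h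
  refine H.inj (Units.ext ?_)
  rw [rep_wT h.1, rep_wT h.2.1]
  exact prod_eq_of_sameProd tenTab_good h.2.2

theorem wT_eq_of_mem {R : List (List ℕ × List ℕ)} (hR : (R.all fun e => eqOK e.1 e.2) = true)
    {v w : List ℕ} (h : (v, w) ∈ R) : wT v = wT w :=
  wT_eq H (List.all_eq_true.1 hR (v, w) h)

omit H

theorem wT_nil : wT [] = 1 := rfl

theorem wT_cons (c : ℕ) (w : List ℕ) : wT (c :: w) = tE c * wT w := by simp [wT]

theorem wT_append (v w : List ℕ) : wT (v ++ w) = wT v * wT w := by simp [wT]

theorem wT_single (c : ℕ) : wT [c] = tE c := by simp [wT]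

theorem wT_pair (c d : ℕ) : wT [c, d] = tE c * tE d := by simp [wT]

theorem wT_shift (off : ℕ) (w : List ℕ) : wT (w.map (off + ·)) = (w.map fun i => tE (off + i)).prod := by
  rw [wT, List.map_map]
  rfl

theorem tE_low {c : ℕ} (h : c < 15) : tE c = tabJ c := by
  rw [tE, if_pos (by omega), cE, if_pos (by omega), bE, if_pos h]

theorem tE_zero : tE 0 = xJ := by rw [tE_low (by norm_num), tabJ_zero]

theorem tE_one : tE 1 = yJ := by rw [tE_low (by norm_num), tabJ_one]

theorem tE_two : tE 2 = yJ⁻¹ := by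
  rw [tE_low (by norm_num)]
  show [yJ⁻¹].prod = yJ⁻¹
  simp

end CfsgLib.JFourTen
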