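import Cfsg.Agent.JFourFacts.TenInvolCheck
import Cfsg.Agent.JFourFacts.TenAbelianCheck

/-! Kernel checks on the lifts of the group fixing an octad pointwise. -/

set_option autoImplicit false
set_option Elab.async false
set_option maxRecDepth 100000

namespace CfsgLib.JFourTen

open CfsgLib.JankoFourRep

/-- The matrix of a basic element of the group fixing the octad. -/
def oMat (k : ℕ) : List ℕ := sylMat (2 ^ k)

/-- The image condition for one lift. -/
def sqCond (k v : ℕ) : Bool := Nat.beq (rowMul (oMat k) v) v

/-- The image condition for two lifts. -/
def cmCond (i j v w : ℕ) : Bool :=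
  Nat.beq (Nat.xor v (rowMul (oMat i) w)) (Nat.xor w (rowMul (oMat j) v))

/-- The coordinates of the conjugate subgroup. -/
def cShift (k : ℕ) : ℕ := Nat.xor shiftU (rowMul (oMat k) shiftU)

/-- The fixed vectors of the group fixing the octad, as a set of bits. -/
def octSet : ℕ := 0x10000000400000000001000000040008000000020000000000008000000020000020000000800200000008000000000004000000010000400000001000000000008000000020080000000200000000000100000004000010000000400000000040000000100000000004000000010002000000080000000000002000000080008000000020000000000800000002000100000004000000000000100000004000004000000010040000000100000000000200000008000020000000800000000000100000004001000000040000000000080000000200008000000020000000002000000080000000000200000008000400000001000000000000400000001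

/-- Membership in the set of fixed vectors. -/
def inOct (v : ℕ) : Bool := octSet.testBit v

/-- The bits of a coset. -/
def cosetBits (r : ℕ) : List ℕ → ℕ
  | [] => 0
  | w :: l => Nat.lor (2 ^ (Nat.xor r w)) (cosetBits r l)

theorem octSet_eq : cosetBits 0 octFix = octSet := by decide +kernel

theorem oct_index : invIdx 0 = 1 ∧ invIdx 1 = 2 ∧ invIdx 3 = 4 ∧ invIdx 7 = 8 := by decide +kernel

theorem fixTop_ok : ((fixTop 0).all fun v =>
    !(sqCond 1 v && (sqCond 2 v && sqCond 3 v)) || inOct v) = true := by decide +kernel

theorem reps_ok : cosetReps.foldr (fun r acc => Nat.lor (cosetBits r octFix) acc) 0 = 2 ^ 2048 - 1 ∧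
    (cosetReps.all fun r => Nat.blt r 2048) = true := by decide +kernel

theorem lifts_ok : (cosetReps.all fun a => !(sqCond 0 a) || (cosetReps.all fun b =>
    !(sqCond 1 b && cmCond 0 1 a b) || (cosetReps.all fun c =>
      !(sqCond 2 c && (cmCond 0 2 a c && cmCond 1 2 b c)) || (cosetReps.all fun d =>
        !(sqCond 3 d && (cmCond 0 3 a d && (cmCond 1 3 b d && cmCond 2 3 c d))) ||
          (inOct a && (inOct b && (inOct c && inOct d))) ||
          (inOct (Nat.xor a (cShift 0)) && (inOct (Nat.xor b (cShift 1)) &&
            (inOct (Nat.xor c (cShift 2)) && inOct (Nat.xor d (cShift 3))))))))) = true := by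
  decide +kernel

theorem shift_moves : ((List.range 4).any fun k => !inOct (cShift k)) = true := by decide +kernel

end CfsgLib.JFourTen
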