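import Cfsg.Agent.JankoFourRep.Bits
import Mathlib.GroupTheory.Index

/-!
# Products of commuting involutions indexed by bit patterns

`pval q n v` is the product of the `q i` with `i < n` in the bit pattern `v`.  When the `q i` are
commuting involutions it turns `^^^` into multiplication, and conjugation by an element acting on the
generators through a list of rows becomes `rowMul`.
-/

set_option autoImplicit false

namespace CfsgLib.JFourTen

open CfsgLib.JankoFourRep

/-- The product of the `q i`, `i < n`, in the bit pattern `v`. -/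
def pval {G : Type*} [Monoid G] (q : ℕ → G) : ℕ → ℕ → G
  | 0, _ => 1
  | n + 1, v => pval q n v * if v.testBit n then q n else 1

section Rows

theorem rowMulFrom_xor : ∀ (L : List ℕ) (x y k : ℕ),
    rowMulFrom L (x ^^^ y) k = rowMulFrom L x k ^^^ rowMulFrom L y k
  | [], _, _, _ => by simp [rowMulFrom]
  | a :: L, x, y, k => by
    simp only [rowMulFrom, rowMulFrom_xor L x y (k + 1), Nat.testBit_xor]
    cases x.testBit k <;> cases y.testBit k <;>
      simp [Nat.xor_assoc, Nat.xor_comm, Nat.xor_left_comm]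

theorem rowMul_xor (L : List ℕ) (x y : ℕ) : rowMul L (x ^^^ y) = rowMul L x ^^^ rowMul L y :=
  rowMulFrom_xor L x y 0

theorem rowMulFrom_zero : ∀ (L : List ℕ) (k : ℕ), rowMulFrom L 0 k = 0
  | [], _ => rfl
  | a :: L, k => by simp [rowMulFrom, rowMulFrom_zero L (k + 1)]

theorem rowMul_zero (L : List ℕ) : rowMul L 0 = 0 := rowMulFrom_zero L 0

theorem rowMulFrom_lt_pow {L : List ℕ} {n : ℕ} (h : ∀ a ∈ L, a < 2 ^ n) (r k : ℕ) :
    rowMulFrom L r k < 2 ^ n := by
  induction L generalizing k with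
  | nil => simp [rowMulFrom]
  | cons a L ih =>
    rw [rowMulFrom]
    have h' := ih (fun b hb => h b (List.mem_cons_of_mem _ hb)) (k + 1)
    cases r.testBit k
    · exact h'
    · exact Nat.xor_lt_two_pow (h a List.mem_cons_self) h'

theorem rowMul_lt {L : List ℕ} {n : ℕ} (h : ∀ a ∈ L, a < 2 ^ n) (r : ℕ) : rowMul L r < 2 ^ n :=
  rowMulFrom_lt_pow h r 0

theorem rowMulFrom_single : ∀ (L : List ℕ) (i k : ℕ), k ≤ i → i < k + L.length →
    rowMulFrom L (2 ^ i) k = L.getD (i - k) 0
  | [], i, k, h, h' => by simp at h'; omega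
  | a :: L, i, k, h, h' => by
    rw [rowMulFrom, Nat.testBit_two_pow]
    rcases h.eq_or_lt with rfl | hlt
    · have h0 : ∀ (L : List ℕ) (m : ℕ), k < m → rowMulFrom L (2 ^ k) m = 0 := by
        intro L
        induction L with
        | nil => intros; rfl
        | cons b L ih =>
          intro m hm
          rw [rowMulFrom, Nat.testBit_two_pow, decide_eq_false (by omega), cond_false]
          exact ih (m + 1) (by omega)
      simp [h0 L (k + 1) (by omega)]
    · rw [List.length_cons] at h'
      rw [decide_eq_false (by omega), cond_false, rowMulFrom_single L i (k + 1) hlt (by omega),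
        show i - k = i - (k + 1) + 1 by omega, List.getD_cons_succ]

theorem rowMul_single {L : List ℕ} {i : ℕ} (h : i < L.length) : rowMul L (2 ^ i) = L.getD i 0 := by
  simpa [rowMul] using rowMulFrom_single L i 0 (Nat.zero_le _) (by simpa using h)

theorem rowMulFrom_map (B : List ℕ) : ∀ (A : List ℕ) (r k : ℕ),
    rowMulFrom (A.map (rowMul B)) r k = rowMul B (rowMulFrom A r k)
  | [], _, _ => by simp [rowMulFrom, rowMul_zero]
  | a :: A, r, k => by
    simp only [List.map_cons, rowMulFrom, rowMulFrom_map B A r (k + 1)]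
    cases r.testBit k
    · rfl
    · exact (rowMul_xor _ _ _).symm

theorem rowMul_mulL (A B : List ℕ) (r : ℕ) : rowMul (mulL A B) r = rowMul B (rowMul A r) :=
  rowMulFrom_map B A r 0

/-- Induction over bit patterns below `2 ^ n`. -/
theorem induction_two_pow {n : ℕ} {P : ℕ → Prop} (h0 : P 0)
    (hs : ∀ v i, i < n → v < 2 ^ i → P v → P (v ^^^ 2 ^ i)) : ∀ v, v < 2 ^ n → P v := by
  suffices ∀ k, k ≤ n → ∀ v, v < 2 ^ k → P v from this n le_rfl
  intro k
  induction k with
  | zero => intro _ v hv; rwa [show v = 0 by simpa using hv]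
  | succ k ih =>
    intro hk v hv
    by_cases hb : v.testBit k
    · have hlt : v ^^^ 2 ^ k < 2 ^ k := by
        refine Nat.lt_pow_two_of_testBit _ fun j hj => ?_
        rw [Nat.testBit_xor, Nat.testBit_two_pow]
        rcases hj.eq_or_lt with rfl | hj'
        · simp [hb]
        · rw [Nat.testBit_eq_false_of_lt (hv.trans_le (Nat.pow_le_pow_right (by norm_num) hj'))]
          simp [hj'.ne]
      have := hs (v ^^^ 2 ^ k) k hk hlt (ih (by omega) _ hlt)
      rwa [Nat.xor_assoc, Nat.xor_self, Nat.xor_zero] at this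
    · refine ih (by omega) v (Nat.lt_pow_two_of_testBit _ fun j hj => ?_)
      rcases hj.eq_or_lt with rfl | hj'
      · simpa using hb
      · exact Nat.testBit_eq_false_of_lt (hv.trans_le (Nat.pow_le_pow_right (by norm_num) hj'))

theorem testBit_xor_pow {v i : ℕ} (hv : v < 2 ^ i) : (v ^^^ 2 ^ i).testBit i = true := by
  simp [Nat.testBit_eq_false_of_lt hv]

end Rows

section Mon

variable {G : Type*} [Monoid G] {q : ℕ → G}

theorem pval_zero (q : ℕ → G) : ∀ n, pval q n 0 = 1
  | 0 => rfl
  | n + 1 => by simp [pval, pval_zero q n]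

theorem pval_congr : ∀ (n : ℕ) {v w : ℕ}, (∀ i < n, v.testBit i = w.testBit i) →
    pval q n v = pval q n w
  | 0, _, _, _ => rfl
  | n + 1, v, w, h => by
    rw [pval, pval, pval_congr n fun i hi => h i (by omega), h n (by omega)]

theorem pval_of_lt {k : ℕ} : ∀ {n : ℕ} (v : ℕ), v < 2 ^ k → k ≤ n → pval q n v = pval q k v := by
  intro n
  induction n with
  | zero => intro v _ hk; rw [Nat.le_zero.1 hk]
  | succ n ih =>
    intro v hv hk
    rcases hk.eq_or_lt with rfl | hk'
    · rfl
    · rw [pval, ih v hv (by omega), Nat.testBit_eq_false_of_lt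
        (hv.trans_le (Nat.pow_le_pow_right (by norm_num) (by omega : k ≤ n)))]
      simp

theorem pval_top {n v : ℕ} (hv : v < 2 ^ n) {m : ℕ} (hm : n < m) :
    pval q m (v ^^^ 2 ^ n) = pval q n v * q n := by
  rw [pval_of_lt (k := n + 1) _ (Nat.xor_lt_two_pow (hv.trans (Nat.pow_lt_pow_right (by norm_num)
    (Nat.lt_succ_self n))) (Nat.pow_lt_pow_right (by norm_num) (Nat.lt_succ_self n))) hm, pval,
    testBit_xor_pow hv, if_pos rfl]
  congr 1
  exact pval_congr n fun i hi => by
    simp [Nat.ne_of_gt hi]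

theorem pval_single {n i : ℕ} (hi : i < n) : pval q n (2 ^ i) = q i := by
  simpa [pval_zero] using pval_top (q := q) (n := i) (v := 0) (by positivity) hi

theorem map_pval {H : Type*} [Monoid H] (f : G →* H) : ∀ (n v : ℕ),
    f (pval q n v) = pval (fun i => f (q i)) n v
  | 0, _ => map_one f
  | n + 1, v => by
    simp only [pval, map_mul, map_pval f n v]
    split_ifs <;> simp

theorem pval_eq_list (v : ℕ) : ∀ n : ℕ,
    pval q n v = (((List.range n).filter fun i => v.testBit i).map q).prod
  | 0 => rfl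
  | n + 1 => by
    rw [pval, pval_eq_list v n, List.range_succ, List.filter_append, List.map_append,
      List.prod_append]
    cases h : v.testBit n <;> simp [h]

end Mon

section Grp

variable {G : Type*} [Group G] {q : ℕ → G} {n : ℕ}

/-- The first `n` values are commuting involutions. -/
structure Invols (q : ℕ → G) (n : ℕ) : Prop where
  sq : ∀ i < n, q i * q i = 1
  comm : ∀ i < n, ∀ j < n, Commute (q i) (q j)

theorem Invols.mono (h : Invols q n) {k : ℕ} (hk : k ≤ n) : Invols q k :=
  ⟨fun i hi => h.sq i (hi.trans_le hk), fun i hi j hj => h.comm i (hi.trans_le hk) j (hj.trans_le hk)⟩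

theorem Invols.commute_pval (h : Invols q n) {i : ℕ} (hi : i < n) :
    ∀ k ≤ n, ∀ v, Commute (q i) (pval q k v) := by
  intro k
  induction k with
  | zero => intro _ v; exact Commute.one_right _
  | succ k ih =>
    intro hk v
    refine (ih (by omega) v).mul_right ?_
    split_ifs
    · exact h.comm i hi k hk
    · exact Commute.one_right _

theorem Invols.mul : ∀ {n : ℕ}, Invols q n → ∀ v w, pval q n (v ^^^ w) = pval q n v * pval q n w
  | 0, _, _, _ => (one_mul 1).symm
  | n + 1, h, v, w => by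
    have hc := fun x => h.commute_pval (Nat.lt_succ_self n) n (Nat.le_succ n) x
    simp only [pval, (h.mono (Nat.le_succ n)).mul, Nat.testBit_xor]
    cases hv : v.testBit n <;> cases hw : w.testBit n <;> simp
    · exact mul_assoc _ _ _
    · rw [mul_assoc, mul_assoc, (hc w).eq]
    · rw [mul_assoc (pval q n v) (q n), ← mul_assoc (q n), (hc w).eq, mul_assoc (pval q n w),
        h.sq n (Nat.lt_succ_self n), mul_one]

theorem Invols.sq_pval (h : Invols q n) (v : ℕ) : pval q n v * pval q n v = 1 := by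
  rw [← h.mul, Nat.xor_self, pval_zero]

theorem Invols.inv_pval (h : Invols q n) (v : ℕ) : (pval q n v)⁻¹ = pval q n v :=
  inv_eq_of_mul_eq_one_right (h.sq_pval v)

theorem Invols.comm_pval (h : Invols q n) (v w : ℕ) :
    pval q n v * pval q n w = pval q n w * pval q n v := by
  rw [← h.mul, ← h.mul, Nat.xor_comm]

/-- The subgroup of the values. -/
def Invols.grp (h : Invols q n) : Subgroup G where
  carrier := {g | ∃ v, v < 2 ^ n ∧ pval q n v = g}
  one_mem' := ⟨0, by positivity, pval_zero q n⟩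
  mul_mem' := by
    rintro _ _ ⟨v, hv, rfl⟩ ⟨w, hw, rfl⟩
    exact ⟨v ^^^ w, Nat.xor_lt_two_pow hv hw, h.mul v w⟩
  inv_mem' := by
    rintro _ ⟨v, hv, rfl⟩
    exact ⟨v, hv, (h.inv_pval v).symm⟩

theorem Invols.mem_grp (h : Invols q n) {g : G} : g ∈ h.grp ↔ ∃ v, v < 2 ^ n ∧ pval q n v = g :=
  Iff.rfl

theorem Invols.gen_mem (h : Invols q n) {i : ℕ} (hi : i < n) : q i ∈ h.grp :=
  ⟨2 ^ i, Nat.pow_lt_pow_right (by norm_num) hi, pval_single hi⟩

theorem Invols.elem (h : Invols q n) : ∀ a ∈ h.grp, ∀ b ∈ h.grp, a * b = b * a := by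
  rintro _ ⟨v, -, rfl⟩ _ ⟨w, -, rfl⟩
  exact h.comm_pval v w

theorem Invols.grp_sq (h : Invols q n) : ∀ a ∈ h.grp, a * a = 1 := by
  rintro _ ⟨v, -, rfl⟩
  exact h.sq_pval v

/-- The values are distinct as soon as only `0` gives the identity. -/
theorem Invols.injOn (h : Invols q n) (hinj : ∀ v < 2 ^ n, pval q n v = 1 → v = 0) {v w : ℕ}
    (hv : v < 2 ^ n) (hw : w < 2 ^ n) (e : pval q n v = pval q n w) : v = w :=
  Nat.xor_eq_zero_iff.1 (hinj _ (Nat.xor_lt_two_pow hv hw) (by rw [h.mul, e, h.sq_pval]))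

theorem Invols.card_grp (h : Invols q n) (hinj : ∀ v < 2 ^ n, pval q n v = 1 → v = 0) :
    Nat.card h.grp = 2 ^ n := by
  rw [Nat.card_congr (Equiv.ofBijective (fun v : Fin (2 ^ n) => (⟨pval q n v, v, v.isLt, rfl⟩ : h.grp))
    ⟨fun a b e => Fin.ext (h.injOn hinj a.isLt b.isLt (congrArg Subtype.val e)),
      fun ⟨_, v, hv, e⟩ => ⟨⟨v, hv⟩, Subtype.ext e⟩⟩).symm, Nat.card_fin]

/-- `g` acts on the values through the rows `M`: `g⁻¹ (pval v) g = pval (v M)`. -/
structure Act (q : ℕ → G) (n : ℕ) (g : G) (M : List ℕ) : Prop where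
  len : M.length = n
  lt : ∀ a ∈ M, a < 2 ^ n
  eq : ∀ v < 2 ^ n, g⁻¹ * pval q n v * g = pval q n (rowMul M v)

/-- It is enough to know the images of the generators. -/
theorem Act.of_gens (h : Invols q n) {g : G} {M : List ℕ} (hl : M.length = n)
    (hlt : ∀ a ∈ M, a < 2 ^ n) (hg : ∀ i < n, g⁻¹ * q i * g = pval q n (M.getD i 0)) :
    Act q n g M := by
  refine ⟨hl, hlt, induction_two_pow (by simp [pval_zero, rowMul_zero]) fun v i hi _ ih => ?_⟩
  rw [rowMul_xor, rowMul_single (hl.symm ▸ hi), h.mul, h.mul, pval_single hi, ← hg i hi, ← ih]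
  group

theorem Act.mul {g g' : G} {M M' : List ℕ} (a : Act q n g M) (a' : Act q n g' M') :
    Act q n (g * g') (mulL M M') := by
  refine ⟨by simp [mulL, a.len], fun r hr => ?_, fun v hv => ?_⟩
  · obtain ⟨s, -, rfl⟩ := List.mem_map.1 hr
    exact rowMul_lt a'.lt s
  · rw [rowMul_mulL, ← a'.eq _ (rowMul_lt a.lt v), ← a.eq v hv]
    group

theorem Act.pval_self (h : Invols q n) (v : ℕ) :
    Act q n (pval q n v) ((List.range n).map (2 ^ ·)) := by
  refine Act.of_gens h (by simp) (fun a ha => ?_) fun i hi => ?_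
  · obtain ⟨j, hj, rfl⟩ := List.mem_map.1 ha
    exact Nat.pow_lt_pow_right (by norm_num) (List.mem_range.1 hj)
  · rw [h.inv_pval, ← pval_single hi (q := q), h.comm_pval v, mul_assoc, h.sq_pval, mul_one,
      show ((List.range n).map (2 ^ ·)).getD i 0 = 2 ^ i by simp [List.getD_eq_getElem?_getD, hi]]

theorem Act.unique (h : Invols q n) (hinj : ∀ v < 2 ^ n, pval q n v = 1 → v = 0) {g : G}
    {M M' : List ℕ} (a : Act q n g M) (a' : Act q n g M') : M = M' := by
  refine List.ext_getElem (a.len.trans a'.len.symm) fun i h1 h2 => ?_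
  have hi : 2 ^ i < 2 ^ n := Nat.pow_lt_pow_right (by norm_num) (a.len ▸ h1)
  have e := h.injOn hinj (rowMul_lt a.lt _) (rowMul_lt a'.lt _) ((a.eq _ hi).symm.trans (a'.eq _ hi))
  rw [rowMul_single h1, rowMul_single h2] at e
  simpa [List.getD_eq_getElem?_getD, h1, h2] using e

theorem Act.map {H : Type*} [Group H] (f : G →* H) {g : G} {M : List ℕ} (a : Act q n g M) :
    Act (fun i => f (q i)) n (f g) M :=
  ⟨a.len, a.lt, fun v hv => by rw [← map_pval, ← map_pval, ← a.eq v hv, map_mul, map_mul, map_inv]⟩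

end Grp

end CfsgLib.JFourTen
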