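import Cfsg.Agent.JFourFacts.TenTable
import Cfsg.Agent.JFourFacts.TenVal
import Cfsg.Agent.JFourFacts.TenSmallData
import Cfsg.Agent.JFourFacts.TenSylowData

/-!
# The lists of relations among the elements of the extended alphabet
-/

set_option autoImplicit false

namespace CfsgLib.JFourTen

open CfsgLib.JankoFour CfsgLib.JankoFourRep

/-- The letters `off + i` for the bits `i < n` of `v`. -/
def bitsW (off n v : ℕ) : List ℕ := ((List.range n).filter fun i => v.testBit i).map (off + ·)

theorem wT_bitsW (off n v : ℕ) : wT (bitsW off n v) = pval (fun i => tE (off + i)) n v := by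
  rw [pval_eq_list, wT, bitsW, List.map_map]
  rfl

/-- Two words of the extended alphabet with the same matrix. -/
def eqOK (v w : List ℕ) : Bool :=
  v.all (Nat.blt · 54) && (w.all (Nat.blt · 54) && sameProd tenTab v w)

/-- The rows of `x` on the elementary abelian group of order `2¹¹`. -/
def matX : List ℕ := [2, 1, 8, 4, 64, 128, 16, 32, 512, 256, 1184]

/-- The rows of the inverse of `y`. -/
def matYI : List ℕ := [1, 16, 2, 256, 4, 8, 370, 134, 32, 1876, 512]

/-- The rows of `y`. -/
def matY : List ℕ := mulL matYI matYI

/-- The identity rows. -/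
def idRows (n : ℕ) : List ℕ := (List.range n).map (2 ^ ·)

/-- The rows of a letter among `x`, `y` and the inverse of `y`. -/
def letMat (c : ℕ) : List ℕ := bif Nat.beq c 0 then matX else bif Nat.beq c 1 then matY else matYI

/-- The rows of a word in `x` and `y`. -/
def wordMat : List ℕ → List ℕ
  | [] => idRows 11
  | c :: w => mulL (letMat c) (wordMat w)

/-- The pairs indexing the basis of the alternating square. -/
def pairs : List (ℕ × ℕ) :=
  [(0, 1), (0, 2), (0, 3), (0, 4), (1, 2), (1, 3), (1, 4), (2, 3), (2, 4), (3, 4)]

/-- A minor of a matrix of size five given by rows. -/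
def minorN (M : List ℕ) (p r : ℕ × ℕ) : Bool :=
  xor (((M.getD p.1 0).testBit r.1) && ((M.getD p.2 0).testBit r.2))
    (((M.getD p.1 0).testBit r.2) && ((M.getD p.2 0).testBit r.1))

/-- The bits of a function on the pairs. -/
def pairBits (f : ℕ × ℕ → Bool) : ℕ :=
  (List.range 10).foldl (fun acc j => bif f (pairs.getD j (0, 0)) then acc ^^^ 2 ^ j else acc) 0

/-- The alternating square of a matrix of size five given by rows. -/
def wlN (M : List ℕ) : List ℕ := pairs.map fun p => pairBits (minorN M p)

/-- Relations of the group of order `2¹¹` under `x` and `y`. -/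
def relQ : List (List ℕ × List ℕ) :=
  ((List.range 11).map fun i => ([0, 4 + i], bitsW 4 11 (matX.getD i 0) ++ [0])) ++
  ((List.range 11).map fun i => ([1, 4 + i], bitsW 4 11 (matYI.getD i 0) ++ [1]))

/-- The squares and conjugates of the generators of the Sylow subgroup. -/
def relSyl : List (List ℕ × List ℕ) :=
  ((List.range 10).map fun j => ([15 + j, 15 + j], (sqWords.getD j []).map (15 + ·))) ++
  ((List.range 10).flatMap fun j => (List.range j).map fun i =>
    ([15 + i, 15 + j], [15 + j] ++ ((cjWords.getD j []).getD i []).map (15 + ·)))

/-- The relations of the abelian subgroup. -/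
def relA : List (List ℕ × List ℕ) :=
  ((List.range 10).map fun j => ([25 + j, 25 + j], [])) ++
  ((List.range 10).flatMap fun j => (List.range j).map fun i => ([25 + i, 25 + j], [25 + j, 25 + i]))

/-- The action of the complement on the abelian subgroup. -/
def relB (k : ℕ) : List (List ℕ × List ℕ) :=
  (List.range 10).map fun j =>
    ([25 + j, 35 + k], [35 + k] ++ bitsW 25 10 ((wlN (gens5.getD k [])).getD j 0))

/-- Which of the two elements of order thirty-one is used for a generator. -/
def topOf (c : ℕ) : ℕ := bif c.testBit 1 then 44 else 43

/-- The generators of the complement as products of elements of order thirty-one. -/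
def relTop : List (List ℕ × List ℕ) :=
  (List.range 8).map fun c => ([topOf c, 45 + c], [35 + c])

/-- The elements of order dividing thirty-one. -/
def relOrd (m : ℕ) : List (List ℕ × List ℕ) := [(List.replicate 31 (43 + m), [])]

end CfsgLib.JFourTen
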