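import Cfsg.Agent.JFourFacts.TenRel

/-! Kernel checks of relations among the elements of the extended alphabet. -/

set_option autoImplicit false
set_option Elab.async false

namespace CfsgLib.JFourTen

theorem relB_0_ok : ((relB 0).all fun e => eqOK e.1 e.2) = true := by decide +kernel

theorem relB_1_ok : ((relB 1).all fun e => eqOK e.1 e.2) = true := by decide +kernel

theorem relB_2_ok : ((relB 2).all fun e => eqOK e.1 e.2) = true := by decide +kernel

theorem relB_3_ok : ((relB 3).all fun e => eqOK e.1 e.2) = true := by decide +kernel

theorem relB_4_ok : ((relB 4).all fun e => eqOK e.1 e.2) = true := by decide +kernel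

theorem relB_5_ok : ((relB 5).all fun e => eqOK e.1 e.2) = true := by decide +kernel

theorem relB_6_ok : ((relB 6).all fun e => eqOK e.1 e.2) = true := by decide +kernel

theorem relB_7_ok : ((relB 7).all fun e => eqOK e.1 e.2) = true := by decide +kernel

end CfsgLib.JFourTen
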