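import Cfsg.Agent.JFourFacts.TenRel

/-! Kernel checks of relations among the elements of the extended alphabet. -/

set_option autoImplicit false
set_option Elab.async false

namespace CfsgLib.JFourTen

theorem relOrd_0_ok : ((relOrd 0).all fun e => eqOK e.1 e.2) = true := by decide +kernel

theorem relOrd_1_ok : ((relOrd 1).all fun e => eqOK e.1 e.2) = true := by decide +kernel

theorem relOrd_2_ok : ((relOrd 2).all fun e => eqOK e.1 e.2) = true := by decide +kernel

theorem relOrd_3_ok : ((relOrd 3).all fun e => eqOK e.1 e.2) = true := by decide +kernel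

theorem relOrd_4_ok : ((relOrd 4).all fun e => eqOK e.1 e.2) = true := by decide +kernel

theorem relOrd_5_ok : ((relOrd 5).all fun e => eqOK e.1 e.2) = true := by decide +kernel

theorem relOrd_6_ok : ((relOrd 6).all fun e => eqOK e.1 e.2) = true := by decide +kernel

theorem relOrd_7_ok : ((relOrd 7).all fun e => eqOK e.1 e.2) = true := by decide +kernel

theorem relOrd_8_ok : ((relOrd 8).all fun e => eqOK e.1 e.2) = true := by decide +kernel

theorem relOrd_9_ok : ((relOrd 9).all fun e => eqOK e.1 e.2) = true := by decide +kernel

end CfsgLib.JFourTen
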