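import Cfsg.Agent.JFourFacts.TenClassify
import Cfsg.Agent.JFourFacts.TenLiftCheck
import Cfsg.Agent.JFourFacts.TenCentCheck

/-!
# Elementary abelian subgroups of order `2¹⁰` of the Sylow subgroup
-/

set_option autoImplicit false

namespace CfsgLib.JFourTen

open CfsgLib.JankoFour CfsgLib.JankoFourRep

attribute [local irreducible] pval sylMat invMat mulL rowMul fixTop

theorem testBit_cosetBits (r v : ℕ) : ∀ l : List ℕ,
    (cosetBits r l).testBit v = true ↔ ∃ w ∈ l, r ^^^ w = v
  | [] => by simp [cosetBits]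
  | w :: l => by
    show ((2 ^ (r ^^^ w)) ||| cosetBits r l).testBit v = true ↔ _
    rw [Nat.testBit_or, Bool.or_eq_true, testBit_cosetBits r v l, Nat.testBit_two_pow,
      decide_eq_true_iff]
    simp

theorem inOct_iff {v : ℕ} : inOct v = true ↔ v ∈ octFix := by
  rw [inOct, ← octSet_eq, testBit_cosetBits]
  simp

theorem testBit_cover (v : ℕ) : ∀ R : List ℕ,
    (R.foldr (fun r acc => Nat.lor (cosetBits r octFix) acc) 0).testBit v = true →
      ∃ r ∈ R, ∃ w ∈ octFix, r ^^^ w = v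
  | [] => by simp
  | r :: R => by
    intro h
    rw [List.foldr_cons] at h
    change ((cosetBits r octFix) ||| _).testBit v = true at h
    rw [Nat.testBit_or, Bool.or_eq_true] at h
    rcases h with h | h
    · exact ⟨r, List.mem_cons_self, (testBit_cosetBits r v octFix).1 h⟩
    · obtain ⟨r', hr', hw⟩ := testBit_cover v R h
      exact ⟨r', List.mem_cons_of_mem _ hr', hw⟩

theorem exists_rep {v : ℕ} (hv : v < 2048) :
    ∃ r ∈ cosetReps, r < 2 ^ 11 ∧ ∃ w ∈ octFix, r ^^^ w = v := by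
  obtain ⟨r, hr, hw⟩ := testBit_cover v cosetReps (by
    rw [reps_ok.1, Nat.testBit_two_pow_sub_one]; exact decide_eq_true hv)
  exact ⟨r, hr, by simpa [Nat.blt_eq] using List.all_eq_true.1 reps_ok.2 r hr, hw⟩

theorem sel_two_pow {k : ℕ} (hk : k < 4) : sel (2 ^ k) = gS k := pval_single (hk.trans (by norm_num))

variable (H : Hyp)
include H

theorem gS_sq {k : ℕ} (hk : k < 4) : gS k * gS k = 1 := by
  rw [← aT_low hk]; exact (aInvols H).sq k (by omega)

theorem gS_comm {i j : ℕ} (hi : i < 4) (hj : j < 4) : Commute (gS i) (gS j) := by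
  rw [← aT_low hi, ← aT_low hj]; exact (aInvols H).comm i (by omega) j (by omega)

theorem oMat_conj {k : ℕ} (hk : k < 4) {v : ℕ} (hv : v < 2 ^ 11) :
    gS k * pval qf 11 v * gS k = pval qf 11 (rowMul (oMat k) v) ∧ rowMul (oMat k) v < 2 ^ 11 := by
  have hb : 2 ^ k < 1024 := Nat.pow_lt_pow_right (m := k) (n := 10) (by norm_num) (by omega)
  have a := act_sel H _ hb
  refine ⟨?_, rowMul_lt a.lt v⟩
  have := a.eq v hv
  rw [sel_two_pow hk, inv_eq_of_mul_eq_one_right (gS_sq H hk)] at this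
  exact this

theorem sel_of_mul {v w u b c d : ℕ} (hb : b < 1024) (hc : c < 1024) (hd : d < 1024)
    (e : pval qf 11 v * sel b * (pval qf 11 w * sel c) = pval qf 11 u * sel d) :
    sel b * sel c = sel d :=
  sel_mul_eq H hb hc hd (Act.unique (qInvols H) (qInj H) ((act_elem H hb).mul (act_elem H hc))
    (by rw [e]; exact act_elem H hd))

theorem exists_invIdx {b : ℕ} (hb : b < 1024) (h0 : b ≠ 0) (h2 : sel b * sel b = 1) :
    ∃ p, p < 191 ∧ invIdx p = b := by
  have h1 := (act_sel H b hb).mul (act_sel H b hb)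
  rw [h2] at h1
  have e := Act.unique (qInvols H) (qInj H) h1 (act_one H)
  have h := List.all_eq_true.1 inv_complete (b - 1) (List.mem_range.2 (by omega))
  rw [show b - 1 + 1 = b by omega, e] at h
  have hm : b ∈ sylInv := by simpa using h
  obtain ⟨p, hp, hpe⟩ := List.getElem_of_mem hm
  have hp' : p < 191 := sylInv_nodup.2.1 ▸ hp
  refine ⟨p, hp', ?_⟩
  rw [← sylInv_nodup.2.2 p hp', List.getD_eq_getElem?_getD, List.getElem?_eq_getElem hp,
    Option.getD_some, hpe]

theorem aGrp_closure {A : Subgroup Cfsg.Spor.J4} (h : ∀ k < 10, aT k ∈ A) : aGrp H ≤ A := by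
  rintro _ ⟨v, -, rfl⟩
  rw [pval_eq_list]
  refine list_prod_mem fun x hx => ?_
  obtain ⟨i, hi, rfl⟩ := List.mem_map.1 hx
  exact h i (List.mem_range.1 (List.mem_filter.1 hi).1)

omit H in
theorem oct_two_pow {k : ℕ} (hk : k < 6) : wRows.getD k 0 ∈ octFix :=
  octFix_mem.2 ⟨2 ^ k, Nat.pow_lt_pow_right (n := 6) (by norm_num) hk, rowMul_single (L := wRows) hk⟩

/-- The twisting element. -/
def shiftElt : Cfsg.Spor.J4 := pval qf 11 shiftU

omit H in
theorem shiftU_lt : shiftU < 2 ^ 11 := by decide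

/-- An elementary abelian subgroup of order `2¹⁰` of the Sylow subgroup which is not in the group of
order `2¹¹` is one of two conjugate subgroups. -/
theorem classify {A : Subgroup Cfsg.Spor.J4} (hle : A ≤ sylJ H) (hcard : Nat.card A = 2 ^ 10)
    (h2 : ∀ a ∈ A, a * a = 1) (hc : ∀ a ∈ A, ∀ b ∈ A, a * b = b * a)
    (hV : ¬ A ≤ (qInvols H).grp) :
    A = aGrp H ∨ A = (aGrp H).map (MulAut.conj shiftElt).toMonoidHom := by
  classical
  have := H.finite
  let E : Finset ℕ :=
    (Finset.range 191).filter fun p => ∃ v, v < 2 ^ 11 ∧ pval qf 11 v * fI p ∈ A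
  let P : List ℕ := (List.range 2048).filter fun v => decide (pval qf 11 v ∈ A)
  have hP : ∀ v, v ∈ P ↔ v < 2 ^ 11 ∧ pval qf 11 v ∈ A := fun v => by simp [P]
  have hEm : ∀ p, p ∈ E ↔ p < 191 ∧ ∃ v, v < 2 ^ 11 ∧ pval qf 11 v * fI p ∈ A := fun p => by
    simp [E]
  have hsel2 : ∀ v b, b < 1024 → pval qf 11 v * sel b ∈ A → sel b * sel b = 1 := fun v b hb hm => by
    have := sel_of_mul H (v := v) (w := v) (u := 0) hb hb (show (0 : ℕ) < 1024 by norm_num)
      (by rw [h2 _ hm, pval_zero, sel_zero, one_mul])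
    rwa [sel_zero] at this
  have hpart : ∀ x ∈ A, ∃ v, v < 2 ^ 11 ∧ (x = pval qf 11 v ∨ ∃ p ∈ E, x = pval qf 11 v * fI p) := by
    intro x hx
    obtain ⟨v, hv, b, hb, rfl⟩ := (mem_sylJ H).1 (hle hx)
    by_cases h0 : b = 0
    · subst h0; exact ⟨v, hv, Or.inl (by rw [sel_zero, mul_one])⟩
    · obtain ⟨p, hp, rfl⟩ := exists_invIdx H hb h0 (hsel2 v b hb hx)
      exact ⟨v, hv, Or.inr ⟨p, (hEm p).2 ⟨hp, v, hv, hx⟩, rfl⟩⟩
  have hE : ElemSet E := by
    refine ⟨fun p hp => ((hEm p).1 hp).1, ?_, ?_, ?_⟩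
    · intro p hp q hq
      obtain ⟨hpl, v, hv, hx⟩ := (hEm p).1 hp
      obtain ⟨hql, w, hw, hy⟩ := (hEm q).1 hq
      obtain ⟨u, hu, d, hd, hxy⟩ := (mem_sylJ H).1 (hle (mul_mem hx hy))
      exact (sel_of_mul H (invIdx_spec hpl).2.1 (invIdx_spec hql).2.1 hd hxy).trans
        (sel_of_mul H (invIdx_spec hql).2.1 (invIdx_spec hpl).2.1 hd ((hc _ hy _ hx).trans hxy)).symm
    · intro p hp q hq hne
      obtain ⟨hpl, v, hv, hx⟩ := (hEm p).1 hp
      obtain ⟨hql, w, hw, hy⟩ := (hEm q).1 hq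
      obtain ⟨u, hu, d, hd, hxy⟩ := (mem_sylJ H).1 (hle (mul_mem hx hy))
      have e := sel_of_mul H (invIdx_spec hpl).2.1 (invIdx_spec hql).2.1 hd hxy
      have hcomm : Commute (fI p) (fI q) := e.trans (sel_of_mul H (invIdx_spec hql).2.1
        (invIdx_spec hpl).2.1 hd ((hc _ hy _ hx).trans hxy)).symm
      obtain ⟨-, hr, hre⟩ := fI_pair H hpl hql hne hcomm
      have hd' : invIdx (mulOf p q) = d := sel_inj H (invIdx_spec hr).2.1 hd (hre.trans e)
      refine (hEm _).2 ⟨hr, u, hu, ?_⟩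
      rw [fI, hd', ← hxy]
      exact mul_mem hx hy
    · intro p hp
      obtain ⟨hpl, v, hv, hx⟩ := (hEm p).1 hp
      exact hsel2 v _ (invIdx_spec hpl).2.1 hx
  have hEne : E.Nonempty := by
    by_contra hne
    refine hV fun x hx => ?_
    obtain ⟨v, hv, rfl | ⟨p, hp, -⟩⟩ := hpart x hx
    · exact ⟨v, hv, rfl⟩
    · exact absurd ⟨p, hp⟩ hne
  have hPfix : ∀ v ∈ P, ∀ p ∈ E, rowMul (invMat p) v = v := by
    intro v hv p hp
    obtain ⟨hv', hvA⟩ := (hP v).1 hv
    obtain ⟨hpl, w, hw, hx⟩ := (hEm p).1 hp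
    have a : Act qf 11 (pval qf 11 w * fI p) (invMat p) := by
      rw [(invIdx_spec hpl).2.2]; exact act_elem H (invIdx_spec hpl).2.1
    refine (qInvols H).injOn (qInj H) (rowMul_lt a.lt v) hv' ?_
    rw [← a.eq v hv', mul_assoc _ (pval qf 11 v), hc _ hvA _ hx, inv_mul_cancel_left]
  have hPnd : P.Nodup := List.nodup_range.filter _
  have hw : ∀ p : E, ∃ w, w < 2 ^ 11 ∧ pval qf 11 w * fI p.1 ∈ A := fun p => ((hEm p.1).1 p.2).2
  choose sec hsec1 hsec2 using hw
  let g : Fin P.length × Option E → A := fun z =>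
    ⟨pval qf 11 P[z.1.1] * z.2.elim 1 fun p => pval qf 11 (sec p) * fI p.1,
      mul_mem ((hP _).1 (List.getElem_mem z.1.2)).2 (by
        cases z.2 with
        | none => exact one_mem _
        | some p => exact hsec2 p)⟩
  have hcount : 2 ^ 10 ≤ P.length * (E.card + 1) := by
    have hs : Function.Surjective g := by
      rintro ⟨x, hx⟩
      obtain ⟨v, hv, rfl | ⟨p, hp, rfl⟩⟩ := hpart x hx
      · obtain ⟨i, hi, e⟩ := List.getElem_of_mem ((hP v).2 ⟨hv, hx⟩)
        exact ⟨(⟨i, hi⟩, none), Subtype.ext (by simp [g, e])⟩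
      · have hm : pval qf 11 (v ^^^ sec ⟨p, hp⟩) ∈ A := by
          have := mul_mem hx (inv_mem (hsec2 ⟨p, hp⟩))
          rwa [mul_inv_rev, (qInvols H).inv_pval, show pval qf 11 v * fI p * ((fI p)⁻¹ *
            pval qf 11 (sec ⟨p, hp⟩)) = pval qf 11 v * pval qf 11 (sec ⟨p, hp⟩) by group,
            ← (qInvols H).mul] at this
        obtain ⟨i, hi, e⟩ := List.getElem_of_mem
          ((hP _).2 ⟨Nat.xor_lt_two_pow hv (hsec1 ⟨p, hp⟩), hm⟩)
        refine ⟨(⟨i, hi⟩, some ⟨p, hp⟩), Subtype.ext ?_⟩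
        simp only [g, e, Option.elim_some]
        rw [← mul_assoc, ← (qInvols H).mul, Nat.xor_assoc, Nat.xor_self, Nat.xor_zero]
    have := Nat.card_le_card_of_surjective g hs
    rw [hcard, Nat.card_prod, Nat.card_fin, Finite.card_option, Nat.card_eq_finsetCard] at this
    exact this
  obtain h | ⟨hcard15, hsmall⟩ := search_conclusion H hE hEne hPnd (fun v hv => ((hP v).1 hv).1) hPfix
  · omega
  have himg : E.image invIdx = Finset.Icc 1 15 := by
    refine Finset.eq_of_subset_of_card_le (fun b hb => ?_) ?_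
    · obtain ⟨p, hp, rfl⟩ := Finset.mem_image.1 hb
      have := hsmall p hp
      have := (invIdx_spec (hE.lt p hp)).1
      exact Finset.mem_Icc.2 ⟨by omega, by omega⟩
    · rw [Finset.card_image_of_injOn fun p hp q hq e => invIdx_inj (hE.lt p hp) (hE.lt q hq) e,
        hcard15]
      simp
  have hidx : ∀ k < 4, ∃ p ∈ E, invIdx p = 2 ^ k := fun k hk => by
    refine Finset.mem_image.1 ?_
    rw [himg, Finset.mem_Icc]
    interval_cases k <;> norm_num
  have hp0 : 0 ∈ E := by
    obtain ⟨p, hp, e⟩ := hidx 0 (by norm_num)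
    rwa [invIdx_inj (hE.lt p hp) (q := 0) (by norm_num) (e.trans oct_index.1.symm)] at hp
  have hfix4 : ∀ v ∈ P, ∀ k < 4, sqCond k v = true := fun v hv k hk => by
    obtain ⟨p, hp, e⟩ := hidx k hk
    have := hPfix v hv p hp
    rw [(invIdx_spec (hE.lt p hp)).2.2, e] at this
    show Nat.beq (rowMul (oMat k) v) v = true
    rw [oMat, this]
    exact Nat.beq_refl v
  have hPsub : ∀ v ∈ P, v ∈ octFix := fun v hv => by
    have := List.all_eq_true.1 fixTop_ok v
      (mem_fixTop (by norm_num) ((hP v).1 hv).1 (hPfix v hv 0 hp0))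
    rw [hfix4 v hv 1 (by norm_num), hfix4 v hv 2 (by norm_num), hfix4 v hv 3 (by norm_num)] at this
    exact inOct_iff.1 (by simpa using this)
  have hPall : ∀ w ∈ octFix, w ∈ P := by
    have hle' : P.length ≤ 64 := by
      rw [← octFix_eq.2.2]; exact (List.subperm_of_subset hPnd hPsub).length_le
    have hge : 64 ≤ P.length := by rw [hcard15] at hcount; omega
    have := (List.subperm_of_subset hPnd hPsub).perm_of_length_le (by rw [octFix_eq.2.2]; exact hge)
    exact fun w hw => this.mem_iff.2 hw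
  have hW : ∀ w ∈ octFix, pval qf 11 w ∈ A := fun w hw => ((hP w).1 (hPall w hw)).2
  have hlift : ∀ k < 4, ∃ r ∈ cosetReps, r < 2 ^ 11 ∧ pval qf 11 r * gS k ∈ A := by
    intro k hk
    obtain ⟨p, hp, e⟩ := hidx k hk
    obtain ⟨-, v, hv, hx⟩ := (hEm p).1 hp
    rw [fI, e, sel_two_pow hk] at hx
    obtain ⟨r, hr, hr', w, hw, rfl⟩ := exists_rep hv
    refine ⟨r, hr, hr', ?_⟩
    have := mul_mem (hW w hw) hx
    rwa [← mul_assoc, ← (qInvols H).mul, Nat.xor_comm r w, ← Nat.xor_assoc, Nat.xor_self,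
      Nat.zero_xor] at this
  have hsq : ∀ k < 4, ∀ r, r < 2 ^ 11 → pval qf 11 r * gS k ∈ A → sqCond k r = true := by
    intro k hk r hr hm
    have e : pval qf 11 (r ^^^ rowMul (oMat k) r) = 1 := by
      rw [(qInvols H).mul, ← (oMat_conj H hk hr).1, ← h2 _ hm]
      group
    have := Nat.xor_eq_zero_iff.1 (qInj H _ (Nat.xor_lt_two_pow hr (oMat_conj H hk hr).2) e)
    show Nat.beq _ r = true
    rw [← this]
    exact Nat.beq_refl r
  have hcm : ∀ i < 4, ∀ j < 4, ∀ v w, v < 2 ^ 11 → w < 2 ^ 11 → pval qf 11 v * gS i ∈ A →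
      pval qf 11 w * gS j ∈ A → cmCond i j v w = true := by
    intro i hi j hj v w hv hw hx hy
    have hii := gS_sq H hi
    have hjj := gS_sq H hj
    have e1 : pval qf 11 v * gS i * (pval qf 11 w * gS j) =
        pval qf 11 (v ^^^ rowMul (oMat i) w) * (gS i * gS j) := by
      rw [(qInvols H).mul, ← (oMat_conj H hi hw).1]
      simp only [mul_assoc]
      rw [← mul_assoc (gS i) (gS i) (gS j), hii, one_mul]
    have e2 : pval qf 11 w * gS j * (pval qf 11 v * gS i) =
        pval qf 11 (w ^^^ rowMul (oMat j) v) * (gS i * gS j) := by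
      rw [(qInvols H).mul, ← (oMat_conj H hj hv).1, (gS_comm H hi hj).eq]
      simp only [mul_assoc]
      rw [← mul_assoc (gS j) (gS j) (gS i), hjj, one_mul]
    have := (qInvols H).injOn (qInj H) (Nat.xor_lt_two_pow hv (oMat_conj H hi hw).2)
      (Nat.xor_lt_two_pow hw (oMat_conj H hj hv).2)
      (mul_right_cancel (e1.symm.trans ((hc _ hx _ hy).trans e2)))
    show Nat.beq (v ^^^ _) (w ^^^ _) = true
    rw [this]
    exact Nat.beq_refl _
  obtain ⟨a, ha, ha', haA⟩ := hlift 0 (by norm_num)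
  obtain ⟨b, hb, hb', hbA⟩ := hlift 1 (by norm_num)
  obtain ⟨c, hc', hc'', hcA⟩ := hlift 2 (by norm_num)
  obtain ⟨d, hd, hd', hdA⟩ := hlift 3 (by norm_num)
  have h := List.all_eq_true.1 lifts_ok a ha
  simp only [Bool.or_eq_true, Bool.not_eq_true'] at h
  have h := List.all_eq_true.1 (h.resolve_left (by simp [hsq 0 (by norm_num) a ha' haA])) b hb
  simp only [Bool.or_eq_true, Bool.not_eq_true', Bool.and_eq_false_iff] at h
  have h := List.all_eq_true.1 (h.resolve_left (by
    simp [hsq 1 (by norm_num) b hb' hbA,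
      hcm 0 (by norm_num) 1 (by norm_num) a b ha' hb' haA hbA])) c hc'
  simp only [Bool.or_eq_true, Bool.not_eq_true', Bool.and_eq_false_iff] at h
  have h := List.all_eq_true.1 (h.resolve_left (by
    simp [hsq 2 (by norm_num) c hc'' hcA,
      hcm 0 (by norm_num) 2 (by norm_num) a c ha' hc'' haA hcA,
      hcm 1 (by norm_num) 2 (by norm_num) b c hb' hc'' hbA hcA])) d hd
  simp only [hsq 3 (by norm_num) d hd' hdA,
    hcm 0 (by norm_num) 3 (by norm_num) a d ha' hd' haA hdA,
    hcm 1 (by norm_num) 3 (by norm_num) b d hb' hd' hbA hdA,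
    hcm 2 (by norm_num) 3 (by norm_num) c d hc'' hd' hcA hdA,
    Bool.and_self, Bool.not_true, Bool.false_or, Bool.or_eq_true, Bool.and_eq_true, inOct_iff] at h
  have hhigh : ∀ k < 6, aT (4 + k) ∈ A := fun k hk => by
    rw [aT_high hk]; exact hW _ (oct_two_pow hk)
  have strip : ∀ k < 4, ∀ r s, r ^^^ s ∈ octFix → pval qf 11 r * gS k ∈ A →
      pval qf 11 s * gS k ∈ A := fun k _ r s hrs hm => by
    have := mul_mem (hW _ hrs) hm
    rwa [← mul_assoc, ← (qInvols H).mul, Nat.xor_comm r s, Nat.xor_assoc, Nat.xor_self,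
      Nat.xor_zero] at this
  rcases h with ⟨h0, h1, h2', h3⟩ | ⟨h0, h1, h2', h3⟩
  · refine Or.inl (Subgroup.eq_of_le_of_card_ge (aGrp_closure H fun k hk => ?_)
      (by rw [hcard, card_aGrp])).symm
    rcases Nat.lt_or_ge k 4 with hk4 | hk4
    · have key : ∀ r, r ∈ octFix → pval qf 11 r * gS k ∈ A → aT k ∈ A := fun r hr hm => by
        have := strip k hk4 r 0 (by rwa [Nat.xor_zero]) hm
        rwa [pval_zero, one_mul, ← aT_low hk4] at this
      interval_cases k
      exacts [key a h0 haA, key b h1 hbA, key c h2' hcA, key d h3 hdA]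
    · obtain ⟨m, rfl⟩ := Nat.exists_eq_add_of_le hk4
      exact hhigh m (by omega)
  · refine Or.inr (Subgroup.eq_of_le_of_card_ge ?_ (by
      rw [hcard, Subgroup.card_map_of_injective (f := (MulAut.conj shiftElt).toMonoidHom) (MulAut.conj shiftElt).injective, card_aGrp])).symm
    rw [Subgroup.map_le_iff_le_comap]
    refine aGrp_closure H fun k hk => ?_
    show shiftElt * aT k * shiftElt⁻¹ ∈ A
    rw [shiftElt, (qInvols H).inv_pval]
    rcases Nat.lt_or_ge k 4 with hk4 | hk4
    · have key : ∀ r, r ^^^ cShift k ∈ octFix → pval qf 11 r * gS k ∈ A →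
          pval qf 11 shiftU * aT k * pval qf 11 shiftU ∈ A := fun r hr hm => by
        have := strip k hk4 r (cShift k) hr hm
        rw [cShift] at this
        change pval qf 11 (shiftU ^^^ rowMul (oMat k) shiftU) * gS k ∈ A at this
        rw [(qInvols H).mul, ← (oMat_conj H hk4 shiftU_lt).1] at this
        simp only [mul_assoc] at this
        rw [gS_sq H hk4, mul_one] at this
        rwa [aT_low hk4, mul_assoc]
      interval_cases k
      exacts [key a h0 haA, key b h1 hbA, key c h2' hcA, key d h3 hdA]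
    · obtain ⟨m, rfl⟩ := Nat.exists_eq_add_of_le hk4
      have hm := hhigh m (by omega)
      rw [aT_high (by omega)] at hm ⊢
      rwa [(qInvols H).comm_pval, mul_assoc, (qInvols H).sq_pval, mul_one]

/-- Within the Sylow subgroup only the subgroup centralises itself. -/
theorem centralizer_in_sylJ {x : Cfsg.Spor.J4} (hx : x ∈ sylJ H)
    (hc : ∀ a ∈ aGrp H, x * a = a * x) : x ∈ aGrp H := by
  obtain ⟨v, hv, b, hb, rfl⟩ := (mem_sylJ H).1 hx
  have hax := act_elem H (v := v) hb
  have hw : ∀ w ∈ wRows, rowMul (sylMat b) w = w := by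
    intro w hw
    obtain ⟨i, hi, rfl⟩ := List.getElem_of_mem hw
    have hm : wRows[i] ∈ octFix := by
      have := oct_two_pow (k := i) hi
      rwa [List.getD_eq_getElem?_getD, List.getElem?_eq_getElem hi, Option.getD_some] at this
    refine (qInvols H).injOn (qInj H) (rowMul_lt hax.lt _) (octFix_lt hm) ?_
    rw [← hax.eq _ (octFix_lt hm), mul_assoc _ (pval qf 11 wRows[i]), ← hc _ (qval_mem_aGrp H hm),
      inv_mul_cancel_left]
  have ho : ∀ k < 4, mulL (sylMat b) (oMat k) = mulL (oMat k) (sylMat b) := by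
    intro k hk
    have hk' : 2 ^ k < 1024 := Nat.pow_lt_pow_right (m := k) (n := 10) (by norm_num) (by omega)
    have e := hc _ (sel_mem_aGrp H (show 2 ^ k < 16 by interval_cases k <;> norm_num))
    exact Act.unique (qInvols H) (qInj H) (hax.mul (act_sel H _ hk'))
      (by rw [e]; exact (act_sel H _ hk').mul hax)
  have hb16 : b < 16 := by
    have := List.all_eq_true.1 cent_ok b (List.mem_range.2 hb)
    simp only [Bool.or_eq_true, Nat.blt_eq, Bool.not_eq_true', Bool.and_eq_false_iff] at this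
    refine this.resolve_right fun h => ?_
    rcases h with h | h
    · rw [← Bool.not_eq_true] at h
      exact h (List.all_eq_true.2 fun w hw' => by rw [hw w hw']; exact Nat.beq_refl w)
    · rw [← Bool.not_eq_true] at h
      exact h (List.all_eq_true.2 fun k hk => beq_iff_eq.2 (ho k (List.mem_range.1 hk)))
  have hbA := sel_mem_aGrp H hb16
  have hv' : ∀ k < 4, sqCond k v = true := by
    intro k hk
    have hgA : gS k ∈ aGrp H := by
      rw [← aT_low hk]; exact (aInvols H).gen_mem (i := k) (by omega)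
    have e := hc _ hgA
    rw [mul_assoc, (aInvols H).elem _ hbA _ hgA, ← mul_assoc, ← mul_assoc (gS k)] at e
    have e2 := mul_right_cancel e
    have : rowMul (oMat k) v = v := by
      refine (qInvols H).injOn (qInj H) (oMat_conj H hk hv).2 hv ?_
      rw [← (oMat_conj H hk hv).1, ← e2, mul_assoc, gS_sq H hk, mul_one]
    show Nat.beq _ v = true
    rw [this]
    exact Nat.beq_refl v
  have hv0 : rowMul (invMat 0) v = v := by
    rw [(invIdx_spec (show 0 < 191 by norm_num)).2.2, oct_index.1]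
    exact Nat.eq_of_beq_eq_true (hv' 0 (by norm_num))
  have := List.all_eq_true.1 fixTop_ok v (mem_fixTop (by norm_num) hv hv0)
  rw [hv' 1 (by norm_num), hv' 2 (by norm_num), hv' 3 (by norm_num)] at this
  exact mul_mem (qval_mem_aGrp H (inOct_iff.1 (by simpa using this))) hbA

end CfsgLib.JFourTen
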