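import Cfsg.Agent.JFourFacts.TenRel

/-! Kernel checks on the matrices of the Sylow 2-subgroup. -/

set_option autoImplicit false
set_option Elab.async false
set_option maxRecDepth 100000

namespace CfsgLib.JFourTen

open CfsgLib.JankoFourRep

/-- The rows packed in a number. -/
def unpack (p : ℕ) : List ℕ :=
  (List.range 11).map fun i => Nat.land (Nat.shiftRight p (Nat.mul 11 i)) 2047

/-- The matrix of an element in normal form. -/
def sylMat (b : ℕ) : List ℕ := unpack ((sylMats.getD (b / 32) []).getD (b % 32) 0)

/-- The matrix of a generator. -/
def gMat (k : ℕ) : List ℕ := wordMat (baseWords.getD k [])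

/-- The generators are words in `x` and `y`. -/
theorem gWords_ok : ∀ k < 10, ∀ a ∈ baseWords.getD k [], a < 3 := by decide +kernel

/-- The words of the squares and conjugates only use earlier generators. -/
theorem sylWords_ok : ∀ j < 10, (∀ a ∈ sqWords.getD j [], a < j) ∧
    ∀ i < j, ∀ a ∈ (cjWords.getD j []).getD i [], a < j := by decide +kernel

/-- The normal forms multiply as the matrices do. -/
theorem chain_ok : ((List.range 10).all fun k => (List.range (2 ^ k)).all fun b =>
    sylMat (b + 2 ^ k) == mulL (sylMat b) (gMat k)) = true := by decide +kernel

/-- Only the empty normal form acts trivially. -/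
theorem faithful_ok : ((List.range 1023).all fun b => !(sylMat (b + 1) == idRows 11)) = true := by
  decide +kernel

/-- A generator is not a product of earlier ones. -/
theorem fresh_ok : ((List.range 10).all fun k => (List.range (2 ^ k)).all fun b =>
    !(sylMat b == gMat k)) = true := by decide +kernel

theorem sylMat_zero : sylMat 0 = idRows 11 := by decide +kernel

theorem sylMat_lt : ((List.range 1024).all fun b => (sylMat b).all fun a => Nat.blt a 2048) = true := by
  decide +kernel

end CfsgLib.JFourTen
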