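import Cfsg.Agent.JFourFacts.TenV
import Cfsg.Agent.JFourFacts.TenRelS
import Cfsg.Agent.JFourFacts.TenSylowCheck

/-!
# A Sylow 2-subgroup of the presented fourth Janko group
-/

set_option autoImplicit false

namespace CfsgLib.JFourTen

open CfsgLib.JankoFour CfsgLib.JankoFourRep

/-- The generators of the complement of `2¹¹` in the Sylow subgroup. -/
def gS (k : ℕ) : Cfsg.Spor.J4 := tE (15 + k)

/-- The element in normal form. -/
def sel (b : ℕ) : Cfsg.Spor.J4 := pval gS 10 b

theorem sel_zero : sel 0 = 1 := pval_zero gS 10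

theorem gS_eq {k : ℕ} (hk : k < 10) : gS k = wT (baseWords.getD k []) := by
  rw [gS, tE, if_pos (by omega), cE, if_pos (by omega), bE, if_neg (by omega), wT]
  rw [show 15 + k - 15 = k by omega]
  refine congrArg List.prod (List.map_congr_left fun a ha => ?_)
  exact (tE_low ((gWords_ok k hk a ha).trans (by norm_num))).symm

theorem list_prod_mem_gen {K : Subgroup Cfsg.Spor.J4} {j : ℕ} {w : List ℕ} (hw : ∀ a ∈ w, a < j)
    (hK : ∀ a < j, gS a ∈ K) : wT (w.map (15 + ·)) ∈ K := by
  rw [wT_shift]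
  refine list_prod_mem fun x hx => ?_
  obtain ⟨a, ha, rfl⟩ := List.mem_map.1 hx
  exact hK a (hw a ha)

theorem sylMat_bound {b : ℕ} (hb : b < 1024) : ∀ a ∈ sylMat b, a < 2 ^ 11 := fun a ha => by
  have := List.all_eq_true.1 (List.all_eq_true.1 sylMat_lt b (List.mem_range.2 hb)) a ha
  simpa [Nat.blt_eq] using this

theorem add_eq_xor {k b : ℕ} (hb : b < 2 ^ k) : b + 2 ^ k = b ^^^ 2 ^ k := by
  refine Nat.eq_of_testBit_eq fun i => ?_
  rw [show b + 2 ^ k = 2 ^ k * 1 + b by ring, Nat.testBit_two_pow_mul_add _ hb, Nat.testBit_xor,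
    Nat.testBit_two_pow]
  split_ifs with h
  · simp [h.ne']
  · rw [Nat.testBit_eq_false_of_lt (hb.trans_le (Nat.pow_le_pow_right (by norm_num) (not_lt.1 h)))]
    rcases (not_lt.1 h).eq_or_lt with rfl | h'
    · simp
    · obtain ⟨m, hm⟩ := Nat.exists_eq_add_of_lt h'
      rw [show i - k = m + 1 by omega]
      rw [Nat.testBit_eq_false_of_lt (show (1 : ℕ) < 2 ^ (m + 1) from Nat.one_lt_two_pow (by omega))]
      simp [h'.ne]

variable (H : Hyp)
include H

theorem act_gS {k : ℕ} (hk : k < 10) : Act qf 11 (gS k) (gMat k) := by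
  rw [gS_eq hk]; exact act_word H _ (gWords_ok k hk)

theorem act_sel : ∀ b < 1024, Act qf 11 (sel b) (sylMat b) := by
  refine induction_two_pow (n := 10) ?_ fun b k hk hb ih => ?_
  · rw [sel, pval_zero, sylMat_zero]; exact act_one H
  · have hc := List.all_eq_true.1 (List.all_eq_true.1 chain_ok k (List.mem_range.2 hk)) b
      (List.mem_range.2 hb)
    rw [add_eq_xor hb, beq_iff_eq] at hc
    rw [hc, sel, pval_top hb hk, ← pval_of_lt (n := 10) b hb hk.le]
    exact ih.mul (act_gS H hk)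

omit H in
/-- The subgroup of the first `k` generators. -/
def gGrp (k : ℕ) : Subgroup Cfsg.Spor.J4 := Subgroup.closure (gS '' {i | i < k})

theorem gGrp_spec : ∀ k ≤ 10, ∀ x, x ∈ gGrp k ↔ ∃ b, b < 2 ^ k ∧ pval gS k b = x := by
  intro k
  induction k with
  | zero =>
    intro _ x
    simp [gGrp, pval, eq_comm]
  | succ k ih =>
    intro hk x
    have ihk := ih (by omega)
    have hgk : ∀ a < k, gS a ∈ gGrp k := fun a ha => Subgroup.subset_closure ⟨a, ha, rfl⟩
    have hsq : gS k * gS k ∈ gGrp k := by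
      have := wT_eq_of_mem H relSyl_ok (v := [15 + k, 15 + k]) (w := (sqWords.getD k []).map (15 + ·))
        (by simp only [relSyl, List.mem_append, List.mem_map, List.mem_range]
            exact Or.inl ⟨k, by omega, rfl⟩)
      rw [wT_pair] at this
      exact this ▸ list_prod_mem_gen (sylWords_ok k (by omega)).1 hgk
    have hcj : ∀ i < k, (gS k)⁻¹ * gS i * gS k ∈ gGrp k := fun i hi => by
      have := wT_eq_of_mem H relSyl_ok (v := [15 + i, 15 + k])
        (w := [15 + k] ++ ((cjWords.getD k []).getD i []).map (15 + ·)) (by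
          simp only [relSyl, List.mem_append, List.mem_flatMap, List.mem_map, List.mem_range]
          exact Or.inr ⟨k, by omega, i, hi, rfl⟩)
      rw [wT_pair, wT_append, wT_single] at this
      rw [mul_assoc, show gS i * gS k = _ from this]
      simpa [gS] using list_prod_mem_gen ((sylWords_ok k (by omega)).2 i hi) hgk
    have hN : ∀ y ∈ gGrp k, gS k * y * (gS k)⁻¹ ∈ gGrp k := by
      intro y hy
      have h1 : (gS k)⁻¹ * y * gS k ∈ gGrp k := by
        clear x
        induction hy using Subgroup.closure_induction with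
        | mem a ha => obtain ⟨i, hi, rfl⟩ := ha; exact hcj i hi
        | one => simp
        | mul a c _ _ ha hc =>
          rw [show (gS k)⁻¹ * (a * c) * gS k = (gS k)⁻¹ * a * gS k * ((gS k)⁻¹ * c * gS k) by group]
          exact mul_mem ha hc
        | inv a _ ha =>
          rw [show (gS k)⁻¹ * a⁻¹ * gS k = ((gS k)⁻¹ * a * gS k)⁻¹ by group]
          exact inv_mem ha
      rw [show gS k * y * (gS k)⁻¹ = gS k * gS k * ((gS k)⁻¹ * y * gS k) * (gS k * gS k)⁻¹ by group]
      exact mul_mem (mul_mem hsq h1) (inv_mem hsq)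
    let T : Subgroup Cfsg.Spor.J4 :=
      { carrier := {x | x ∈ gGrp k ∨ x * (gS k)⁻¹ ∈ gGrp k}
        one_mem' := Or.inl (one_mem _)
        mul_mem' := by
          rintro a c (ha | ha) (hc | hc)
          · exact Or.inl (mul_mem ha hc)
          · exact Or.inr (by rw [mul_assoc]; exact mul_mem ha hc)
          · refine Or.inr ?_
            rw [show a * c * (gS k)⁻¹ = a * (gS k)⁻¹ * (gS k * c * (gS k)⁻¹) by group]
            exact mul_mem ha (hN c hc)
          · refine Or.inl ?_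
            rw [show a * c = a * (gS k)⁻¹ * (gS k * (c * (gS k)⁻¹) * (gS k)⁻¹) * (gS k * gS k) by group]
            exact mul_mem (mul_mem ha (hN _ hc)) hsq
        inv_mem' := by
          rintro a (ha | ha)
          · exact Or.inl (inv_mem ha)
          · refine Or.inr ?_
            rw [show a⁻¹ * (gS k)⁻¹ = (gS k * gS k * ((gS k)⁻¹ * (a * (gS k)⁻¹) * gS k))⁻¹ by group]
            refine inv_mem (mul_mem hsq ?_)
            have := hN (a * (gS k)⁻¹) ha
            rw [show (gS k)⁻¹ * (a * (gS k)⁻¹) * gS k =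
              (gS k * gS k)⁻¹ * (gS k * (a * (gS k)⁻¹) * (gS k)⁻¹) * (gS k * gS k) by group]
            exact mul_mem (mul_mem (inv_mem hsq) this) hsq }
    have hT : gGrp (k + 1) ≤ T := by
      rw [gGrp, Subgroup.closure_le]
      rintro _ ⟨i, hi, rfl⟩
      rcases Nat.lt_succ_iff_lt_or_eq.1 hi with h | rfl
      · exact Or.inl (hgk i h)
      · exact Or.inr (by simp)
    have hmono : gGrp k ≤ gGrp (k + 1) :=
      Subgroup.closure_mono (Set.image_mono fun i (hi : i < k) => Nat.lt_succ_of_lt hi)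
    constructor
    · intro hx
      rcases hT hx with h | h
      · obtain ⟨b, hb, e⟩ := (ihk x).1 h
        exact ⟨b, hb.trans_le (Nat.pow_le_pow_right (by norm_num) (Nat.le_succ k)),
          (pval_of_lt b hb (Nat.le_succ k)).trans e⟩
      · obtain ⟨b, hb, e⟩ := (ihk _).1 h
        refine ⟨b ^^^ 2 ^ k, Nat.xor_lt_two_pow (hb.trans_le (Nat.pow_le_pow_right (by norm_num)
          (Nat.le_succ k))) (Nat.pow_lt_pow_right (by norm_num) (Nat.lt_succ_self k)), ?_⟩
        rw [pval_top hb (Nat.lt_succ_self k), e, inv_mul_cancel_right]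
    · rintro ⟨b, _, rfl⟩
      rw [pval]
      refine mul_mem (hmono ((ihk _).2 ⟨b % 2 ^ k, Nat.mod_lt _ (by positivity),
        pval_congr k fun i hi => by simp [Nat.testBit_mod_two_pow, hi]⟩)) ?_
      split_ifs
      · exact Subgroup.subset_closure ⟨k, Nat.lt_succ_self k, rfl⟩
      · exact one_mem _

theorem sel_faithful {b : ℕ} (hb : b < 1024) (h : Act qf 11 (sel b) (idRows 11)) : b = 0 := by
  have e := Act.unique (qInvols H) (qInj H) (act_sel H b hb) h
  by_contra h0
  have := List.all_eq_true.1 faithful_ok (b - 1) (List.mem_range.2 (by omega))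
  rw [show b - 1 + 1 = b by omega] at this
  simp [e] at this

/-- Two normal forms with one element are equal. -/
theorem sel_inj : ∀ {b c : ℕ}, b < 1024 → c < 1024 → sel b = sel c → b = c := by
  suffices ∀ k ≤ 10, ∀ b < 2 ^ k, ∀ c < 2 ^ k, pval gS k b = pval gS k c → b = c from
    fun {b c} hb hc e => this 10 le_rfl b hb c hc e
  intro k
  induction k with
  | zero => intro _ b hb c hc _; omega
  | succ k ih =>
    intro hk b hb c hc e
    have hfresh : gS k ∉ gGrp k := by
      intro hm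
      obtain ⟨d, hd, ed⟩ := (gGrp_spec H k (by omega) _).1 hm
      have hd' : d < 1024 := hd.trans_le (Nat.pow_le_pow_right (by norm_num) (by omega : k ≤ 10))
      have a1 := act_sel H d hd'
      rw [sel, pval_of_lt d hd (by omega), ed] at a1
      have := Act.unique (qInvols H) (qInj H) a1 (act_gS H (by omega))
      have h2 := List.all_eq_true.1 (List.all_eq_true.1 fresh_ok k (List.mem_range.2 (by omega))) d
        (List.mem_range.2 hd)
      simp [this] at h2
    have key : ∀ x < 2 ^ (k + 1), ∃ x', x' < 2 ^ k ∧ pval gS k x = pval gS k x' ∧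
        x = (if x.testBit k then x' ^^^ 2 ^ k else x') := by
      intro x hx
      refine ⟨x % 2 ^ k, Nat.mod_lt _ (by positivity),
        pval_congr k fun i hi => by simp [Nat.testBit_mod_two_pow, hi], ?_⟩
      refine Nat.eq_of_testBit_eq fun i => ?_
      rcases lt_trichotomy i k with h | rfl | h
      · split_ifs <;> simp [Nat.testBit_mod_two_pow, h, h.ne']
      · split_ifs with ht <;> simp [Nat.testBit_mod_two_pow, ht]
      · rw [Nat.testBit_eq_false_of_lt (hx.trans_le (Nat.pow_le_pow_right (by norm_num) h))]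
        split_ifs <;> simp [Nat.testBit_mod_two_pow, h.le.not_gt, h.ne]
    obtain ⟨b', hb', eb, rb⟩ := key b hb
    obtain ⟨c', hc', ec, rc⟩ := key c hc
    have mb : pval gS k b' ∈ gGrp k := (gGrp_spec H k (by omega) _).2 ⟨b', hb', rfl⟩
    have mc : pval gS k c' ∈ gGrp k := (gGrp_spec H k (by omega) _).2 ⟨c', hc', rfl⟩
    rw [pval, pval, eb, ec] at e
    cases hbk : b.testBit k <;> cases hck : c.testBit k <;> simp only [hbk, hck] at e rb rc
    · rw [rb, rc]; simp only [Bool.false_eq_true, if_false, mul_one] at e ⊢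
      exact ih (by omega) _ hb' _ hc' e
    · simp only [Bool.false_eq_true, if_false, mul_one, if_true] at e
      exact absurd (by simpa [e] using mul_mem (inv_mem mc) mb) hfresh
    · simp only [Bool.false_eq_true, if_false, mul_one, if_true] at e
      exact absurd (by simpa [← e] using mul_mem (inv_mem mb) mc) hfresh
    · rw [rb, rc]; simp only [if_true] at e ⊢
      rw [ih (by omega) _ hb' _ hc' (mul_right_cancel e)]

theorem sel_mem {b : ℕ} (hb : b < 1024) : sel b ∈ gGrp 10 := (gGrp_spec H 10 le_rfl _).2 ⟨b, hb, rfl⟩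

theorem exists_sel {x : Cfsg.Spor.J4} (h : x ∈ gGrp 10) : ∃ b, b < 1024 ∧ sel b = x :=
  (gGrp_spec H 10 le_rfl x).1 h

theorem act_gGrp {x : Cfsg.Spor.J4} (h : x ∈ gGrp 10) : ∃ M, Act qf 11 x M := by
  obtain ⟨b, hb, rfl⟩ := exists_sel H h
  exact ⟨_, act_sel H b hb⟩

theorem conj_qGrp {x : Cfsg.Spor.J4} (h : x ∈ gGrp 10) {v : Cfsg.Spor.J4}
    (hv : v ∈ (qInvols H).grp) : x * v * x⁻¹ ∈ (qInvols H).grp := by
  obtain ⟨w, hw, rfl⟩ := hv
  obtain ⟨M, hM⟩ := act_gGrp H (inv_mem h)
  have := hM.eq w hw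
  rw [inv_inv] at this
  exact ⟨_, rowMul_lt hM.lt w, this.symm⟩

/-- The Sylow 2-subgroup. -/
def sylJ : Subgroup Cfsg.Spor.J4 where
  carrier := {x | ∃ v ∈ (qInvols H).grp, ∃ s ∈ gGrp 10, x = v * s}
  one_mem' := ⟨1, one_mem _, 1, one_mem _, (one_mul 1).symm⟩
  mul_mem' := by
    rintro _ _ ⟨v, hv, s, hs, rfl⟩ ⟨w, hw, r, hr, rfl⟩
    exact ⟨v * (s * w * s⁻¹), mul_mem hv (conj_qGrp H hs hw), s * r, mul_mem hs hr, by group⟩
  inv_mem' := by
    rintro _ ⟨v, hv, s, hs, rfl⟩
    exact ⟨s⁻¹ * v⁻¹ * s⁻¹⁻¹, conj_qGrp H (inv_mem hs) (inv_mem hv), s⁻¹, inv_mem hs, by group⟩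

theorem mem_sylJ {x : Cfsg.Spor.J4} :
    x ∈ sylJ H ↔ ∃ v, v < 2 ^ 11 ∧ ∃ b, b < 1024 ∧ x = pval qf 11 v * sel b := by
  constructor
  · rintro ⟨_, ⟨v, hv, rfl⟩, s, hs, rfl⟩
    obtain ⟨b, hb, rfl⟩ := exists_sel H hs
    exact ⟨v, hv, b, hb, rfl⟩
  · rintro ⟨v, hv, b, hb, rfl⟩
    exact ⟨_, ⟨v, hv, rfl⟩, _, sel_mem H hb, rfl⟩

theorem act_elem {v b : ℕ} (hb : b < 1024) : Act qf 11 (pval qf 11 v * sel b) (sylMat b) := by
  have := (act_pval H v).mul (act_sel H b hb)
  have e : mulL (idRows 11) (sylMat b) = sylMat b := by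
    refine List.ext_getElem (by simp [mulL, idRows, (act_sel H b hb).len]) fun i h1 h2 => ?_
    simp only [mulL, idRows, List.getElem_map, List.getElem_range]
    rw [rowMul_single h2]
    simp [List.getD_eq_getElem?_getD, h2]
  rwa [e] at this

theorem sylMat_inj {b c : ℕ} (hb : b < 1024) (hc : c < 1024) (e : sylMat b = sylMat c) : b = c := by
  obtain ⟨d, hd, ed⟩ := exists_sel H (mul_mem (inv_mem (sel_mem H hb)) (sel_mem H hc))
  have h1 : Act qf 11 (sel b * sel d) (sylMat c) := by
    rw [ed, mul_inv_cancel_left]; exact act_sel H c hc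
  have hz : Act qf 11 (sel d) (idRows 11) := by
    have hl : ∀ v < 2 ^ 11, (sel d)⁻¹ * pval qf 11 v * sel d = pval qf 11 v := by
      intro v hv
      obtain ⟨M, hM⟩ := act_gGrp H (inv_mem (sel_mem H hb))
      have e1 := hM.eq v hv
      rw [inv_inv] at e1
      have e2 := (act_sel H b hb).eq _ (rowMul_lt hM.lt v)
      have e3 := h1.eq _ (rowMul_lt hM.lt v)
      rw [← e] at e3
      rw [← e1] at e2 e3
      calc (sel d)⁻¹ * pval qf 11 v * sel d
          = (sel b * sel d)⁻¹ * (sel b * pval qf 11 v * (sel b)⁻¹) * (sel b * sel d) := by group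
        _ = (sel b)⁻¹ * (sel b * pval qf 11 v * (sel b)⁻¹) * sel b := by rw [e3, e2]
        _ = pval qf 11 v := by group
    refine ⟨idRows_len 11, fun a ha => ?_, fun v hv => ?_⟩
    · obtain ⟨j, hj, rfl⟩ := List.mem_map.1 ha
      exact Nat.pow_lt_pow_right (by norm_num) (List.mem_range.1 hj)
    · rw [hl v hv, show rowMul (idRows 11) v = v from
        induction_two_pow (n := 11) (P := fun v => rowMul (idRows 11) v = v) (rowMul_zero _)
          (fun w i hi _ ih => by
            rw [rowMul_xor, ih, rowMul_single (by rw [idRows_len]; exact hi)]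
            simp [idRows, List.getD_eq_getElem?_getD, hi]) v hv]
  refine sel_inj H hb hc ?_
  rw [sel_faithful H hd hz, sel_zero] at ed
  exact (inv_mul_eq_one.1 ed.symm)

theorem elem_unique {v w b c : ℕ} (hv : v < 2 ^ 11) (hw : w < 2 ^ 11) (hb : b < 1024) (hc : c < 1024)
    (e : pval qf 11 v * sel b = pval qf 11 w * sel c) : v = w ∧ b = c := by
  have hbc := sylMat_inj H hb hc (Act.unique (qInvols H) (qInj H) (act_elem H (v := v) hb)
    (e ▸ act_elem H hc))
  subst hbc
  exact ⟨(qInvols H).injOn (qInj H) hv hw (mul_right_cancel e), rfl⟩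

theorem card_sylJ : Nat.card (sylJ H) = 2 ^ 21 := by
  rw [Nat.card_congr (Equiv.ofBijective
    (fun p : Fin (2 ^ 11) × Fin 1024 => (⟨pval qf 11 p.1 * sel p.2,
      (mem_sylJ H).2 ⟨p.1, p.1.isLt, p.2, p.2.isLt, rfl⟩⟩ : sylJ H))
    ⟨fun p r e => by
      obtain ⟨h1, h2⟩ := elem_unique H p.1.isLt r.1.isLt p.2.isLt r.2.isLt (congrArg Subtype.val e)
      exact Prod.ext (Fin.ext h1) (Fin.ext h2),
    fun x => by
      obtain ⟨v, hv, b, hb, e⟩ := (mem_sylJ H).1 x.2
      exact ⟨(⟨v, hv⟩, ⟨b, hb⟩), Subtype.ext e.symm⟩⟩).symm, Nat.card_prod, Nat.card_fin, Nat.card_fin]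
  norm_num

/-- Every 2-subgroup is conjugate into `sylJ`. -/
theorem exists_conj_le {P : Subgroup Cfsg.Spor.J4} (hP : IsPGroup 2 P) :
    ∃ g : Cfsg.Spor.J4, P.map (MulAut.conj g).toMonoidHom ≤ sylJ H := by
  have := H.finite
  have : Fact (Nat.Prime 2) := ⟨Nat.prime_two⟩
  have hs : IsPGroup 2 (sylJ H) := IsPGroup.of_card (card_sylJ H)
  obtain ⟨T, hT⟩ := hs.exists_le_sylow
  have hTcard : Nat.card T = 2 ^ 21 := by
    rw [T.card_eq_multiplicity, H.card]
    congr 1
    rw [show (86775571046077562880 : ℕ) = 2 ^ 21 * 41377816699065 by norm_num,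
      Nat.factorization_mul (by norm_num) (by norm_num), Finsupp.add_apply,
      Nat.Prime.factorization_pow Nat.prime_two, Finsupp.single_eq_same,
      Nat.factorization_eq_zero_of_not_dvd (by norm_num)]
  have hTe : (T : Subgroup Cfsg.Spor.J4) = sylJ H :=
    (Subgroup.eq_of_le_of_card_ge hT (by rw [card_sylJ]; exact hTcard.le)).symm
  obtain ⟨Q, hQ⟩ := hP.exists_le_sylow
  obtain ⟨g, hg⟩ := MulAction.exists_smul_eq Cfsg.Spor.J4 Q T
  refine ⟨g, ?_⟩
  rw [← hTe, ← hg]
  exact Subgroup.map_mono hQ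

end CfsgLib.JFourTen
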