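import Mathlib.Init

/-! Words of the elements used for the local subgroup `2¹⁰:L₅(2)` of the presented fourth Janko group. -/

set_option autoImplicit false
set_option maxRecDepth 8000

namespace CfsgLib.JFourTen

/-- Words, in the letters below fifteen, of the generators of the Sylow subgroup, of the abelian subgroup and of the complement. -/
def baseWords : List (List Nat) := [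
  [
    1, 0, 1, 0, 1, 0, 2, 0, 1, 0, 2, 0, 1, 0, 2, 0, 2, 0, 1, 0, 1, 0, 1, 0, 1, 0, 2, 0, 1, 0, 2, 0, 1, 0, 2, 0, 2, 0, 2,
    0, 2, 0, 1, 0, 1, 0, 2, 0, 2, 0, 1],
  [
    0, 1, 0, 1, 0, 2, 0, 2, 0, 1, 0, 1, 0, 1, 0, 2, 0, 1, 0, 2, 0, 1, 0, 2, 0, 1, 0, 2, 0, 2, 0, 2, 0, 1, 0, 1, 0, 2, 0,
    2, 0, 2, 0, 1, 0, 2, 0, 1, 0, 2, 0, 1],
  [
    1, 0, 1, 0, 1, 0, 1, 0, 2, 0, 1, 0, 1, 0, 2, 0, 2, 0, 2, 0, 2, 0, 2, 0, 1, 0, 2, 0, 2, 0, 1, 0, 1, 0, 1, 0, 2, 0, 1,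
    0, 1, 0, 2, 0, 2, 0, 2, 0, 1, 0, 1],
  [
    0, 2, 0, 2, 0, 1, 0, 1, 0, 1, 0, 1, 0, 2, 0, 2, 0, 2, 0, 1, 0, 1, 0, 1, 0, 1, 0, 2, 0, 1, 0, 2, 0, 1, 0, 1, 0, 2, 0,
    2, 0, 2, 0, 1, 0, 2, 0, 2, 0, 2],
  [
    2, 0, 1, 0, 2, 0, 1, 0, 2, 0, 1],
  [
    1, 0, 1, 0, 1, 0, 2, 0, 1, 0, 2, 0, 2, 0, 2],
  [
    0, 2, 0, 1, 0, 1, 0, 1, 0, 2, 0, 1, 0, 2, 0, 2, 0, 2, 0, 1, 0],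
  [
    0, 2, 0, 1, 0, 1, 0, 2, 0, 1, 0, 1, 0, 1, 0, 2, 0, 2, 0, 1, 0, 2, 0, 2, 0, 1, 0, 1, 0, 1, 0, 2],
  [
    1, 0, 2, 0, 1, 0, 1, 0, 1, 0, 1, 0, 1, 0, 2, 0, 1, 0, 2, 0, 1, 0, 2, 0, 1, 0, 1, 0, 1, 0, 2, 0, 1, 0, 1, 0, 1, 0, 1,
    0, 1, 0, 2, 0, 2, 0, 1, 0, 1],
  [
    0, 1, 0, 2, 0, 1, 0, 1, 0, 2, 0, 2, 0, 1, 0, 2, 0],
  [
    1, 0, 1, 0, 1, 0, 2, 0, 1, 0, 2, 0, 1, 0, 2, 0, 2, 0, 1, 0, 1, 0, 1, 0, 1, 0, 2, 0, 1, 0, 2, 0, 1, 0, 2, 0, 2, 0, 2,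
    0, 2, 0, 1, 0, 1, 0, 2, 0, 2, 0, 1],
  [
    0, 1, 0, 1, 0, 2, 0, 2, 0, 1, 0, 1, 0, 1, 0, 2, 0, 1, 0, 2, 0, 1, 0, 2, 0, 1, 0, 2, 0, 2, 0, 2, 0, 1, 0, 1, 0, 2, 0,
    2, 0, 2, 0, 1, 0, 2, 0, 1, 0, 2, 0, 1],
  [
    1, 0, 1, 0, 1, 0, 1, 0, 2, 0, 1, 0, 1, 0, 2, 0, 2, 0, 2, 0, 2, 0, 2, 0, 1, 0, 2, 0, 2, 0, 1, 0, 1, 0, 1, 0, 2, 0, 1,
    0, 1, 0, 2, 0, 2, 0, 2, 0, 1, 0, 1],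
  [
    0, 2, 0, 2, 0, 1, 0, 1, 0, 1, 0, 1, 0, 2, 0, 2, 0, 2, 0, 1, 0, 1, 0, 1, 0, 1, 0, 2, 0, 1, 0, 2, 0, 1, 0, 1, 0, 2, 0,
    2, 0, 2, 0, 1, 0, 2, 0, 2, 0, 2],
  [
    6, 8, 9, 10, 12, 13],
  [
    4, 9, 14],
  [
    7, 10, 11, 13],
  [
    5, 6, 7, 8, 11, 12],
  [
    4, 6, 7, 8, 9, 11, 13, 14],
  [
    4, 6, 7, 9, 10, 13],
  [
    5, 8, 25, 32, 34],
  [
    10, 3, 10, 3, 10, 25, 33],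
  [
    10, 3, 6, 7, 3, 10, 27, 28, 29, 32, 33, 34],
  [
    10, 3, 0, 2, 0, 1, 0, 1, 0, 1, 0, 2, 0, 1, 0, 2, 0, 2, 0, 2, 0, 1, 0, 3, 5, 8, 3, 0, 2, 0, 1, 0, 1, 0, 1, 0, 2, 0, 1,
    0, 2, 0, 2, 0, 2, 0, 1, 0, 3, 10, 27, 29, 30, 31, 34],
  [
    10, 3, 0, 2, 0, 1, 0, 1, 0, 1, 0, 2, 0, 1, 0, 2, 0, 2, 0, 2, 0, 1, 0, 3, 14, 3, 0, 2, 0, 1, 0, 1, 0, 1, 0, 2, 0, 1,
    0, 2, 0, 2, 0, 2, 0, 1, 0, 3, 10, 25, 27, 28, 30, 31, 32, 34],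
  [
    0, 2, 0, 2, 0, 1, 0, 2, 0, 1, 0, 2, 0, 1, 0, 1, 0, 10, 3, 6, 7, 3, 10, 0, 2, 0, 2, 0, 1, 0, 2, 0, 1, 0, 2, 0, 1, 0,
    1, 0, 25, 28, 29, 31, 32, 33],
  [
    0, 2, 0, 2, 0, 1, 0, 2, 0, 1, 0, 2, 0, 1, 0, 1, 0, 10, 3, 5, 7, 3, 10, 0, 2, 0, 2, 0, 1, 0, 2, 0, 1, 0, 2, 0, 1, 0,
    1, 0, 25, 26, 28, 34],
  [
    0, 2, 0, 2, 0, 2, 0, 2, 0, 2, 0, 2, 0, 1, 0, 2, 0, 1, 0, 1, 0, 10, 3, 5, 6, 3, 10, 0, 2, 0, 2, 0, 1, 0, 2, 0, 1, 0,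
    1, 0, 1, 0, 1, 0, 1, 0, 1, 0, 25, 30, 32, 34]]

/-- Words, in the preceding elements, of the elements of order thirty-one and of one involution. -/
def topWords : List (List Nat) := [
  [
    38, 41, 40, 36, 39, 35, 42, 37],
  [
    40, 36, 42, 41, 35, 38, 37, 42, 39],
  [
    37, 42, 35, 39, 36, 40, 41, 38, 35],
  [
    37, 42, 35, 39, 36, 40, 41, 38, 36],
  [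
    39, 42, 37, 38, 35, 41, 42, 36, 40, 37],
  [
    39, 42, 37, 38, 35, 41, 42, 36, 40, 38],
  [
    37, 42, 35, 39, 36, 40, 41, 38, 39],
  [
    37, 42, 35, 39, 36, 40, 41, 38, 40],
  [
    39, 42, 37, 38, 35, 41, 42, 36, 40, 41],
  [
    39, 42, 37, 38, 35, 41, 42, 36, 40, 42],
  [
    29, 34]]


end CfsgLib.JFourTen
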