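import Cfsg.Agent.JankoFour.Lower
import Cfsg.Agent.JFourFacts.TenWords
import Cfsg.Agent.JFourFacts.TenRows

/-!
# The elements used for the local subgroup `2¹⁰:L₅(2)` and their matrices of size 112
-/

set_option autoImplicit false
set_option maxRecDepth 100000

namespace CfsgLib.JFourTen

open CfsgLib.JankoFour CfsgLib.JankoFourRep

/-- The letters below fifteen, then the elements given by rows. -/
def tenTab (c : ℕ) : List ℕ :=
  bif Nat.blt c 15 then lowTab c else tenRows.getD (c - 15) rowsX

/-- An element given by a word in the letters below fifteen. -/
def bE (c : ℕ) : Cfsg.Spor.J4 :=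
  if c < 15 then tabJ c else ((baseWords.getD (c - 15) []).map tabJ).prod

/-- An element of the complement, given by a word in the preceding ones. -/
def cE (c : ℕ) : Cfsg.Spor.J4 :=
  if c < 35 then bE c else ((baseWords.getD (c - 15) []).map bE).prod

/-- The elements of the extended alphabet. -/
def tE (c : ℕ) : Cfsg.Spor.J4 :=
  if c < 43 then cE c else ((topWords.getD (c - 43) []).map cE).prod

/-- The value of a word in the extended alphabet. -/
def wT (w : List ℕ) : Cfsg.Spor.J4 := (w.map tE).prod

theorem tenRows_good : tenRows.all (fun L => (L.length == 112) && L.all fun a => Nat.blt a lane) = true := by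
  decide +kernel

theorem tenTab_good : Good tenTab := by
  intro c
  unfold tenTab
  cases hc : Nat.blt c 15
  · rw [cond_false, List.getD_eq_getElem?_getD]
    by_cases h : c - 15 < tenRows.length
    · rw [List.getElem?_eq_getElem h, Option.getD_some]
      have := List.all_eq_true.1 tenRows_good _ (List.getElem_mem h)
      simp only [Bool.and_eq_true, beq_iff_eq, List.all_eq_true, Nat.blt_eq] at this
      exact this
    · rw [List.getElem?_eq_none (not_lt.1 h), Option.getD_none]
      have := List.all_eq_true.1 lowRows_good.2 rowsX (by simp)
      simp only [Bool.and_eq_true, beq_iff_eq, List.all_eq_true, Nat.blt_eq] at this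
      exact this
  · rw [cond_true]; exact lowTab_good c

/-- The word of a row beyond the letters. -/
def tenWord (c : ℕ) : List ℕ :=
  bif Nat.blt c 43 then baseWords.getD (c - 15) [] else topWords.getD (c - 43) []

/-- The rows of a range agree with their words. -/
def rowsOK (a n : ℕ) : Bool := (List.range n).all fun i => sameProd tenTab [a + i] (tenWord (a + i))

end CfsgLib.JFourTen
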