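import Mathlib.Init

/-! Binary trees of numbers for constant-depth lookups in kernel checks. -/

set_option autoImplicit false

namespace CfsgLib.JFourTen

/-- A binary tree of numbers. -/
inductive NatTree where
  | leaf (n : Nat)
  | node (l r : NatTree)

/-- The entry at an index, the topmost branch deciding the bit `d - 1`. -/
def NatTree.get : NatTree → Nat → Nat → Nat
  | .leaf n, _, _ => n
  | .node l r, d, i => bif Nat.testBit i (d - 1) then r.get (d - 1) i else l.get (d - 1) i

/-- The entry at an index below 256. -/
def NatTree.at8 (t : NatTree) (i : Nat) : Nat := t.get 8 i

end CfsgLib.JFourTen
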