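import Cfsg.Agent.JFourFacts.TenElem
import Cfsg.Agent.JFourFacts.TenRelQ

/-!
# The elementary abelian subgroup of order `2¹¹` and the action of `x` and `y` on it
-/

set_option autoImplicit false
set_option linter.style.haveILetI false
set_option maxRecDepth 4000

namespace CfsgLib.JFourTen

open CfsgLib.JankoFour CfsgLib.JankoFourRep

/-- The eleven basic involutions. -/
def qf (i : ℕ) : Cfsg.Spor.J4 := tE (4 + i)

theorem qf_eq {i : ℕ} (h : i < 11) : qf i = tabJ (i + 4) := by
  rw [qf, tE_low (by omega), add_comm]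

theorem idRows_len (n : ℕ) : (idRows n).length = n := by simp [idRows]

theorem qrows_ok :
    (∀ a ∈ matX, a < 2 ^ 11) ∧ (∀ a ∈ matYI, a < 2 ^ 11) ∧ matX.length = 11 ∧ matYI.length = 11 := by
  decide +kernel

variable (H : Hyp)
include H

theorem qInvols : Invols qf 11 := by
  have hmem : ∀ e : List ℕ × List ℕ, e ∈ eqChecks → (e.1.map tabJ).prod = (e.2.map tabJ).prod :=
    fun e he => H.inj (rep_eq he)
  have hc : ∀ i < 11, ∀ j < i, Commute (qf j) (qf i) := fun i hi j hj => by
    have := hmem ([j + 4, i + 4], [i + 4, j + 4]) (by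
      simp only [eqChecks, List.mem_append, List.mem_flatMap, List.mem_map, List.mem_range]
      exact Or.inl (Or.inl (Or.inl (Or.inr ⟨i, hi, j, hj, rfl⟩))))
    rw [qf_eq (hj.trans hi), qf_eq hi]
    simpa [commute_iff_eq] using this
  refine ⟨fun i hi => ?_, fun i hi j hj => ?_⟩
  · have := hmem ([i + 4, i + 4], []) (by
      simp only [eqChecks, List.mem_append, List.mem_map, List.mem_range]
      exact Or.inl (Or.inl (Or.inl (Or.inl ⟨i, hi, rfl⟩))))
    rw [qf_eq hi]
    simpa using this
  · rcases lt_trichotomy i j with h | h | h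
    · exact hc j hj i h
    · subst h; exact Commute.refl _
    · exact (hc i hi j h).symm

omit H in
theorem lowerWitness_q (i : Fin 11) : lowerWitness.q i = tabJ (i.val + 4) := by
  rw [lowerWitness]

theorem qInj : ∀ v < 2 ^ 11, pval qf 11 v = 1 → v = 0 := by
  have := H.finite
  let f : Fin 11 → Cfsg.Spor.J4 := fun i => qf i.val
  have hcard : Nat.card (Subgroup.closure (Set.range f)) = 2 ^ 11 := by
    have h1 := card_closure_involutions (fun i => rep (lowerWitness.q i)) lowerWitness.q_sq
      lowerWitness.q_comm lowerWitness.sep lowerWitness.sep_fix lowerWitness.sep_move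
    have hf : (fun i => rep (lowerWitness.q i)) = fun i => rep (f i) :=
      funext fun i => by rw [lowerWitness_q]; show _ = rep (qf i.val); rw [qf_eq i.isLt]
    rw [hf] at h1
    rw [← h1, ← Subgroup.card_map_of_injective H.inj, MonoidHom.map_closure, ← Set.range_comp]
    rfl
  have hle : Subgroup.closure (Set.range f) ≤ (qInvols H).grp := by
    rw [Subgroup.closure_le]
    rintro _ ⟨i, rfl⟩
    exact (qInvols H).gen_mem i.isLt
  have hge : 2 ^ 11 ≤ Nat.card (qInvols H).grp := hcard ▸ Subgroup.card_le_of_le hle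
  let g : Fin (2 ^ 11) → (qInvols H).grp := fun v => ⟨pval qf 11 v, v, v.isLt, rfl⟩
  have hs : Function.Surjective g := fun ⟨_, v, hv, e⟩ => ⟨⟨v, hv⟩, Subtype.ext e⟩
  have hbij := hs.bijective_of_nat_card_le (by rw [Nat.card_fin]; exact hge)
  intro v hv e
  have := congrArg Fin.val (hbij.1 (a₁ := ⟨v, hv⟩) (a₂ := ⟨0, by positivity⟩)
    (Subtype.ext (e.trans (pval_zero qf 11).symm)))
  simpa using this

theorem qf_rel {c i : ℕ} {M : List ℕ} (_hi : i < 11)
    (h : ([c, 4 + i], bitsW 4 11 (M.getD i 0) ++ [c]) ∈ relQ) :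
    tE c * qf i * (tE c)⁻¹ = pval qf 11 (M.getD i 0) := by
  have := wT_eq_of_mem H relQ_ok h
  rw [wT_pair, wT_append, wT_bitsW, wT_single] at this
  rw [mul_inv_eq_iff_eq_mul]
  exact this

omit H in
theorem xJ_inv : xJ⁻¹ = xJ := inv_eq_of_mul_eq_one_right (by rw [← pow_two]; exact xJ_sq)

theorem act_x : Act qf 11 xJ matX :=
  Act.of_gens (qInvols H) qrows_ok.2.2.1 qrows_ok.1 fun i hi => by
    have := qf_rel H (c := 0) (M := matX) hi (by
      simp only [relQ, List.mem_append, List.mem_map, List.mem_range]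
      exact Or.inl ⟨i, hi, rfl⟩)
    rw [tE_zero, xJ_inv] at this
    rw [xJ_inv]
    exact this

theorem act_yInv : Act qf 11 yJ⁻¹ matYI :=
  Act.of_gens (qInvols H) qrows_ok.2.2.2 qrows_ok.2.1 fun i hi => by
    have := qf_rel H (c := 1) (M := matYI) hi (by
      simp only [relQ, List.mem_append, List.mem_map, List.mem_range]
      exact Or.inr ⟨i, hi, rfl⟩)
    rw [tE_one] at this
    rw [inv_inv]
    exact this

theorem act_y : Act qf 11 yJ matY := by
  have h : yJ⁻¹ * yJ⁻¹ = yJ := by
    rw [← mul_inv_rev, inv_eq_iff_mul_eq_one, ← pow_two, ← pow_succ]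
    exact yJ_cube
  simpa only [h, matY] using (act_yInv H).mul (act_yInv H)

theorem act_one : Act qf 11 1 (idRows 11) := by
  simpa [pval_zero, idRows] using Act.pval_self (qInvols H) 0

theorem act_let {c : ℕ} (h : c < 3) : Act qf 11 (tE c) (letMat c) := by
  interval_cases c
  · rw [tE_zero]; exact act_x H
  · rw [tE_one]; exact act_y H
  · rw [tE_two]; exact act_yInv H

theorem act_word : ∀ w : List ℕ, (∀ c ∈ w, c < 3) → Act qf 11 (wT w) (wordMat w)
  | [], _ => act_one H
  | c :: w, h => by
    rw [wT_cons]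
    exact (act_let H (h c List.mem_cons_self)).mul (act_word w fun a ha => h a (List.mem_cons_of_mem _ ha))

theorem act_pval (v : ℕ) : Act qf 11 (pval qf 11 v) (idRows 11) := Act.pval_self (qInvols H) v

end CfsgLib.JFourTen
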